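import Cfsg.Agent.Lib.Root.J1F

set_option autoImplicit false
set_option maxRecDepth 100000

/-! # More facts about `2 × A₅` -/

namespace Cfsg.Agent.Lib.Root.J1

theorem T_rel : ∀ x ∈ [x0, x0⁻¹], t0 * t0 = 1 ∧ v0 * v0 = 1 ∧ s0 * s0 = 1 ∧ x * (x * x) = 1 ∧
    t0 * (v0 * (t0 * v0)) = 1 ∧ t0 * (x * (t0 * x⁻¹)) = 1 ∧ t0 * (s0 * (t0 * s0)) = 1 ∧
    x * (v0 * (x * (v0 * (x * v0)))) = 1 ∧ v0 * (s0 * (v0 * (s0 * (v0 * s0)))) = 1 ∧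
    x * (s0 * (x * s0)) = 1 := by
  decide +kernel

theorem T_rel2 : ∀ x ∈ [x0, x0⁻¹], v0 * (x * v0 * x⁻¹) * (x * (x * v0 * x⁻¹) * x⁻¹) = 1 ∧
    s0 ≠ 1 ∧ s0 ≠ t0 ∧ x ^ 3 = 1 ∧ x ≠ 1 ∧ s0 * x * s0⁻¹ = x⁻¹ := by
  decide +kernel

theorem T_rel3 : ∀ x ∈ [x0, x0⁻¹], ∀ r, r = x * v0 * x⁻¹ * s0 * v0 * x⁻¹ →
      r * s0 = s0 * r ∧ r ≠ 1 ∧ r ≠ t0 ∧ r ≠ s0 ∧ r ≠ s0 * t0 := by
  decide +kernel

set_option synthInstance.maxSize 2000 in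
theorem T_rel4 : ∀ x ∈ [x0, x0⁻¹], ∀ b, b * v0 = v0 * b →
    b = 1 ∨ b = t0 ∨ (b = v0 ∨ x * b * x⁻¹ = v0 ∨ x⁻¹ * b * x⁻¹⁻¹ = v0) ∨
      ∀ c, c * v0 = v0 * c → c = 1 ∨ c = t0 ∨ (c = v0 ∨ x * c * x⁻¹ = v0 ∨ x⁻¹ * c * x⁻¹⁻¹ = v0) ∨
        c = b ∨ c = x * b * x⁻¹ ∨ c = x * (x * b * x⁻¹) * x⁻¹ := by
  decide +kernel

theorem T_three : ∀ t : T, t * t = 1 → t ≠ 1 → t ≠ t0 → ∀ u : T, u * u = 1 → u ≠ t →
    (u * t) ^ 5 = 1 → ∀ m : T, m * t = t * m → m ≠ 1 → m ≠ t0 → m ≠ t → m ≠ t0 * t →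
    (m * u) ^ 3 = 1 ∨ (m * t0 * u) ^ 3 = 1 ∨ (m * t * u) ^ 3 = 1 ∨ (m * t0 * t * u) ^ 3 = 1 := by
  decide +kernel

theorem T_xinv : x0⁻¹ = x0 ^ 2 := by decide +kernel

theorem T_gen (K : Subgroup T) (h0 : t0 ∈ K) (h1 : v0 ∈ K) (h2 : x0 ∈ K) (h3 : s0 ∈ K) (b : T) :
    b ∈ K := by
  have h4 : ∀ k, gT k ∈ K := fun k => by
    match k with
    | 0 => exact h0
    | 1 => exact h1
    | 2 => exact h2
    | k + 3 => rw [show gT (k + 3) = s0 by simp [gT, s0]]; exact h3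
  have h5 : ∀ (w : List ℕ) (a : T), a ∈ K → w.foldl (fun m k => m * gT k) a ∈ K := by
    intro w
    induction w with
    | nil => exact fun a h => h
    | cons k w ih => exact fun a h => ih _ (mul_mem h (h4 k))
  rw [← one_mul b, mul_eq_foldl]
  exact h5 _ _ (one_mem K)

theorem arith3 : ∀ i ≤ 58520, i ∣ 58520 → i % 7 = 1 → 58520 / i % 2 = 1 → i = 8 := by
  have : (List.range 58521).all (fun i => !(58520 % i == 0) || !(i % 7 == 1) ||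
      !(58520 / i % 2 == 1) || i == 8) = true := by decide +kernel
  intro i hi h1 h2 h3
  have := List.all_eq_true.1 this i (List.mem_range.2 (by omega))
  simpa [Nat.mod_eq_zero_of_dvd h1, h2, h3] using this

theorem arith4 : ∀ n ≤ 1463, n * 120 ∣ 175560 → 7 ∣ n * 120 → n % 8 = 7 → 31 ≤ n →
    n * 120 = 175560 := by
  decide +kernel

end Cfsg.Agent.Lib.Root.J1
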