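import Cfsg.Agent.Lib.Root.J1TCa
import Cfsg.Agent.Lib.Root.J1TCb

set_option autoImplicit false

/-! # A presentation of `J₁`: bounds from the coset enumerations -/

namespace Cfsg.Agent.Lib.Root.J1

open Subgroup TC

variable {G : Type*} [Group G]

/-- the relations common to all cases -/
structure Rel (t v x z s u : G) : Prop where
  r1 : t * t = 1
  r2 : v * v = 1
  r3 : s * s = 1
  r4 : x * (x * x) = 1
  r5 : t * (v * (t * v)) = 1
  r6 : t * (x * (t * x⁻¹)) = 1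
  r7 : t * (s * (t * s)) = 1
  r8 : x * (v * (x * (v * (x * v)))) = 1
  r9 : v * (s * (v * (s * (v * s)))) = 1
  r10 : x * (s * (x * s)) = 1
  r11 : z * (z * (z * (z * (z * (z * z))))) = 1
  r12 : x * (z * (x⁻¹ * (z⁻¹ * z⁻¹))) = 1
  r13 : z * (t * (z⁻¹ * v)) = 1
  r14 : z * (v * (z⁻¹ * (x * (v * x⁻¹)))) = 1
  r15 : z * (x * (v * (x⁻¹ * (z⁻¹ * (t * v))))) = 1
  r16 : u * u = 1
  r17 : u * (x * (u * x⁻¹)) = 1
  r18 : u * (z * (u * z)) = 1
  r19 : u * (t * (u * (t * (u * (t * (u * (t * (u * t)))))))) = 1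

variable [Finite G] {t v x z s u : G}

theorem Rel.card_H (h : Rel t v x z s u) : Nat.card (closure {y | y ∈ [t, v, x, z]}) ≤ 168 := by
  have := tcH_card (γ := [t, v, x, z]) rfl (by
    simp [tcH_rels, ev, lv, h.r1, h.r2, h.r4, h.r5, h.r6, h.r8, h.r11, h.r12, h.r13, h.r14, h.r15])
    (K := ⊥) (by simp)
  simpa using this

omit [Finite G] in
theorem sub_mem : ∀ y ∈ [0, 2, 4, 6], lv [t, v, x, z, s, u] y ∈ closure {y | y ∈ [t, v, x, z]} := by
  simp only [List.mem_cons, List.not_mem_nil, or_false]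
  rintro y (rfl | rfl | rfl | rfl) <;> exact subset_closure (by simp [lv])

theorem Rel.card_good (h : Rel t v x z s u) (h1 : u * s * (u * s) = 1)
    (h2 : (x * v * x⁻¹ * s * v * x⁻¹ * t * u) ^ 3 = 1) :
    Nat.card (closure {y | y ∈ [t, v, x, z, s, u]}) ≤ 175560 := by
  simp only [pow_succ, pow_zero, one_mul, mul_assoc] at h1 h2
  refine (tc2_card rfl ?_ sub_mem).trans (Nat.mul_le_mul_left 1045 h.card_H)
  simp [tc2_rels, ev, lv, h.r1, h.r2, h.r3, h.r4, h.r5, h.r6, h.r7, h.r8, h.r9, h.r10, h.r11, h.r12,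
    h.r13, h.r14, h.r15, h.r16, h.r17, h.r18, h.r19, h1, h2]

theorem Rel.card_bad1 (h : Rel t v x z s u) (h1 : u * s * (u * s) = 1)
    (h2 : (x * v * x⁻¹ * s * v * x⁻¹ * u) ^ 3 = 1 ∨ (x * v * x⁻¹ * s * v * x⁻¹ * s * u) ^ 3 = 1 ∨
      (x * v * x⁻¹ * s * v * x⁻¹ * s * t * u) ^ 3 = 1) :
    Nat.card (closure {y | y ∈ [t, v, x, z, s, u]}) ≤ 168 := by
  simp only [pow_succ, pow_zero, one_mul, mul_assoc] at h1 h2
  rcases h2 with h2 | h2 | h2
  on_goal 1 => refine (tc0_card rfl ?_ sub_mem).trans (Nat.mul_le_mul_left 1 h.card_H)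
  on_goal 2 => refine (tc1_card rfl ?_ sub_mem).trans (Nat.mul_le_mul_left 1 h.card_H)
  on_goal 3 => refine (tc3_card rfl ?_ sub_mem).trans (Nat.mul_le_mul_left 1 h.card_H)
  all_goals
    simp [tc0_rels, tc1_rels, tc3_rels, ev, lv, h.r1, h.r2, h.r3, h.r4, h.r5, h.r6, h.r7, h.r8, h.r9,
      h.r10, h.r11, h.r12, h.r13, h.r14, h.r15, h.r16, h.r17, h.r18, h.r19, h1, h2]

theorem Rel.card_bad2 (h : Rel t v x z s u) (h1 : u * (s * t) * (u * (s * t)) = 1)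
    (h2 : (x * v * x⁻¹ * s * v * x⁻¹ * u) ^ 3 = 1 ∨ (x * v * x⁻¹ * s * v * x⁻¹ * s * u) ^ 3 = 1 ∨
      (x * v * x⁻¹ * s * v * x⁻¹ * t * u) ^ 3 = 1 ∨
      (x * v * x⁻¹ * s * v * x⁻¹ * s * t * u) ^ 3 = 1) :
    Nat.card (closure {y | y ∈ [t, v, x, z, s, u]}) ≤ 168 := by
  simp only [pow_succ, pow_zero, one_mul, mul_assoc] at h1 h2
  rcases h2 with h2 | h2 | h2 | h2
  on_goal 1 => refine (tc4_card rfl ?_ sub_mem).trans (Nat.mul_le_mul_left 1 h.card_H)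
  on_goal 2 => refine (tc5_card rfl ?_ sub_mem).trans (Nat.mul_le_mul_left 1 h.card_H)
  on_goal 3 => refine (tc6_card rfl ?_ sub_mem).trans (Nat.mul_le_mul_left 1 h.card_H)
  on_goal 4 => refine (tc7_card rfl ?_ sub_mem).trans (Nat.mul_le_mul_left 1 h.card_H)
  all_goals
    simp [tc4_rels, tc5_rels, tc6_rels, tc7_rels, ev, lv, h.r1, h.r2, h.r3, h.r4, h.r5, h.r6, h.r7,
      h.r8, h.r9, h.r10, h.r11, h.r12, h.r13, h.r14, h.r15, h.r16, h.r17, h.r18, h.r19, h1, h2]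

/-- generators satisfying the presentation of `J₁` -/
def Pres (G : Type*) [Group G] : Prop := ∃ t v x z s u : G, Rel t v x z s u ∧
  u * s * (u * s) = 1 ∧ (x * v * x⁻¹ * s * v * x⁻¹ * t * u) ^ 3 = 1 ∧
  closure {y | y ∈ [t, v, x, z, s, u]} = ⊤

theorem bij_of_map {M : Type*} [Group M] {D : Subgroup G} (f : G →* M) (hf : D.map f = ⊤)
    (hM : Nat.card D ≤ Nat.card M) : Function.Bijective (f.comp D.subtype) := by
  have : Function.Surjective (f.comp D.subtype) := fun m => by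
    obtain ⟨y, hy, e⟩ := hf.ge (mem_top m)
    exact ⟨⟨y, hy⟩, e⟩
  exact this.bijective_of_nat_card_le hM

theorem Pres.iso {G' : Type*} [Group G'] [Finite G'] (h : Pres G) (h' : Pres G')
    (c : Nat.card G = 175560) (c' : Nat.card G' = 175560) : Nonempty (G ≃* G') := by
  obtain ⟨t, v, x, z, s, u, h, h1, h2, h3⟩ := h
  obtain ⟨t', v', x', z', s', u', h', h1', h2', h3'⟩ := h'
  have R : Rel (t, t') (v, v') (x, x') (z, z') (s, s') (u, u') :=
    ⟨Prod.ext h.r1 h'.r1, Prod.ext h.r2 h'.r2, Prod.ext h.r3 h'.r3, Prod.ext h.r4 h'.r4,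
      Prod.ext h.r5 h'.r5, Prod.ext h.r6 h'.r6, Prod.ext h.r7 h'.r7, Prod.ext h.r8 h'.r8,
      Prod.ext h.r9 h'.r9, Prod.ext h.r10 h'.r10, Prod.ext h.r11 h'.r11, Prod.ext h.r12 h'.r12,
      Prod.ext h.r13 h'.r13, Prod.ext h.r14 h'.r14, Prod.ext h.r15 h'.r15, Prod.ext h.r16 h'.r16,
      Prod.ext h.r17 h'.r17, Prod.ext h.r18 h'.r18, Prod.ext h.r19 h'.r19⟩
  have h4 := R.card_good (Prod.ext h1 h1') (Prod.ext h2 h2')
  set D := closure {y | y ∈ [(t, t'), (v, v'), (x, x'), (z, z'), (s, s'), (u, u')]} with hD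
  refine ⟨(MulEquiv.ofBijective _ (bij_of_map (MonoidHom.fst G G') ?_ (c ▸ h4))).symm.trans
    (MulEquiv.ofBijective _ (bij_of_map (MonoidHom.snd G G') ?_ (c' ▸ h4)))⟩
  · rw [hD, MonoidHom.map_closure, eq_top_iff, ← h3]
    refine closure_mono fun y hy => ?_
    simp only [List.mem_cons, List.not_mem_nil, or_false, Set.mem_setOf_eq] at hy ⊢
    rcases hy with rfl | rfl | rfl | rfl | rfl | rfl <;> simp
  · rw [hD, MonoidHom.map_closure, eq_top_iff, ← h3']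
    refine closure_mono fun y hy => ?_
    simp only [List.mem_cons, List.not_mem_nil, or_false, Set.mem_setOf_eq] at hy ⊢
    rcases hy with rfl | rfl | rfl | rfl | rfl | rfl <;> simp

end Cfsg.Agent.Lib.Root.J1
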