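import Cfsg.Agent.Lib.Root.J1g
import Cfsg.Agent.Lib.Root.J1h
import Cfsg.Agent.Lib.Root.J1F2

set_option autoImplicit false

/-! # Generators of a simple group with involution centraliser `2 × A₅` -/

namespace Cfsg.Agent.Lib.Root.J1

open Subgroup

variable {G : Type*} [Group G] [Finite G]

theorem mem_zpowers7 {z y : G} (hz : orderOf z = 7) (hy : y ∈ zpowers z) : ∃ k < 7, y = z ^ k := by
  classical
  obtain ⟨i, hi, rfl⟩ := Finset.mem_image.1 (mem_zpowers_iff_mem_range_orderOf.1 hy)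
  exact ⟨i, by simpa [hz] using hi, rfl⟩

theorem conj_iter {x z : G} {k : ℕ} (h : x * z * x⁻¹ = z ^ k) (m : ℕ) :
    x ^ m * z * (x ^ m)⁻¹ = z ^ k ^ m := by
  induction m with
  | zero => simp
  | succ m ih =>
    calc _ = x * (x ^ m * z * (x ^ m)⁻¹) * x⁻¹ := by rw [pow_succ']; group
      _ = _ := by rw [ih, ← conj_pow, h, ← pow_mul, pow_succ']

variable {t₀ : G} {φ₀ : T →* G} (H : Hyp t₀ φ₀)
include H

theorem Hyp.not_comm7 {z y : G} (hz : orderOf z = 7) {q : ℕ} (hq : q = 2 ∨ q = 3 ∨ q = 5)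
    (hy : orderOf y = q) : y * z ≠ z * y := fun e => by
  have := (Subgroup.orderOf_dvd_natCard _ (mem_centralizer_singleton_iff.2 e.symm)).trans
    (H.card_cent_dvd hq hy)
  rw [hz] at this
  omega

theorem Hyp.ex_z0 : ∃ z ∈ normalizer (SS φ₀ : Set G), orderOf z = 7 ∧ ∃ x ∈ [x0, x0⁻¹],
    φ₀ x * z * (φ₀ x)⁻¹ = z ^ 2 := by
  haveI : Fact (Nat.Prime 7) := ⟨by norm_num⟩
  set K := normalizer (SS φ₀ : Set G)
  have hK : Nat.card K = 168 := H.card_H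
  let x : K := ⟨φ₀ x0, H.mem_norm.2 T_x_N⟩
  have hx' : orderOf (φ₀ x0) = 3 := orderOf_eq_prime (by rw [← map_pow, T_x.1, map_one])
    (by rw [Ne, H.emb.eq_one]; exact T_x.2)
  have hx : orderOf x = 3 := by rw [← Subgroup.orderOf_coe]; exact hx'
  have a1 := fun P => sylow_card (p := 7) (m := 24) hK (by decide) P
  obtain ⟨P, hP⟩ := (Invol.isPGroup_zpowers_of_orderOf (p := 3) (k := 1) (x := x)
    hx).nonempty_fixed_point_of_prime_not_dvd_card (Sylow 7 K) (by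
      obtain ⟨P⟩ : Nonempty (Sylow 7 K) := inferInstance
      have a3 := (a1 P).2
      have a4 : _ % 7 = 1 := card_sylow_modEq_one 7 K
      have : ∀ n ≤ 24, n ∣ 24 → n % 7 = 1 → ¬ 3 ∣ n := by decide +kernel
      exact this _ (Nat.le_of_dvd (by norm_num) a3) a3 a4)
  have h1 : x ∈ normalizer (P : Set K) := Sylow.smul_eq_iff_mem_normalizer.1
    (hP ⟨x, mem_zpowers x⟩)
  obtain ⟨z, hz⟩ := exists_prime_orderOf_dvd_card' (G := P) 7 (by rw [(a1 P).1])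
  have hz1 : orderOf (z : K) = 7 := (Subgroup.orderOf_coe z).trans hz
  have hz2 : orderOf ((z : K) : G) = 7 := (Subgroup.orderOf_coe (z : K)).trans hz1
  have h2 : zpowers (z : K) = P := eq_of_le_of_card_ge (zpowers_le.2 z.2) (by
    rw [Nat.card_zpowers, hz1]; exact (a1 P).1.le)
  obtain ⟨k, hk, e⟩ := mem_zpowers7 hz1 (h2.ge ((mem_normalizer_iff.1 h1 z).1 z.2))
  replace e : φ₀ x0 * z * (φ₀ x0)⁻¹ = ((z : K) : G) ^ k := congrArg Subtype.val e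
  refine ⟨_, (z : K).2, hz2, ?_⟩
  generalize ((z : K) : G) = z at *
  have h3 := conj_iter e 3
  rw [← hx', pow_orderOf_eq_one, hx', one_mul, inv_one, mul_one] at h3
  have h4 : 1 ≡ k ^ 3 [MOD 7] := by rwa [← hz2, ← pow_eq_pow_iff_modEq, pow_one]
  have h5 : k = 1 ∨ k = 2 ∨ k = 4 := by
    revert h4; interval_cases k <;> decide
  rcases h5 with rfl | rfl | rfl
  · exact absurd (mul_inv_eq_iff_eq_mul.1 (e.trans (pow_one z))) (H.not_comm7 hz2 (by simp) hx')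
  · exact ⟨x0, by simp, e⟩
  · refine ⟨x0⁻¹, by simp, ?_⟩
    rw [T_xinv, map_pow, conj_iter e, pow_eq_pow_iff_modEq, hz2]
    decide

theorem Hyp.ex_z : ∃ z, orderOf z = 7 ∧ z * t₀ * z⁻¹ = φ₀ v0 ∧ ∃ x ∈ [x0, x0⁻¹],
    φ₀ x * z * (φ₀ x)⁻¹ = z ^ 2 := by
  obtain ⟨z, hzK, hz, x, hx, e⟩ := H.ex_z0
  have key : ∀ z b, orderOf z = 7 → z * t₀ * z⁻¹ = φ₀ b → φ₀ x * z * (φ₀ x)⁻¹ = z ^ 2 →
      (b = v0 ∨ x * b * x⁻¹ = v0 ∨ x⁻¹ * b * x⁻¹⁻¹ = v0) → ∃ z, orderOf z = 7 ∧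
      z * t₀ * z⁻¹ = φ₀ v0 ∧ φ₀ x * z * (φ₀ x)⁻¹ = z ^ 2 := by
    intro z b h1 h2 h3 h4
    have : ∀ y, y * x = x * y → y * b * y⁻¹ = v0 → ∃ z, orderOf z = 7 ∧
        z * t₀ * z⁻¹ = φ₀ v0 ∧ φ₀ x * z * (φ₀ x)⁻¹ = z ^ 2 := fun y h5 h6 => by
      refine ⟨φ₀ y * z * (φ₀ y)⁻¹, by rwa [Invol.orderOf_conj'], ?_, ?_⟩
      · rw [← h6, map_mul, map_mul, ← h2, map_inv]
        conv_lhs => rw [← conj_comm' (H.emb.comm y).symm]
        group
      · rw [conj_pow, ← h3]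
        have := congrArg φ₀ h5
        rw [map_mul, map_mul] at this
        calc _ = (φ₀ x * φ₀ y) * z * (φ₀ x * φ₀ y)⁻¹ := by group
          _ = _ := by rw [← this]; group
    rcases h4 with h4 | h4 | h4
    exacts [this 1 (by simp) (by simpa using h4), this x rfl h4, this x⁻¹ (by simp) h4]
  have hS : t₀ ∈ SS φ₀ := by rw [← H.emb.map_t, H.emb.mem_SS, T_t_comm]
  have hne : ∀ k, ¬ 7 ∣ k → z ^ k * t₀ ≠ t₀ * z ^ k := fun k hk e => by
    have := H.pow30 H.emb.iv e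
    rw [← pow_mul, ← orderOf_dvd_iff_pow_eq_one, hz] at this
    omega
  obtain ⟨b, hb, eb⟩ := mem_SS.1 ((mem_normalizer_iff.1 hzK _).1 hS)
  obtain ⟨c, hc, ec⟩ := mem_SS.1 ((mem_normalizer_iff.1 (inv_mem hzK) _).1 hS)
  have hxt : ∀ y : G, φ₀ x * (y * t₀ * y⁻¹) * (φ₀ x)⁻¹ =
      (φ₀ x * y * (φ₀ x)⁻¹) * t₀ * (φ₀ x * y * (φ₀ x)⁻¹)⁻¹ := fun y => by
    conv_rhs => rw [← conj_comm' (H.emb.comm x).symm]
    group
  have hcz : ∀ k, ¬ 7 ∣ k + 1 → φ₀ c ≠ z ^ k * t₀ * (z ^ k)⁻¹ := fun k hk e => hne _ hk (by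
    rw [ec] at e
    calc z ^ (k + 1) * t₀ = z * (z ^ k * t₀ * (z ^ k)⁻¹) * z ^ k := by group
      _ = _ := by rw [← e]; group)
  rcases T_rel4 x hx b hb with rfl | rfl | h1 | h1
  · exact absurd (by simpa using eb.symm) H.emb.iv.1
  · rw [H.emb.map_t] at eb
    exact absurd (by simpa using mul_inv_eq_iff_eq_mul.1 eb.symm) (hne 1 (by decide))
  · obtain ⟨z, h2, h3, h4⟩ := key z b hz eb.symm e h1
    exact ⟨z, h2, h3, x, hx, h4⟩
  have e2 : φ₀ (x * b * x⁻¹) = z ^ 2 * t₀ * (z ^ 2)⁻¹ := by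
    rw [map_mul, map_mul, map_inv, eb, hxt, e]
  rcases h1 c hc with rfl | rfl | h2 | rfl | rfl | rfl
  · exact absurd (ec.symm.trans (map_one φ₀)) (H.emb.iv.conj z⁻¹).1
  · exact absurd (by simp [H.emb.map_t]) (hcz 0 (by decide))
  · obtain ⟨z, h2, h3, h4⟩ := key z⁻¹ c (by rwa [orderOf_inv]) ec.symm
      (by rw [← conj_inv, e, inv_pow]) h2
    exact ⟨z, h2, h3, x, hx, h4⟩
  · exact absurd (by simpa using eb) (hcz 1 (by decide))
  · exact absurd e2 (hcz 2 (by decide))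
  · refine absurd ?_ (hcz 4 (by decide))
    rw [map_mul, map_mul, map_inv, e2, hxt, ← conj_pow, e, ← pow_mul]

theorem Hyp.ex_inv [IsSimpleGroup G] {z x : G} (hz : orderOf z = 7) (hx : orderOf x = 3)
    (e : x * z * x⁻¹ = z ^ 2) : ∃ u, Iv u ∧ u * z * u⁻¹ = z⁻¹ := by
  haveI : Fact (Nat.Prime 7) := ⟨by norm_num⟩
  by_contra! hc
  obtain ⟨P, hP⟩ := sylow_zpowers hz (by rw [H.card_G]; decide)
  have h1 := P.card_eq_index_normalizer
  have h2 : _ % 7 = 1 := card_sylow_modEq_one 7 G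
  rw [h1, ← Sylow.coe_coe, hP] at h2
  set N := normalizer (zpowers z : Set G)
  have h3 : Odd (Nat.card N) := Invol.odd_card_iff_no_involution.2 fun u hu hu2 => by
    have hu' : Iv u := ⟨Invol.ne_one_of_orderOf_two hu2, Invol.mul_self_of_orderOf_two hu2⟩
    obtain ⟨k, hk, e⟩ := mem_zpowers7 hz ((mem_normalizer_iff.1 hu z).1 (mem_zpowers z))
    have h3 := conj_iter e 2
    rw [pow_two, hu'.2, one_mul, inv_one, mul_one] at h3
    have h4 : 1 ≡ k ^ 2 [MOD 7] := by rwa [← hz, ← pow_eq_pow_iff_modEq, pow_one]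
    have h5 : k = 1 ∨ k = 6 := by
      revert h4; interval_cases k <;> decide
    rcases h5 with rfl | rfl
    · exact H.not_comm7 hz (by simp) hu2 (mul_inv_eq_iff_eq_mul.1 (e.trans (pow_one z)))
    · refine hc u hu' (e.trans (eq_inv_of_mul_eq_one_left ?_))
      rw [← pow_succ, ← orderOf_dvd_iff_pow_eq_one, hz]
  obtain ⟨m, hm⟩ : 3 ∣ Nat.card N := hx ▸ Subgroup.orderOf_dvd_natCard _
    (mem_normalizer_fintype (by
      rintro _ ⟨i, rfl⟩
      show x * z ^ i * x⁻¹ ∈ zpowers z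
      rw [← conj_zpow, e]
      exact zpow_mem (pow_mem (mem_zpowers z) 2) i))
  have h4 := N.index_mul_card
  rw [H.card_G, hm] at h4
  rw [hm] at h3
  have h5 : N.index = 8 := by
    have h6 : N.index * m = 58520 := by linarith
    refine arith3 _ (Nat.le_of_dvd (by norm_num) ⟨m, h6.symm⟩) ⟨m, h6.symm⟩ h2 ?_
    rw [← h6, Nat.mul_div_cancel_left _ (by omega)]
    exact Nat.odd_iff.1 (Nat.odd_mul.1 h3).2
  have := Invol.card_dvd_factorial_index (H := N) (fun e => by simp [e] at h5)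
  rw [h5, H.card_G] at this
  exact absurd this (by decide)

theorem Trip.iv_struct {t s g u : G} (h : Trip 3 t s g) (hu : Iv u) (hug : u * g = g * u) :
    (u * t) ^ 5 = 1 ∧ (u * s = s * u ∨ u * (s * t) = s * t * u) := by
  obtain ⟨k, hk, rfl⟩ := h.iv_conj H hu hug
  obtain ⟨a, ha, b, hb, n, hn, rfl⟩ := h.K_decomp H hk
  have key : ∀ {s a : G}, Trip 3 t s g → a ∈ OK g ⊓ centralizer {s} →
      (a * t * a⁻¹ * t) ^ 5 = 1 ∧ a * t * a⁻¹ * s = s * (a * t * a⁻¹) := fun {s a} h ha => by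
    have h1 := mem_centralizer_singleton_iff.1 ha.2
    have h2 : a ^ 5 = 1 := by
      have := pow_card_eq_one' (x := (⟨a, ha⟩ : (OK g ⊓ centralizer {s} : Subgroup G)))
      rcases h.A_card H with e | e <;> rw [e] at this
      · rw [show a = 1 by simpa using this, one_pow]
      · simpa using this
    constructor
    · have := h.A_inv H (inv_mem ha.1) (Commute.inv_left h1)
      rw [h.it.inv] at this
      rw [mul_assoc, mul_assoc, ← mul_assoc t, this, inv_inv, ← pow_two, ← pow_mul, mul_comm,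
        pow_mul, h2, one_pow]
    · exact (Commute.mul_left (Commute.mul_left h1 h.comm.symm) (Commute.inv_left h1)).eq
  have h1 : a * b * n * t * (a * b * n)⁻¹ = a * b * t * (a * b)⁻¹ := by
    conv_rhs => rw [← conj_comm' (comm_of_mem_zpowers hn h.tg.symm)]
    group
  rw [h1]
  rcases h.AB H with e | e
  · rw [show a = 1 from mem_bot.1 (card_eq_one.1 e ▸ ha), one_mul]
    exact (key h.swap hb).imp_right .inr
  · rw [show b = 1 from mem_bot.1 (card_eq_one.1 e ▸ hb), mul_one]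
    exact (key h ha).imp_right .inl

theorem Hyp.three {s t u m : G} (hs : Iv s) (ht : Iv t) (hst : s * t = t * s) (hne : s ≠ t)
    (hu : Iv u) (hus : u * s = s * u) (hut : u ≠ t) (h5 : (u * t) ^ 5 = 1) (h1 : m * s = s * m)
    (h2 : m * t = t * m) (h3 : m ≠ 1) (h4 : m ≠ s) (h6 : m ≠ t) (h7 : m ≠ s * t) :
    (m * u) ^ 3 = 1 ∨ (m * s * u) ^ 3 = 1 ∨ (m * t * u) ^ 3 = 1 ∨ (m * s * t * u) ^ 3 = 1 := by
  obtain ⟨ψ, hψ⟩ := H.emb_iv hs
  obtain ⟨t, rfl⟩ := hψ.surj t hst.symm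
  obtain ⟨u, rfl⟩ := hψ.surj u hus
  obtain ⟨m, rfl⟩ := hψ.surj m h1
  obtain rfl := hψ.map_t
  have a1 := ht.1
  have a2 := ht.2
  have a3 := hu.2
  simp only [Ne, ← map_mul, ← map_pow, hψ.eq_one, hψ.eq_iff] at *
  exact T_three t a2 a1 (Ne.symm hne) u a3 hut h5 m h2 h3 h4 h6 h7

theorem Hyp.eq_top [IsSimpleGroup G] {L : Subgroup G} (h1 : ∀ a, φ₀ a ∈ L) {z : G} (hz : z ∈ L)
    (hz7 : orderOf z = 7) (e : z * t₀ * z⁻¹ = φ₀ v0) : L = ⊤ := by
  have ht : t₀ ∈ L := H.emb.map_t ▸ h1 t0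
  have hd := H.card_G ▸ L.card_subgroup_dvd_card
  have HL : Hyp (⟨t₀, ht⟩ : L) (φ₀.codRestrict L h1) := by
    refine ⟨⟨fun a b e => H.emb.inj (congrArg Subtype.val e), Subtype.ext H.emb.map_t, fun g hg => ?_⟩,
      fun h => H.not16 (h.trans L.card_subgroup_dvd_card),
      isConj_iff.2 ⟨⟨z, hz⟩, Subtype.ext e⟩⟩
    obtain ⟨a, ha⟩ := H.emb.surj g (congrArg Subtype.val hg)
    exact ⟨a, Subtype.ext ha⟩
  have h2 := HL.ncard_iv
  have h3 := HL.ncard_iv_mod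
  have h4 : 31 ≤ {u : L | Iv u}.ncard := HL.emb.ncard_iv ▸ Set.ncard_le_ncard fun u hu => hu.1
  have h5 := hz7 ▸ Subgroup.orderOf_dvd_natCard _ hz
  rw [← h2] at hd h5
  rw [← card_eq_iff_eq_top, H.card_G, ← h2]
  exact arith4 _ (by have := Nat.le_of_dvd (by norm_num) hd; omega) hd h5 h3 h4

theorem Hyp.pres [IsSimpleGroup G] : Pres G := by
  obtain ⟨z, hz, ez, x, hx, e⟩ := H.ex_z
  obtain ⟨r1, r2, r3, r4, r5, r6, r7, r8, r9, r10⟩ := T_rel x hx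
  obtain ⟨r11, r12, r13, r14, r15, r16⟩ := T_rel2 x hx
  obtain ⟨q1, q2, q3, q4, q5⟩ := T_rel3 x hx _ rfl
  have E := H.emb
  obtain rfl := E.map_t
  have m1 : ∀ {a : T}, a = 1 → φ₀ a = 1 := fun h => E.eq_one.2 h
  have Tx : Trip 3 (φ₀ t0) (φ₀ s0) (φ₀ x) := ⟨.inl rfl, E.iv, ⟨by rwa [Ne, E.eq_one],
    by rw [← map_mul, m1 r3]⟩, by rwa [Ne, E.eq_iff], E.comm _, by rw [← map_pow, m1 r14],
    by rwa [Ne, E.eq_one], E.comm _, by rw [← map_inv, ← map_mul, ← map_mul, r16, map_inv]⟩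
  have hz1 : z ≠ 1 := by rintro rfl; simp at hz
  have hz7 : z ^ 7 = 1 := hz ▸ pow_orderOf_eq_one z
  have hco : (orderOf z).Coprime 30 := by rw [hz]; decide
  obtain ⟨u', hu', huz'⟩ := H.ex_inv hz Tx.ord e
  obtain ⟨u, ⟨hu, huz⟩, hux⟩ := exists_fixed Nat.prime_three Tx.ord
    {w | Iv w ∧ w * z * w⁻¹ = z⁻¹} (by
      rintro w ⟨h1, h2⟩
      refine ⟨h1.conj _, ?_⟩
      have h3 : z = φ₀ x * z ^ 4 * (φ₀ x)⁻¹ := by
        rw [← conj_pow, e, ← pow_mul, pow_succ, hz7, one_mul]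
      conv_lhs => rw [h3]
      conv_rhs => rw [h3, conj_inv, ← Invol.conj_pow_of_inverts h2 4]
      group) (by
      rw [H.big_ncard hz1 hco hu' huz', ← Nat.prime_three.coprime_iff_not_dvd]
      exact ((H.big_coprime hz1 hco).coprime_dvd_right (by decide)).symm)
  obtain ⟨h5, hus⟩ := Tx.iv_struct H hu hux
  have e2 : z * φ₀ v0 * z⁻¹ = φ₀ x * φ₀ v0 * (φ₀ x)⁻¹ := by
    rw [← ez]
    calc _ = z ^ 2 * (φ₀ x * φ₀ t0 * (φ₀ x)⁻¹) * (z ^ 2)⁻¹ := by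
          rw [conj_comm' (E.comm x).symm, pow_two]; group
      _ = _ := by rw [← e]; group
  have hv : (φ₀ v0)⁻¹ = φ₀ v0 := inv_eq_of_mul_eq_one_right (by rw [← map_mul, m1 r2])
  have R : Rel (φ₀ t0) (φ₀ v0) (φ₀ x) z (φ₀ s0) u := by
    refine ⟨by simpa using m1 r1, by simpa using m1 r2, by simpa using m1 r3, by simpa using m1 r4,
      by simpa using m1 r5, by simpa using m1 r6, by simpa using m1 r7, by simpa using m1 r8,
      by simpa using m1 r9, by simpa using m1 r10, by simpa [pow_succ, mul_assoc] using hz7, ?_,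
      ?_, ?_, ?_, hu.2, ?_, ?_, by simpa [pow_succ, mul_assoc] using h5⟩
    · calc _ = φ₀ x * z * (φ₀ x)⁻¹ * (z ^ 2)⁻¹ := by rw [pow_two]; group
        _ = 1 := by rw [e, mul_inv_cancel]
    · calc _ = z * φ₀ t0 * z⁻¹ * (φ₀ v0)⁻¹ := by rw [hv]; group
        _ = 1 := by rw [ez, mul_inv_cancel]
    · calc _ = z * φ₀ v0 * z⁻¹ * (φ₀ x * (φ₀ v0)⁻¹ * (φ₀ x)⁻¹) := by rw [hv]; group
        _ = 1 := by rw [e2]; group
    · have h1 := m1 r11
      simp only [map_mul, map_inv] at h1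
      rw [← e2] at h1
      have h2 : φ₀ x * (z * φ₀ v0 * z⁻¹) * (φ₀ x)⁻¹ = z ^ 2 * (z * φ₀ v0 * z⁻¹) * (z ^ 2)⁻¹ := by
        conv_rhs => rw [e2, ← e]
        group
      rw [h2] at h1
      calc _ = z * (φ₀ x * φ₀ v0 * (φ₀ x)⁻¹) * z⁻¹ * φ₀ t0 * φ₀ v0 := by group
        _ = (φ₀ t0 * φ₀ v0)⁻¹ * z⁻¹ * (z * φ₀ t0 * z⁻¹ * (z * φ₀ v0 * z⁻¹) *
              (z ^ 2 * (z * φ₀ v0 * z⁻¹) * (z ^ 2)⁻¹)) * z * (φ₀ t0 * φ₀ v0) := by
          rw [← e2, pow_two]; group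
        _ = 1 := by rw [ez, h1]; group
    · rw [← mul_assoc (φ₀ x), ← hux, mul_assoc, mul_inv_cancel, mul_one, hu.2]
    · rw [hu.inv] at huz
      rw [← mul_assoc z, ← mul_assoc, ← mul_assoc, huz, inv_mul_cancel]
  set L := closure {y | y ∈ [φ₀ t0, φ₀ v0, φ₀ x, z, φ₀ s0, u]} with hL
  have hL1 : ∀ a, φ₀ a ∈ L := fun a => T_gen (L.comap φ₀) (subset_closure (by simp))
    (subset_closure (by simp)) (by
      have : φ₀ x ∈ L := subset_closure (by simp)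
      simp only [List.mem_cons, List.not_mem_nil, or_false] at hx
      rcases hx with rfl | rfl
      · exact this
      · simpa using inv_mem this) (subset_closure (by simp)) a
  have hL2 : L = ⊤ := H.eq_top hL1 (subset_closure (by simp)) hz ez
  have hL3 : ¬ Nat.card L ≤ 168 := by rw [hL2, card_top, H.card_G]; decide
  have hut : u ≠ φ₀ t0 := by
    rintro rfl
    have h1 : φ₀ v0 * φ₀ t0 = z ^ 2 := by
      calc _ = z * (φ₀ t0 * z * (φ₀ t0)⁻¹)⁻¹ * (φ₀ t0 * φ₀ t0) := by rw [← ez]; group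
        _ = _ := by rw [huz, hu.2, inv_inv, mul_one, pow_two]
    have h2 : z ^ 4 = 1 := by
      rw [show 4 = 2 + 2 from rfl, pow_add, ← h1, ← map_mul, ← map_mul]
      exact m1 (by decide +kernel)
    rw [← orderOf_dvd_iff_pow_eq_one, hz] at h2
    omega
  have hr : φ₀ (x * v0 * x⁻¹ * s0 * v0 * x⁻¹) =
      φ₀ x * φ₀ v0 * (φ₀ x)⁻¹ * φ₀ s0 * φ₀ v0 * (φ₀ x)⁻¹ := by simp
  have p1 := congrArg φ₀ q1
  have p2 := E.eq_one.not.2 q2
  have p3 := E.eq_iff.not.2 q3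
  have p4 := E.eq_iff.not.2 q4
  have p5 := E.eq_iff.not.2 q5
  have p6 := E.comm (x * v0 * x⁻¹ * s0 * v0 * x⁻¹)
  rw [map_mul, map_mul φ₀ s0] at p1
  rw [map_mul φ₀ s0] at p5
  rw [hr] at p1 p2 p3 p4 p5 p6
  rcases hus with hus | hus
  · have h1 : u * φ₀ s0 * (u * φ₀ s0) = 1 := by
      rw [mul_assoc, ← mul_assoc (φ₀ s0), ← hus, mul_assoc, Tx.is.2, mul_one, hu.2]
    rcases H.three Tx.is Tx.it Tx.comm Tx.ne hu hus hut h5 p1 p6 p2 p4 p3 p5 with h | h | h | h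
    · exact absurd (R.card_bad1 h1 (.inl h)) hL3
    · exact absurd (R.card_bad1 h1 (.inr (.inl h))) hL3
    · exact ⟨_, _, _, _, _, _, R, h1, h, hL2⟩
    · exact absurd (R.card_bad1 h1 (.inr (.inr h))) hL3
  · have h1 : u * (φ₀ s0 * φ₀ t0) * (u * (φ₀ s0 * φ₀ t0)) = 1 := by
      rw [mul_assoc, ← mul_assoc (φ₀ s0 * φ₀ t0), ← hus, mul_assoc, Tx.ist.2, mul_one, hu.2]
    have h2 : φ₀ s0 * φ₀ t0 * φ₀ t0 = φ₀ s0 := by rw [mul_assoc, Tx.it.2, mul_one]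
    refine absurd (R.card_bad2 h1 ?_) hL3
    rcases H.three Tx.ist Tx.it Tx.swap.comm Tx.swap.ne hu hus hut h5
      (Commute.mul_right p1 p6) p6 p2 p5 p3 (by rwa [h2]) with h | h | h | h
    · exact .inl h
    · exact .inr (.inr (.inr (by rwa [← mul_assoc] at h)))
    · exact .inr (.inr (.inl h))
    · exact .inr (.inl (by rwa [mul_assoc _ (φ₀ s0 * φ₀ t0), h2] at h))

end Cfsg.Agent.Lib.Root.J1
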