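import Cfsg.Agent.Lib.Root.SL2b
import Cfsg.Agent.Lib.Invol.Dihedral

set_option autoImplicit false
set_option linter.unusedSectionVars false

/-! # Recognising the unipotent subgroups of `L₂(2^n)` -/

namespace Cfsg.Agent.Lib.Root

open Cfsg Cfsg.Agent.Lib.Invol Subgroup

variable {F : Type*} [Field F] {G : Type*} [Group G]

theorem elem_comm {A : Subgroup G} (hA : ∀ a ∈ A, a * a = 1) {a b : G} (ha : a ∈ A) (hb : b ∈ A) :
    Commute a b := by
  have h1 := inv_eq_of_mul_eq_one_right (hA _ (mul_mem ha hb))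
  rw [mul_inv_rev, inv_eq_of_mul_eq_one_right (hA a ha), inv_eq_of_mul_eq_one_right (hA b hb)] at h1
  exact h1.symm

theorem card_conjBy (A : Subgroup G) (g : G) : Nat.card (conjBy A g) = Nat.card A :=
  (Nat.card_congr (conjByEquiv A g).toEquiv).symm

theorem card_unip {A B C : Subgroup G} (hC : C ∈ unipotentSubgroups A B) : Nat.card C = Nat.card A := by
  obtain ⟨x, -, rfl⟩ := hC
  exact card_conjBy A x

theorem unip_eq_of_commute {A B : Subgroup G} (h : IsRankOnePair A B) {C C' : Subgroup G}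
    (hC : C ∈ unipotentSubgroups A B) (hC' : C' ∈ unipotentSubgroups A B) {u v : G} (hu : u ∈ C) (hu1 : u ≠ 1)
    (hv : v ∈ C') (hv1 : v ≠ 1) (c : Commute u v) : C = C' := by
  by_contra hne
  exact r1_not_commute (r1_of_unip h hC hC' hne) hu hu1 hv hv1 c.eq

theorem card_upper : Nat.card (upperUnipotentSL2 F) = Nat.card F := by
  refine (Nat.card_congr (Equiv.ofBijective (fun t : F => (⟨xu t, mem_upper.2 ⟨t, rfl⟩⟩ : upperUnipotentSL2 F))
    ⟨fun s t e => xu_inj (congrArg Subtype.val e), fun g => ?_⟩)).symm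
  obtain ⟨t, ht⟩ := mem_upper.1 g.2
  exact ⟨t, Subtype.ext ht⟩

theorem invol_mem_unip [CharP F 2] (M : Matrix.SpecialLinearGroup (Fin 2) F) (hM : M * M = 1) :
    ∃ C ∈ unipotentSubgroups (upperUnipotentSL2 F) (lowerUnipotentSL2 F), M ∈ C := by
  have h2 : (2 : F) = 0 := CharP.cast_eq_zero F 2
  have hd := M.det_coe
  rw [Matrix.det_fin_two] at hd
  have e0 := congrArg (fun N : Matrix.SpecialLinearGroup (Fin 2) F => N 0 0) hM
  have e1 := congrArg (fun N : Matrix.SpecialLinearGroup (Fin 2) F => N 1 1) hM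
  simp [Matrix.mul_apply, Fin.sum_univ_two] at e0 e1
  have ad : M 1 1 = M 0 0 := by
    have : (M 1 1 - M 0 0) ^ 2 = 0 := by
      linear_combination e0 + e1 - 2 * hd - (2 * M 0 1 * M 1 0) * h2
    exact sub_eq_zero.1 (pow_eq_zero_iff two_ne_zero |>.1 this)
  by_cases hc : M 1 0 = 0
  · refine ⟨_, left_mem_unip, mem_upper.2 ⟨M 0 1, Subtype.ext ?_⟩⟩
    have a1 : M 0 0 = 1 := by
      have : (M 0 0 - 1) ^ 2 = 0 := by
        rw [hc] at e0
        linear_combination e0 + (1 - M 0 0) * h2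
      exact sub_eq_zero.1 (pow_eq_zero_iff two_ne_zero |>.1 this)
    ext i j; fin_cases i <;> fin_cases j <;> simp [hc, a1, ad]
  · refine ⟨_, unip_conj_mem (right_mem_unip sl2_r1g.2) (x := xu ((M 0 0 + 1) / M 1 0))
      (by rw [upper_sup_lower]; trivial), mem_conjBy'.2 ⟨xl (M 1 0), mem_lower.2 ⟨_, rfl⟩, ?_⟩⟩
    rw [← stRel_sl2.x_neg]
    apply Subtype.ext
    ext i j; fin_cases i <;> fin_cases j <;> simp [ad] <;> field_simp
    · linear_combination (-1 : F) * h2
    · linear_combination e0 + (1 + M 0 0) * h2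
    · linear_combination (M 0 0) * h2

theorem elem_mem_unip [CharP F 2] [Finite F] {A : Subgroup (Matrix.SpecialLinearGroup (Fin 2) F)}
    (hA : ∀ a ∈ A, a * a = 1) (hc : Nat.card A = Nat.card F) :
    A ∈ unipotentSubgroups (upperUnipotentSL2 F) (lowerUnipotentSL2 F) := by
  have hne : A ≠ ⊥ := by
    rintro rfl
    rw [card_bot] at hc
    exact (Finite.one_lt_card (α := F)).ne hc
  obtain ⟨a, ha, ha1⟩ := exists_ne_one_of_ne_bot hne
  obtain ⟨C, hC, haC⟩ := invol_mem_unip a (hA a ha)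
  have le : A ≤ C := fun b hb => by
    by_cases hb1 : b = 1
    · rw [hb1]; exact one_mem _
    obtain ⟨C', hC', hbC⟩ := invol_mem_unip b (hA b hb)
    rwa [unip_eq_of_commute sl2_r1g.2 hC hC' haC ha1 hbC hb1 (elem_comm hA ha hb)]
  rwa [eq_of_le_of_card_ge le (by rw [card_unip hC, card_upper, hc])]

theorem psl2_of_inj [CharP F 2] [Finite F] {A B : Subgroup G} (ψ : Matrix.SpecialLinearGroup (Fin 2) F →* G)
    (inj : Function.Injective ψ) (hr : A ⊔ B ≤ ψ.range) (hA : ∀ a ∈ A, a * a = 1) (hB : ∀ b ∈ B, b * b = 1)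
    (cA : Nat.card A = Nat.card F) (cB : Nat.card B = Nat.card F) (hne : A ≠ B) : IsPSL2PairOver F A B := by
  have key : ∀ A : Subgroup G, A ≤ ψ.range → (∀ a ∈ A, a * a = 1) → Nat.card A = Nat.card F →
      A.comap ψ ∈ unipotentSubgroups (upperUnipotentSL2 F) (lowerUnipotentSL2 F) := fun A h1 h2 h3 =>
    elem_mem_unip (fun a ha => inj (by rw [map_mul, map_one]; exact h2 _ ha)) (by
      rw [← h3, ← card_map_of_injective inj, map_comap_eq_self h1])
  have mA := map_comap_eq_self (le_sup_left.trans hr)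
  have mB := map_comap_eq_self (le_sup_right.trans hr)
  obtain ⟨x, -, e1, e2⟩ := r1_two_trans sl2_r1g.2 (key A (le_sup_left.trans hr) hA cA)
    (key B (le_sup_right.trans hr) hB cB) fun e => hne (by rw [← mA, e, mB])
  refine psl2_of_hom (ψ.comp (MulAut.conj x).toMonoidHom) ?_ ?_ hne
  · rw [← map_map, ← mA, ← e1]
  · rw [← map_map, ← mB, ← e2]

theorem psl2_of_iso [CharP F 2] [Finite F] {A B : Subgroup G}
    (e : ↥(A ⊔ B) ≃* Matrix.ProjectiveSpecialLinearGroup (Fin 2) F) (hA : ∀ a ∈ A, a * a = 1)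
    (hB : ∀ b ∈ B, b * b = 1) (cA : Nat.card A = Nat.card F) (cB : Nat.card B = Nat.card F) (hne : A ≠ B) :
    IsPSL2PairOver F A B := by
  have i1 : Function.Injective (QuotientGroup.mk' (center (Matrix.SpecialLinearGroup (Fin 2) F))) := by
    rw [injective_iff_map_eq_one]
    intro g hg
    rcases mem_center_sl2 ((QuotientGroup.eq_one_iff g).1 hg) with rfl | rfl
    · rfl
    · apply Subtype.ext
      ext i j
      simp [CharTwo.neg_eq]
  refine psl2_of_inj ((A ⊔ B).subtype.comp (e.symm.toMonoidHom.comp (QuotientGroup.mk' _)))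
    (Subtype.val_injective.comp (e.symm.injective.comp i1)) (fun g hg => ?_) hA hB cA cB hne
  obtain ⟨M, hM⟩ := QuotientGroup.mk'_surjective _ (e ⟨g, hg⟩)
  exact ⟨M, by simp [show (QuotientGroup.mk M : Matrix.ProjectiveSpecialLinearGroup (Fin 2) F) = _ from hM]⟩

theorem psl2_transport {F' : Type*} [Field F'] (σ : F ≃+* F') {A B : Subgroup G} (h : IsPSL2PairOver F' A B) :
    IsPSL2PairOver F A B := by
  have hne := (special_of_psl2 h).1.ne
  obtain ⟨φ, -, -, hA, hB⟩ := h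
  have u : ∀ t, Matrix.SpecialLinearGroup.map (n := Fin 2) σ.toRingHom (xu t) = xu (σ t) := fun t => by
    apply Subtype.ext
    ext i j; fin_cases i <;> fin_cases j <;> simp
  have l : ∀ t, Matrix.SpecialLinearGroup.map (n := Fin 2) σ.toRingHom (xl t) = xl (σ t) := fun t => by
    apply Subtype.ext
    ext i j; fin_cases i <;> fin_cases j <;> simp
  refine psl2_of_hom (φ.comp (Matrix.SpecialLinearGroup.map σ.toRingHom)) ?_ ?_ hne
  · rw [← map_map, ← hA]
    congr 1
    ext g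
    simp only [mem_map, mem_upper]
    constructor
    · rintro ⟨_, ⟨t, rfl⟩, rfl⟩; exact ⟨_, (u t).symm⟩
    · rintro ⟨t, rfl⟩; exact ⟨_, ⟨σ.symm t, rfl⟩, by rw [u, σ.apply_symm_apply]⟩
  · rw [← map_map, ← hB]
    congr 1
    ext g
    simp only [mem_map, mem_lower]
    constructor
    · rintro ⟨_, ⟨t, rfl⟩, rfl⟩; exact ⟨_, (l t).symm⟩
    · rintro ⟨t, rfl⟩; exact ⟨_, ⟨σ.symm t, rfl⟩, by rw [l, σ.apply_symm_apply]⟩

/-- members of different elementary abelian unipotent subgroups have a product of odd order -/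
theorem unip_odd [Finite G] {A B : Subgroup G} (h : IsRankOnePair A B) (hA : ∀ a ∈ A, a * a = 1) {C C' : Subgroup G}
    (hC : C ∈ unipotentSubgroups A B) (hC' : C' ∈ unipotentSubgroups A B) {u v : G} (hu : u ∈ C) (hu1 : u ≠ 1)
    (hv : v ∈ C') (hv1 : v ≠ 1) (hne : C ≠ C') : Odd (orderOf (u * v)) := by
  have sq : ∀ C ∈ unipotentSubgroups A B, ∀ u ∈ C, u * u = 1 := by
    rintro _ ⟨x, -, rfl⟩ u hu
    obtain ⟨a, ha, rfl⟩ := mem_conjBy'.1 hu
    calc _ = x * (a * a) * x⁻¹ := by group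
      _ = 1 := by rw [hA a ha]; group
  have uu := sq C hC u hu
  have vv := sq C' hC' v hv
  rw [← Nat.not_even_iff_odd]
  intro ev
  obtain ⟨o2, cu, cv⟩ := half_pow_central uu vv ev
  generalize orderOf (u * v) / 2 = k at o2 cu cv
  have hr : u * v ∈ A ⊔ B := mul_mem (unip_le hC hu) (unip_le hC' hv)
  have inv := conj_pow_of_inverts (conj_mul_eq_inv uu vv)
  rw [inv_eq_of_mul_eq_one_right uu] at inv
  have key : ∃ C'' ∈ unipotentSubgroups A B, (u * v) ^ k * u ∈ C'' ∧ (u * v) ^ k * u ≠ 1 := by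
    obtain ⟨m, rfl | rfl⟩ := Nat.even_or_odd' k
    · have e : (u * v) ^ (2 * m) * u = (u * v) ^ m * u * ((u * v) ^ m)⁻¹ := by
        rw [← inv m, two_mul, pow_add]
        simp only [mul_assoc, ← mul_assoc u u, uu, one_mul]
      rw [e]
      exact ⟨_, unip_conj_mem hC (pow_mem hr m), conj_mem_conjBy hu _, by simpa using hu1⟩
    · have e : (u * v) ^ (2 * m + 1) * u = ((u * v) ^ m * u) * v * ((u * v) ^ m * u)⁻¹ := by
        rw [mul_inv_rev, ← inv m, inv_eq_of_mul_eq_one_right uu, show 2 * m + 1 = m + 1 + m by ring, pow_add,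
          pow_succ]
        simp only [mul_assoc, ← mul_assoc u u, uu, one_mul]
      rw [e]
      exact ⟨_, unip_conj_mem hC' (mul_mem (pow_mem hr m) (unip_le hC hu)), conj_mem_conjBy hv _,
        fun e => hv1 (conj_eq_one_iff.1 e)⟩
  obtain ⟨C'', hC'', k1, k2⟩ := key
  obtain rfl := unip_eq_of_commute h hC'' hC k1 k2 hu hu1 (cu.mul_left (Commute.refl u))
  exact hne (unip_eq_of_commute h hC hC' ((mul_mem_cancel_right hu).1 k1) (ne_one_of_orderOf_two o2) hv hv1 cv)

end Cfsg.Agent.Lib.Root
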