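import Cfsg.Agent.Lib.Root.Sub4

set_option autoImplicit false

/-! Sets of root subgroups inside the subgroup they generate. -/

namespace Cfsg.Agent.Lib.Root

open Cfsg

variable {G : Type*} [Group G] {S : Set (Subgroup G)} {A B C : Subgroup G}

/-- the subgroup generated by the members of `S` -/
abbrev gen (S : Set (Subgroup G)) : Subgroup G := ⨆ B ∈ S, B

/-- the members of `S` as subgroups of the group they generate -/
abbrev inner (S : Set (Subgroup G)) : Set (Subgroup (gen S)) :=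
  (fun A : Subgroup G => A.subgroupOf (gen S)) '' S

theorem le_gen (hA : A ∈ S) : A ≤ gen S := le_iSup₂_of_le A hA le_rfl

theorem gen_mono {T : Set (Subgroup G)} (h : T ⊆ S) : gen T ≤ gen S := biSup_mono h

/-- a set of root subgroups of the group it generates -/
structure PreRoot (S : Set (Subgroup G)) : Prop where
  comm : ∀ A ∈ S, Comm A A
  ne_bot : ∀ A ∈ S, A ≠ ⊥
  conj_mem : ∀ A ∈ S, ∀ g ∈ gen S, conjBy A g ∈ S
  pair : ∀ A ∈ S, ∀ B ∈ S, Comm A B ∨ IsRankOnePair A B ∨ Psi S A B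

theorem mem_inner {A' : Subgroup (gen S)} : A' ∈ inner S ↔ A'.map (gen S).subtype ∈ S := by
  constructor
  · rintro ⟨A, hA, rfl⟩
    rwa [Subgroup.map_subgroupOf_eq_of_le (le_gen hA)]
  · intro h
    exact ⟨_, h, Subgroup.comap_map_eq_self_of_injective (gen S).subtype_injective _⟩

theorem comm_map_iff {H : Type*} [Group H] (f : H →* G) (hf : Function.Injective f)
    {A B : Subgroup H} : Comm (A.map f) (B.map f) ↔ Comm A B := by
  constructor
  · intro h a ha b hb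
    apply hf
    rw [map_mul, map_mul]
    exact h _ ⟨a, ha, rfl⟩ _ ⟨b, hb, rfl⟩
  · rintro h _ ⟨a, ha, rfl⟩ _ ⟨b, hb, rfl⟩
    rw [← map_mul, ← map_mul, h a ha b hb]

theorem psi_map_iff {H : Type*} [Group H] (f : H →* G) (hf : Function.Injective f)
    {S' : Set (Subgroup H)} (hS : ∀ A, A ∈ S' ↔ A.map f ∈ S) {A B : Subgroup H} :
    Psi S (A.map f) (B.map f) ↔ Psi S' A B := by
  have e := Subgroup.map_commutator A B f
  constructor
  · intro h
    refine ⟨(hS _).2 (e ▸ h.mem), (comm_map_iff f hf).1 (e ▸ h.cA), (comm_map_iff f hf).1 (e ▸ h.cB),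
      fun a ha a1 c hc => ?_, fun b hb b1 c hc => ?_⟩
    · obtain ⟨_, ⟨b, hb, rfl⟩, h1⟩ := h.surjL _ ⟨a, ha, rfl⟩ (fun e => a1 (hf (by simpa using e))) _
        (e ▸ Subgroup.mem_map_of_mem f hc)
      exact ⟨b, hb, hf (by simpa using h1)⟩
    · obtain ⟨_, ⟨a, ha, rfl⟩, h1⟩ := h.surjR _ ⟨b, hb, rfl⟩ (fun e => b1 (hf (by simpa using e))) _
        (e ▸ Subgroup.mem_map_of_mem f hc)
      exact ⟨a, ha, hf (by simpa using h1)⟩
  · intro h
    refine ⟨e ▸ (hS _).1 h.mem, e ▸ (comm_map_iff f hf).2 h.cA, e ▸ (comm_map_iff f hf).2 h.cB,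
      ?_, ?_⟩
    · rintro _ ⟨a, ha, rfl⟩ ha1 c hc
      rw [← e] at hc
      obtain ⟨c, hc, rfl⟩ := hc
      obtain ⟨b, hb, rfl⟩ := h.surjL a ha (fun e => ha1 (by simp [e])) c hc
      exact ⟨f b, ⟨b, hb, rfl⟩, by simp⟩
    · rintro _ ⟨a, ha, rfl⟩ ha1 c hc
      rw [← e] at hc
      obtain ⟨c, hc, rfl⟩ := hc
      obtain ⟨b, hb, rfl⟩ := h.surjR a ha (fun e => ha1 (by simp [e])) c hc
      exact ⟨f b, ⟨b, hb, rfl⟩, by simp⟩

theorem PreRoot.rootSet (h : PreRoot S) : IsRootSubgroupSet (inner S) := by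
  have hf := (gen S).subtype_injective
  refine ⟨fun A hA => comm_self_iff.1 ((comm_map_iff _ hf).1 (h.comm _ (mem_inner.1 hA))),
    fun A hA e => h.ne_bot _ (mem_inner.1 hA) (by rw [e, Subgroup.map_bot]), ?_,
    fun A hA g => mem_inner.2 ?_, fun A hA B hB => ?_⟩
  · apply Subgroup.map_injective hf
    rw [← MonoidHom.range_eq_map, Subgroup.range_subtype, iSup_image]
    simp only [Subgroup.map_iSup]
    exact iSup_congr fun A => iSup_congr fun hA => Subgroup.map_subgroupOf_eq_of_le (le_gen hA)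
  · rw [map_conjBy]; exact h.conj_mem _ (mem_inner.1 hA) _ g.2
  · rw [← comm_iff, ← psi_iff, ← comm_map_iff _ hf, ← r1_map_iff _ hf,
      ← psi_map_iff _ hf (fun _ => mem_inner)]
    exact h.pair _ (mem_inner.1 hA) _ (mem_inner.1 hB)

theorem freach_map {A' B' : Subgroup (gen S)} (h : FReach (inner S) A' B') :
    FReach S (A'.map (gen S).subtype) (B'.map (gen S).subtype) := by
  induction h with
  | refl => exact Relation.ReflTransGen.refl
  | tail _ h ih =>
    exact ih.tail ⟨mem_inner.1 h.1, mem_inner.1 h.2.1,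
      (r1_map_iff _ (gen S).subtype_injective).2 h.2.2⟩

theorem freach_inner (h : FReach S A B) :
    FReach (inner S) (A.subgroupOf (gen S)) (B.subgroupOf (gen S)) := by
  induction h with
  | refl => exact Relation.ReflTransGen.refl
  | tail _ h ih =>
    exact ih.tail ⟨⟨_, h.1, rfl⟩, ⟨_, h.2.1, rfl⟩, r1_subgroupOf h.2.2 (le_gen h.1) (le_gen h.2.1)⟩

theorem connected_inner (h : IsConnectedFamily (FAdj S) S) :
    IsConnectedFamily (FAdj (inner S)) (inner S) := by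
  rintro _ ⟨A, hA, rfl⟩ _ ⟨B, hB, rfl⟩
  exact freach_inner (h A hA B hB)

theorem ni_inner (hA : A ∈ S) (h : NI S A) : NI (inner S) (A.subgroupOf (gen S)) := by
  obtain ⟨B, hB, hr⟩ := h
  exact ⟨_, ⟨B, hB, rfl⟩, r1_subgroupOf hr (le_gen hA) (le_gen hB)⟩

theorem PreRoot.freach_conj (h : PreRoot S) (hA : A ∈ S) (hN : NI S A) {g : G} (hg : g ∈ gen S) :
    FReach S A (conjBy A g) := by
  have := freach_map (Root.freach_conj h.rootSet ⟨g, hg⟩ _ ⟨A, hA, rfl⟩ (ni_inner hA hN))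
  rwa [map_conjBy, Subgroup.map_subgroupOf_eq_of_le (le_gen hA)] at this

theorem PreRoot.freach_psi (h : PreRoot S) (hN : ∀ A ∈ S, NI S A) (hA : A ∈ S) (hB : B ∈ S)
    (hp : Psi S A B) : FReach S A ⁅A, B⁆ := by
  have hp' : Psi (inner S) (A.subgroupOf (gen S)) (B.subgroupOf (gen S)) := by
    rwa [← psi_map_iff _ (gen S).subtype_injective (fun _ => mem_inner),
      Subgroup.map_subgroupOf_eq_of_le (le_gen hA), Subgroup.map_subgroupOf_eq_of_le (le_gen hB)]
  have hN' : ∀ A ∈ inner S, NI (inner S) A := by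
    rintro _ ⟨A, hA, rfl⟩; exact ni_inner hA (hN A hA)
  have := freach_map (freach_of_line h.rootSet ⟨A, hA, rfl⟩
    (hp'.line h.rootSet ⟨A, hA, rfl⟩ (hN' _ ⟨A, hA, rfl⟩)) (hN' _ ⟨A, hA, rfl⟩) (hN' _ hp'.mem))
  rwa [Subgroup.map_commutator, Subgroup.map_subgroupOf_eq_of_le (le_gen hA),
    Subgroup.map_subgroupOf_eq_of_le (le_gen hB)] at this

theorem PreRoot.comm_of_not_freach (h : PreRoot S) (hN : ∀ A ∈ S, NI S A) (hA : A ∈ S) (hB : B ∈ S)
    (hn : ¬ FReach S A B) : Comm A B := by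
  rcases h.pair A hA B hB with h1 | h1 | h1
  · exact h1
  · exact absurd (Relation.ReflTransGen.single ⟨hA, hB, h1⟩) hn
  · refine absurd ((h.freach_psi hN hA hB h1).trans (freach_symm ?_)) hn
    rw [Subgroup.commutator_comm]
    exact h.freach_psi hN hB hA h1.symm

/-- the component of `A` -/
abbrev comp (S : Set (Subgroup G)) (A : Subgroup G) := componentOf (FAdj S) S A

theorem comp_subset : comp S A ⊆ S := fun _ h => h.1

theorem PreRoot.comp_conj (h : PreRoot S) (hN : ∀ A ∈ S, NI S A) (hB : B ∈ comp S A) {g : G}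
    (hg : g ∈ gen S) : conjBy B g ∈ comp S A :=
  ⟨h.conj_mem B hB.1 g hg, hB.2.trans (h.freach_conj hB.1 (hN B hB.1) hg)⟩

theorem PreRoot.comp (h : PreRoot S) (hN : ∀ A ∈ S, NI S A) (A : Subgroup G) :
    PreRoot (comp S A) := by
  refine ⟨fun B hB => h.comm B hB.1, fun B hB => h.ne_bot B hB.1, fun B hB g hg =>
    h.comp_conj hN hB (gen_mono comp_subset hg), fun B hB C hC => ?_⟩
  refine (h.pair B hB.1 C hC.1).imp_right (Or.imp_right fun hp => ?_)
  exact ⟨⟨hp.mem, hB.2.trans (h.freach_psi hN hB.1 hC.1 hp)⟩, hp.cA, hp.cB, hp.surjL, hp.surjR⟩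

theorem comp_connected : IsConnectedFamily (FAdj (comp S A)) (comp S A) := by
  have key : ∀ B, FReach S A B → FReach (comp S A) A B := by
    intro B h
    induction h with
    | refl => exact Relation.ReflTransGen.refl
    | tail h1 h ih => exact ih.tail ⟨⟨h.1, h1⟩, ⟨h.2.1, h1.tail h⟩, h.2.2⟩
  exact fun B hB C hC => (freach_symm (key B hB.2)).trans (key C hC.2)

theorem ni_comp (hB : B ∈ comp S A) (h : NI S B) : NI (comp S A) B := by
  obtain ⟨C, hC, hr⟩ := h
  exact ⟨C, ⟨hC, hB.2.tail ⟨hB.1, hC, hr⟩⟩, hr⟩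

theorem PreRoot.class_of_connected (h : PreRoot S) (hA : A ∈ S)
    (hc : IsConnectedFamily (FAdj S) S) : IsRootSubgroupClass (inner S) :=
  Root.class_of_connected h.rootSet ⟨A, hA, rfl⟩ (connected_inner hc)

theorem comm_gen {T : Set (Subgroup G)} (h : ∀ A ∈ S, ∀ B ∈ T, Comm A B) : Comm (gen S) (gen T) := by
  rw [comm_iff_le_centralizer]
  refine iSup₂_le fun A hA => comm_iff_le_centralizer.1 (Comm.symm ?_)
  rw [comm_iff_le_centralizer]
  exact iSup₂_le fun B hB => comm_iff_le_centralizer.1 (h A hA B hB).symm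

/-- a normal subgroup is everything or moves each member to a commuting one -/
theorem PreRoot.normal_dichotomy (h : PreRoot S) (hA : A ∈ S) (hc : IsConnectedFamily (FAdj S) S)
    (hp : ∀ A ∈ S, ∀ B ∈ S, IsRankOnePair A B → ⁅A ⊔ B, A ⊔ B⁆ = A ⊔ B)
    (N : Subgroup (gen S)) [N.Normal] :
    N = ⊤ ∨ ∀ A ∈ S, ∀ n ∈ N.map (gen S).subtype, Comm A (conjBy A n) := by
  have hf := (gen S).subtype_injective
  refine (Root.normal_dichotomy (h.class_of_connected hA hc) (fun _ A hA B hB hr => ?_) N).imp_right ?_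
  · apply Subgroup.map_injective hf
    rw [Subgroup.map_commutator, Subgroup.map_sup]
    exact hp _ (mem_inner.1 hA) _ (mem_inner.1 hB) ((r1_map_iff _ hf).2 hr)
  · rintro h1 A hA _ ⟨n, hn, rfl⟩
    have := (comm_map_iff _ hf).2
      (h1 _ ⟨A, hA, rfl⟩ n hn _ ⟨A, hA, rfl⟩ (self_comm h.rootSet ⟨A, hA, rfl⟩))
    rwa [map_conjBy, Subgroup.map_subgroupOf_eq_of_le (le_gen hA)] at this

theorem PreRoot.perfect (h : PreRoot S) (hA : A ∈ S) (hN : NI S A)
    (hc : IsConnectedFamily (FAdj S) S)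
    (hp : ∀ A ∈ S, ∀ B ∈ S, IsRankOnePair A B → ⁅A ⊔ B, A ⊔ B⁆ = A ⊔ B) :
    Group.IsPerfect (gen S) := by
  have hf := (gen S).subtype_injective
  obtain ⟨B, hB, hr⟩ := ni_inner hA hN
  refine ⟨perfect_of_class (h.class_of_connected hA hc) ⟨A, hA, rfl⟩ hB hr fun _ A hA B hB hr => ?_⟩
  apply Subgroup.map_injective hf
  rw [Subgroup.map_commutator, Subgroup.map_sup]
  exact hp _ (mem_inner.1 hA) _ (mem_inner.1 hB) ((r1_map_iff _ hf).2 hr)

end Cfsg.Agent.Lib.Root
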