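import Cfsg.Agent.Lib.Root.Quad5
import Cfsg.Agent.Lib.Root.Trans

set_option autoImplicit false

/-! Quadratic pairs: the components. -/

namespace Cfsg.Agent.Lib.Root

open Cfsg Polynomial LinearMap

variable {k : Type*} [Field k] {M : Type*} [AddCommGroup M] [Module k M]
  {G H : Subgroup (GLM k M)} {x y z u v w a b r F : Module.End k M}

theorem unip_conj {V : Subgroup (GLM k M)} (h : IsUnipotentOn V) (g : GLM k M) :
    IsUnipotentOn (conjBy V g) := by
  obtain ⟨n, hn⟩ := unip_iff.1 h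
  have : ∀ n, ser (conjBy V g) n ≤ (ser V n).comap ((g⁻¹ : GLM k M) : Module.End k M) := by
    intro n
    induction n with
    | zero => exact fun _ _ => trivial
    | succ n ih =>
      refine ser_succ_le.2 fun h hh m hm => ?_
      have := mem_ser_succ (mem_conjBy.1 hh) (ih hm)
      rw [Submodule.mem_comap]
      convert this using 1
      rw [← Module.End.mul_apply, ← Module.End.mul_apply]
      congr 1
      simp [mul_sub, sub_mul, mul_assoc]
  refine unip_iff.2 ⟨n, eq_bot_iff.2 fun m hm => ?_⟩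
  have := this n hm
  rw [hn, Submodule.mem_comap, Submodule.mem_bot] at this
  rw [Submodule.mem_bot, ← Module.End.one_apply (R := k) m, ← Units.mul_inv g, Module.End.mul_apply,
    this, map_zero]

theorem gen_roots_le : gen (quadraticRootSubgroups G) ≤ G := by
  refine iSup₂_le fun A hA => ?_
  obtain ⟨σ, hσ, rfl⟩ := hA
  exact (Subgroup.closure_le _).2 fun τ hτ => hτ.1.1.1

theorem Nz.mono (h : Nz H x) (hle : H ≤ G) : Nz G x :=
  ⟨h.1, fun c => let ⟨g, h1, h2⟩ := h.2 c; ⟨g, hle h1, h2⟩⟩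

theorem ES_mono (hle : H ≤ G) : ES H x ≤ ES G x := fun _ hu => ⟨hu.1.mono hle, hu.2⟩

theorem ES_le_of_mem (hu : u ∈ ES G x) : ES H u ≤ ES H x := fun _ hv =>
  ⟨hv.1, hu.2.1.trans (ES.ker_le hv), hv.2.2.trans hu.2.2⟩

theorem nz_EG (hu : u ∈ ES G x) : Nz (EG G x) u :=
  ⟨hu.1.1, fun c => ⟨_, un_mem_EG (Submodule.smul_mem _ c hu), rfl⟩⟩

theorem Nz.closure (h : Nz G x) : Nz (Subgroup.closure (quadraticElements G)) x := by
  refine ⟨h.1, fun c => ⟨un (c • x) (h.smul c).1, ?_, rfl⟩⟩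
  by_cases e : c • x = 0
  · have : un (c • x) (h.smul c).1 = 1 := Units.ext (by simp [e])
    rw [this]; exact Subgroup.one_mem _
  · exact Subgroup.subset_closure (mem_quad_iff.2 (by
      rw [coe_un, add_sub_cancel_left]; exact ⟨h.smul c, e⟩))

theorem quad_mono (hle : H ≤ G) : quadraticElements H ⊆ quadraticElements G := fun _ h =>
  mem_quad_iff.2 ⟨(mem_quad_iff.1 h).1.mono hle, (mem_quad_iff.1 h).2⟩

theorem closure_quad_le : Subgroup.closure (quadraticElements G) ≤ G :=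
  (Subgroup.closure_le _).2 fun _ h => h.1

theorem mem_sup_of_decomp {S : Set (Subgroup (GLM k M))} {C : Subgroup (GLM k M)} {g : GLM k M}
    (h : (g : Module.End k M) - 1 ∈ (⨆ A ∈ S, ES A ((g : Module.End k M) - 1)) ⊔
      ES C ((g : Module.End k M) - 1)) : g ∈ gen S ⊔ C := by
  have h1 : (⨆ A ∈ S, ES A ((g : Module.End k M) - 1)) ⊔ ES C ((g : Module.End k M) - 1) ≤
      ES (gen S ⊔ C) ((g : Module.End k M) - 1) :=
    sup_le (iSup₂_le fun A hA => ES_mono (le_sup_of_le_left (le_gen hA))) (ES_mono le_sup_right)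
  exact InG.mem (by simpa using (ES.nz (h1 h)).one_add)

theorem unip_EG : IsUnipotentOn (EG G x) := by
  refine unip_iff.2 ⟨2, eq_bot_iff.2 (ser_succ_le.2 fun g hg m hm => ?_)⟩
  have : ser (EG G x) 1 ≤ range x := ser_succ_le.2 fun g hg m _ => ES.range_le hg ⟨m, rfl⟩
  exact hg.2.1 (Submodule.mem_sup_right (this hm))

variable [FiniteDimensional k M]

theorem NoUnip.of_normal (hG : NoUnip G) (hle : H ≤ G) (hn : ∀ g ∈ G, conjBy H g = H) :
    NoUnip H := by
  intro V hV hVn hu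
  let W : Set (Subgroup (GLM k M)) := {A | A ≤ H ∧ (∀ h ∈ H, conjBy A h = A) ∧ IsUnipotentOn A}
  have h1 : ∀ A ∈ W, A ≤ G := fun A hA => hA.1.trans hle
  have h2 : ∀ A ∈ W, ∀ g ∈ G, conjBy A g ∈ W := by
    intro A hA g hg
    refine ⟨hn g hg ▸ conjBy_mono hA.1 g, fun h hh => ?_, unip_conj hA.2.2 g⟩
    have : g⁻¹ * h * g ∈ H := mem_conjBy.1 ((hn g hg).symm ▸ hh)
    conv_rhs => rw [← hA.2.1 _ this]
    simp only [conjBy_conjBy]
    congr 1; group
  have := hG _ (iSup₂_le h1) (conjBy_iSup_eq h2) (unip_of_pairwise h1 (fun A hA B hB =>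
    unip_sup_of_norm hA.2.2 hB.2.2 fun g hg => hA.2.1 g (hB.1 hg)) h2)
  exact eq_bot_iff.2 (this ▸ le_iSup₂_of_le V ⟨hV, hVn, hu⟩ le_rfl)

theorem unip_of_comm {W : Set (Subgroup (GLM k M))} (h1 : ∀ A ∈ W, IsUnipotentOn A)
    (h2 : ∀ A ∈ W, ∀ B ∈ W, Comm A B) : IsUnipotentOn (gen W) :=
  unip_of_pairwise (G := gen W) (fun _ hA => le_gen hA)
    (fun A hA B hB => unip_sup_of_norm (h1 A hA) (h1 B hB) fun _ hg => (h2 A hA B hB).conjBy_eq' hg)
    (fun A hA g hg => by
      rwa [((comm_gen h2).mono (le_gen hA) le_rfl).conjBy_eq' hg])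

theorem PreRoot.quasisimple {S : Set (Subgroup (GLM k M))} (h : PreRoot S) {A : Subgroup (GLM k M)}
    (hA : A ∈ S) (hN : NI S A) (hc : IsConnectedFamily (FAdj S) S)
    (hp : ∀ A ∈ S, ∀ B ∈ S, IsRankOnePair A B → ⁅A ⊔ B, A ⊔ B⁆ = A ⊔ B)
    (hu : ∀ A ∈ S, IsUnipotentOn A) (hO : NoUnip (gen S)) : IsQuasisimple (gen S) := by
  refine ⟨h.perfect hA hN hc hp, isSimple_quot_center_of (fun e => ?_) fun N hN' => ?_⟩
  · obtain ⟨B, hB, hr⟩ := hN
    refine r1_not_comm hr fun a ha b hb => ?_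
    have := Subgroup.mem_center_iff.1 (e ▸ Subgroup.mem_top (⟨b, le_gen hB hb⟩ : gen S))
      ⟨a, le_gen hA ha⟩
    exact congrArg Subtype.val this
  refine (h.normal_dichotomy hA hc hp N).imp_right fun h1 => ?_
  set N₀ := N.map (gen S).subtype with hN₀
  have n1 : N₀ ≤ gen S := Subgroup.map_subtype_le _
  have n2 : ∀ g ∈ gen S, conjBy N₀ g = N₀ := fun g hg => by
    have := map_conjBy (gen S).subtype N ⟨g, hg⟩
    rw [conjBy_normal] at this
    exact this.symm
  have n3 : ∀ A ∈ S, ⁅A, N₀⁆ ≤ N₀ := fun A hA => Subgroup.commutator_le.2 fun a ha n hn =>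
    N₀.mul_mem (n2 a (le_gen hA ha) ▸ conj_mem_conjBy hn a) (N₀.inv_mem hn)
  have n4 : ∀ A ∈ S, IsUnipotentOn ⁅A, N₀⁆ := by
    intro A hA
    refine unip_mono (unip_of_comm (W := {B | ∃ n ∈ N₀, B = conjBy A n}) ?_ ?_)
      (Subgroup.commutator_le.2 fun a ha n hn => ?_)
    · rintro _ ⟨n, -, rfl⟩; exact unip_conj (hu A hA) n
    · rintro _ ⟨n, hn, rfl⟩ _ ⟨n', hn', rfl⟩
      have := (h1 A hA _ (N₀.mul_mem (N₀.inv_mem hn) hn')).conj n
      rwa [conjBy_conjBy, mul_inv_cancel_left] at this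
    · have : a * n * a⁻¹ * n⁻¹ = a * (n * a⁻¹ * n⁻¹) := by group
      rw [commutatorElement_def, this]
      exact Subgroup.mul_mem _ (le_gen (A := A) (by exact ⟨1, N₀.one_mem, by simp⟩) ha)
        (le_gen (by exact ⟨n, hn, rfl⟩) (conj_mem_conjBy (A.inv_mem ha) n))
  let W : Set (Subgroup (GLM k M)) := {B | ∃ A ∈ S, B = ⁅A, N₀⁆}
  have w1 : ∀ B ∈ W, B ≤ gen S := by rintro _ ⟨A, hA, rfl⟩; exact (n3 A hA).trans n1
  have w2 : ∀ B ∈ W, ∀ g ∈ gen S, conjBy B g ∈ W := by
    rintro _ ⟨A, hA, rfl⟩ g hg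
    exact ⟨_, h.conj_mem A hA g hg, by rw [conjBy_commutator, n2 g hg]⟩
  have w3 := hO _ (iSup₂_le w1) (conjBy_iSup_eq w2) (unip_of_pairwise w1 (by
    rintro _ ⟨A, hA, rfl⟩ _ ⟨B, hB, rfl⟩
    exact unip_sup_of_norm (n4 A hA) (n4 B hB) fun g hg =>
      commutator_conjBy_eq (Subgroup.mem_sup_right (n3 B hB hg))) w2)
  have w4 : Comm (gen S) N₀ := by
    rw [comm_iff_le_centralizer]
    refine iSup₂_le fun A hA => comm_iff_le_centralizer.1 (comm_iff.2 (eq_bot_iff.2 ?_))
    exact w3 ▸ le_iSup₂_of_le _ ⟨A, hA, rfl⟩ le_rfl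
  intro n hn
  rw [Subgroup.mem_center_iff]
  exact fun g => Subtype.ext (w4 g g.2 n ⟨n, hn, rfl⟩)

section char

variable (hk2 : ringChar k ≠ 2) (hk3 : Nat.card k ≠ 3)
include hk2 hk3

theorem preRoot_roots (hG : NoUnip G) : PreRoot (quadraticRootSubgroups G) := by
  refine ⟨fun A hA => ?_, fun A hA => ?_, fun A hA g hg => roots_conj hA (gen_roots_le hg),
    fun A hA B hB => (quad_tri hk2 hk3 hG hA hB).imp_right (Or.imp_left fun h => h.1)⟩
  · obtain ⟨x, hx, rfl⟩ := mem_roots_iff.1 hA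
    exact EG_comm
  · obtain ⟨x, hx, rfl⟩ := mem_roots_iff.1 hA
    exact EG_ne_bot hx.1 hx.2.1

theorem ni_roots (hG : NoUnip G) : ∀ A ∈ quadraticRootSubgroups G, NI (quadraticRootSubgroups G) A := by
  intro A hA
  obtain ⟨x, hx, rfl⟩ := mem_roots_iff.1 hA
  obtain ⟨y, hy, h⟩ := exists_op hk2 hk3 hG hx
  exact ⟨_, mem_roots_iff.2 ⟨y, hy, rfl⟩, (h.special hk2 hk3 hx hy).1⟩

theorem perfect_roots {A B : Subgroup (GLM k M)} (hA : A ∈ quadraticRootSubgroups G)
    (hB : B ∈ quadraticRootSubgroups G) (h : IsRankOnePair A B) : ⁅A ⊔ B, A ⊔ B⁆ = A ⊔ B := by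
  obtain ⟨x, hx, rfl⟩ := mem_roots_iff.1 hA
  obtain ⟨y, hy, rfl⟩ := mem_roots_iff.1 hB
  refine special_perfect ((op_of_r1 hk2 hk3 hx hy h).special hk2 hk3 hx hy)
    (comm_self_iff.1 EG_comm) ((three_lt_card hk2 hk3).trans_le ?_)
  refine ENat.card_le_card_of_injective
    (f := fun c : k => (⟨_, un_mem_EG (Submodule.smul_mem _ c (self_mem_ES hx.1))⟩ : EG G x)) ?_
  intro c d e
  have := congrArg (fun g : EG G x => ((g : GLM k M) : Module.End k M)) e
  simp only [coe_un, add_right_inj] at this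
  exact smul_left_injective k hx.2.1 this

theorem exists_parts (hG : NoUnip G) :
    ∃ (r : ℕ) (part : Fin r → Set (Subgroup (GLM k M))),
      (⋃ i, part i) = quadraticRootSubgroups G ∧ (∀ i j, i ≠ j → Disjoint (part i) (part j)) ∧
      (∀ i, (part i).Nonempty) ∧ (∀ i j, i ≠ j → Comm (gen (part i)) (gen (part j))) ∧
      (∀ i, IsQuasisimple (gen (part i)) ∧ IsRootSubgroupClass (inner (part i))) := by
  set S := quadraticRootSubgroups G with hS
  have hp := preRoot_roots hk2 hk3 hG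
  have hN := ni_roots hk2 hk3 hG
  let 𝒞 : Set (Set (Subgroup (GLM k M))) := {T | ∃ A ∈ S, T = comp S A}
  have c1 : ∀ T ∈ 𝒞, ∀ T' ∈ 𝒞, T ≠ T' → ∀ B ∈ T, ∀ B' ∈ T', ¬ FReach S B B' := by
    rintro _ ⟨A, hA, rfl⟩ _ ⟨A', hA', rfl⟩ hne B hB B' hB' h
    have := (hB.2.trans h).trans (freach_symm hB'.2)
    apply hne
    ext C
    exact ⟨fun hC => ⟨hC.1, (freach_symm this).trans hC.2⟩, fun hC => ⟨hC.1, this.trans hC.2⟩⟩
  have c2 : ∀ T ∈ 𝒞, T ⊆ S := by rintro _ ⟨A, -, rfl⟩; exact comp_subset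
  have c3 : ∀ T ∈ 𝒞, ∀ T' ∈ 𝒞, T ≠ T' → ∀ B ∈ T, ∀ B' ∈ T', Comm B B' :=
    fun T hT T' hT' hne B hB B' hB' =>
      hp.comm_of_not_freach hN (c2 T hT hB) (c2 T' hT' hB') (c1 T hT T' hT' hne B hB B' hB')
  have c4 : ∀ T : 𝒞, ∃ x y : Module.End k M, Nd G x ∧ Nd G y ∧ Op y x ∧ EG G x ∈ T.1 ∧
      EG G y ∈ T.1 := by
    rintro ⟨_, A, hA, rfl⟩
    obtain ⟨x, hx, rfl⟩ := mem_roots_iff.1 hA
    obtain ⟨y, hy, h⟩ := exists_op hk2 hk3 hG hx
    have hB := mem_roots_iff.2 ⟨y, hy, rfl⟩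
    exact ⟨x, y, hx, hy, h.symm hk2 hx hy.1, ⟨hA, Relation.ReflTransGen.refl⟩,
      ⟨hB, Relation.ReflTransGen.single ⟨hA, hB, (h.special hk2 hk3 hx hy).1⟩⟩⟩
  choose fx fy d1 d2 d3 d4 d5 using c4
  have hfin : Finite 𝒞 := by
    refine LinearIndependent.finite (R := k) (f := fx) (linearIndependent_iff'.2 fun s g hs i hi => ?_)
    have := congrArg (fun r => fy i * (r * fy i)) hs
    simp only [Finset.sum_mul, Finset.mul_sum, zero_mul, mul_zero, smul_mul_assoc,
      mul_smul_comm] at this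
    rw [Finset.sum_eq_single_of_mem i hi fun j _ hj => ?_] at this
    · exact (smul_eq_zero.1 this).resolve_right (d3 i)
    · rw [comm_EG_iff.1 (c3 _ j.2 _ i.2 (fun e => hj (Subtype.ext e)) _ (d4 j) _ (d5 i)) _
        (self_mem_ES (d1 j).1) _ (self_mem_ES (d2 i).1), (d2 i).1.sq', smul_zero]
  obtain ⟨r, ⟨e⟩⟩ := Finite.exists_equiv_fin 𝒞
  have ne : ∀ i j, i ≠ j → (e.symm i).1 ≠ (e.symm j).1 := fun i j h e' =>
    h (e.symm.injective (Subtype.ext e'))
  refine ⟨r, fun i => (e.symm i).1, ?_, fun i j h => ?_, fun i => ⟨_, d4 _⟩, fun i j h =>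
    comm_gen (c3 _ (e.symm i).2 _ (e.symm j).2 (ne i j h)), fun i => ?_⟩
  · refine Set.Subset.antisymm (Set.iUnion_subset fun i => c2 _ (e.symm i).2) fun A hA => ?_
    exact Set.mem_iUnion.2 ⟨e ⟨_, A, hA, rfl⟩, by
      rw [Equiv.symm_apply_apply]; exact ⟨hA, Relation.ReflTransGen.refl⟩⟩
  · exact Set.disjoint_left.2 fun B hB hB' =>
      c1 _ (e.symm i).2 _ (e.symm j).2 (ne i j h) B hB B hB' Relation.ReflTransGen.refl
  · obtain ⟨A, hA, eA⟩ := (e.symm i).2
    change IsQuasisimple (gen (e.symm i).1) ∧ IsRootSubgroupClass (inner (e.symm i).1)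
    rw [eA]
    have hA' : A ∈ comp S A := ⟨hA, Relation.ReflTransGen.refl⟩
    refine ⟨(hp.comp hN A).quasisimple hA' (ni_comp hA' (hN A hA)) comp_connected
      (fun B hB C hC => perfect_roots hk2 hk3 hB.1 hC.1) (fun B hB => ?_) ?_,
      (hp.comp hN A).class_of_connected hA' comp_connected⟩
    · obtain ⟨x, -, rfl⟩ := mem_roots_iff.1 hB.1
      exact unip_EG
    · refine (hG.of_normal gen_roots_le (conjBy_iSup_eq fun A hA g hg => roots_conj hA hg)).of_normal
        (gen_mono comp_subset) (conjBy_iSup_eq fun B hB g hg => hp.comp_conj hN hB hg)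

theorem comm_of_forall_not_op (hG : NoUnip G) (hr : Nz G r) (h : ∀ x, Nd G x → ¬ Op x r)
    (hx : Nd G x) : r * x = x * r := by
  have h' : ∀ x, Nd G x → x * (r * x) = 0 := fun x hx => not_not.1 (h x hx)
  let V : Submodule k (Module.End k M) :=
    { carrier := {s | ∀ d, Nd G d → d * (s * d) = 0}
      zero_mem' := fun d _ => by simp
      add_mem' := fun {a b} ha hb d hd => by simp [add_mul, mul_add, ha d hd, hb d hd]
      smul_mem' := fun c a ha d hd => by simp [ha d hd] }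
  have V1 : ∀ s ∈ V, ∀ a b, InG G a → a * b = 1 → a * s * b ∈ V := by
    intro s hs a b ha hab d hd
    have := congrArg (fun t => a * t * b) (hs _ (hd.conj (ha.inv hab) (ha.comm hab)))
    have hab' : ∀ t, a * (b * t) = t := fun t => by rw [← mul_assoc, hab, one_mul]
    simpa only [mul_assoc, hab', hab, mul_one, mul_zero, zero_mul] using this
  have V2 : ∀ s ∈ V, Nz G s → rk s ≤ rk x → s = 0 := by
    intro s hs h1 h2
    by_contra h0
    have h3 := hx.of_rk_le h1 h0 h2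
    obtain ⟨d, hd, o⟩ := exists_op hk2 hk3 hG h3
    exact o.symm hk2 h3 hd.1 (hs d hd)
  have e1 := h' x hx
  have e1' : ∀ t, x * (r * (x * t)) = 0 := fun t => by rw [← mul_assoc r, ← mul_assoc, e1, zero_mul]
  have h2 : (2 : k) ≠ 0 := Ring.two_ne_zero hk2
  have w1 : r * x - x * r ∈ V := by
    convert V.sub_mem (V1 r h' _ _ hx.1.one_sub hx.1.sub_mul_add) h' using 1
    simp only [mul_sub, sub_mul, mul_add, add_mul, mul_assoc, e1, mul_one, one_mul]
    abel
  have v1 : r * (x * r) ∈ V := by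
    have := V.smul_mem (2 : k)⁻¹ (V.sub_mem w1 (V1 _ w1 _ _ hr.one_add hr.add_mul_sub))
    convert this using 1
    rw [eq_inv_smul_iff₀ h2]
    simp only [mul_sub, sub_mul, mul_add, add_mul, mul_assoc, hr.sq, hr.sq', mul_one, one_mul,
      mul_zero, zero_mul]
    module
  have v2 : Nz G (r * (x * r)) := by
    have a1 := hx.1.conj hr.one_add hr.add_mul_sub
    have a2 := hx.1.conj hr.one_sub hr.sub_mul_add
    have a3 := ((hx.1.smul 2).sub a1
      (by simp [mul_sub, sub_mul, mul_add, add_mul, mul_assoc, e1, e1', hx.1.sq, hx.1.sq'])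
      (by simp [mul_sub, sub_mul, mul_add, add_mul, mul_assoc, e1, e1', hx.1.sq, hx.1.sq'])).sub a2
      (by simp [mul_sub, sub_mul, mul_add, add_mul, mul_assoc, e1, e1', hx.1.sq, hx.1.sq', hr.sq'])
      (by simp [mul_sub, sub_mul, mul_add, add_mul, mul_assoc, e1, e1', hx.1.sq, hx.1.sq', hr.sq'])
    refine Nz.of_smul h2 ?_
    convert a3 using 1
    simp only [mul_sub, sub_mul, mul_add, add_mul, mul_assoc, mul_one, one_mul]
    module
  have v3 := V2 _ v1 v2 ((rk_mul_le_right _ _).trans (rk_mul_le_left _ _))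
  refine sub_eq_zero.1 (V2 _ w1 (hr.comm hx.1 v3 e1) ?_)
  have b1 := rk_mul_add r x
  have b2 : rk (x * r) ≤ _ := Submodule.finrank_mono
    (le_inf (range_mul_le x r) (range_le_ker_of_mul v3))
  have b3 : range (r * x - x * r) ≤ range (r * x) ⊔ range (x * r) := by
    rintro _ ⟨m, rfl⟩
    exact Submodule.sub_mem _ (Submodule.mem_sup_left ⟨m, rfl⟩) (Submodule.mem_sup_right ⟨m, rfl⟩)
  have b4 := Submodule.finrank_mono b3
  have b5 := Submodule.finrank_sup_add_finrank_inf_eq (range (r * x)) (range (x * r))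
  unfold rk at *
  omega

theorem mem_decomp (hG : NoUnip G) (hr : Nz G r) :
    r ∈ (⨆ A ∈ quadraticRootSubgroups G, ES A r) ⊔
      ES (G ⊓ Subgroup.centralizer (gen (quadraticRootSubgroups G) : Set (GLM k M))) r := by
  induction hn : rk r using Nat.strong_induction_on generalizing r with
  | _ n ih =>
  by_cases h : ∀ x, Nd G x → ¬ Op x r
  · refine Submodule.mem_sup_right (self_mem_ES ⟨hr.1, fun c => ⟨un _ (hr.smul c).1,
      ⟨InG.mem (hr.2 c), ?_⟩, rfl⟩⟩)
    have : Comm (gen (quadraticRootSubgroups G)) (Subgroup.zpowers (un _ (hr.smul c).1)) := by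
      rw [comm_iff_le_centralizer]
      refine iSup₂_le fun A hA g hg => ?_
      obtain ⟨x, hx, rfl⟩ := mem_roots_iff.1 hA
      rw [Subgroup.zpowers_eq_closure, Subgroup.centralizer_closure,
        Subgroup.mem_centralizer_singleton_iff]
      by_cases g1 : g = 1
      · simp [g1]
      obtain ⟨u, hu, u0, rfl⟩ := EG.exists_ne hg g1
      apply Units.ext
      simp only [Units.val_mul, coe_un, mul_add, add_mul, mul_one, one_mul, smul_mul_assoc,
        mul_smul_comm, comm_of_forall_not_op hk2 hk3 hG hr h (hx.of_mem_ES hu u0)]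
      module
    exact comm_iff_le_centralizer.1 this.symm (Subgroup.mem_zpowers _)
  push Not at h
  obtain ⟨x, hx, h⟩ := h
  obtain ⟨f, hf, ι, F, -, -, -, -, -, -, -, -, -, h1, h2, -⟩ := exists_field hk2 hk3 hx hr h
  have ee : ι 1 * ι 1 = ι 1 := by rw [← map_mul, mul_one]
  have m1 : ι 1 * r ∈ ES G r := (mem_ES hr.1).2 ⟨h2.1, ker_mul_ge _ _, h1 ▸ range_mul_le _ _⟩
  have m2 : r - ι 1 * r ∈ ES G r := Submodule.sub_mem _ (self_mem_ES hr) m1
  have lt : rk (r - ι 1 * r) < n := by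
    rw [← hn]
    refine Submodule.finrank_lt_finrank_of_lt (lt_of_le_of_ne (ES.range_le m2) fun e => h2.2.1 ?_)
    refine mul_eq_zero_of_range_le (e ▸ range_le_ker_of_mul ?_)
    rw [mul_sub, ← mul_assoc, ee, sub_self]
  have := ih _ lt (ES.nz m2) rfl
  have t1 := SetLike.le_def.1 (sup_le_sup
    (iSup₂_mono fun A (_ : A ∈ quadraticRootSubgroups G) => ES_le_of_mem (H := A) m2)
    (ES_le_of_mem m2)) this
  have t2 : ι 1 * r ∈ ⨆ A ∈ quadraticRootSubgroups G, ES A r :=
    (le_iSup₂_of_le (EG G (ι 1 * r)) (mem_roots_iff.2 ⟨_, h2, rfl⟩) le_rfl :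
      ES (EG G (ι 1 * r)) r ≤ _) ⟨nz_EG (self_mem_ES h2.1), m1.2⟩
  simpa using Submodule.add_mem _ t1 (Submodule.mem_sup_left t2)

theorem exists_central_product (hG : NoUnip G) (hQ : G ≤ Subgroup.closure (quadraticElements G)) :
    ∃ (ι : Type) (_ : Finite ι) (Gi : ι → Subgroup (GLM k M)),
      (∀ i j, i ≠ j → Comm (Gi i) (Gi j)) ∧ (⨆ i, Gi i) = G ∧
      (∀ i, IsQuasisimple (Gi i) ∧ Gi i ≤ Subgroup.closure (quadraticElements (Gi i))) ∧
      ∀ r, Nz G r → r ∈ ⨆ i, ES (Gi i) r := by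
  have key : ∀ n, ∀ G : Subgroup (GLM k M), NoUnip G → G ≤ Subgroup.closure (quadraticElements G) →
      (∀ x, Nz G x → x ≠ 0 → Module.finrank k M < rk x + n) →
      ∃ (ι : Type) (_ : Finite ι) (Gi : ι → Subgroup (GLM k M)),
      (∀ i j, i ≠ j → Comm (Gi i) (Gi j)) ∧ (⨆ i, Gi i) = G ∧
      (∀ i, IsQuasisimple (Gi i) ∧ Gi i ≤ Subgroup.closure (quadraticElements (Gi i))) ∧
      ∀ r, Nz G r → r ∈ ⨆ i, ES (Gi i) r := by
    intro n
    induction n with
    | zero =>
      intro G _ hQ h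
      have h0 : ∀ x, Nz G x → x = 0 := fun x hx => by
        by_contra h0
        have := h x hx h0
        have := rk_add_ker x
        omega
      refine ⟨Empty, inferInstance, Empty.elim, fun i => i.elim, ?_, fun i => i.elim, fun r hr => ?_⟩
      · rw [iSup_of_empty, eq_comm, eq_bot_iff]
        refine hQ.trans ((Subgroup.closure_le _).2 fun g hg => ?_)
        exact absurd (h0 _ (mem_quad_iff.1 hg).1) (mem_quad_iff.1 hg).2
      · rw [h0 r hr]; exact Submodule.zero_mem _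
    | succ n ih =>
      intro G hG hQ h
      obtain ⟨s, part, p1, -, -, p2, p3⟩ := exists_parts hk2 hk3 hG
      set G₀ := gen (quadraticRootSubgroups G) with hG₀
      set C := Subgroup.closure (quadraticElements (G ⊓ Subgroup.centralizer (G₀ : Set (GLM k M))))
        with hC
      have c1 : C ≤ G ⊓ Subgroup.centralizer (G₀ : Set (GLM k M)) := closure_quad_le
      have c2 : Comm C G₀ := comm_iff_le_centralizer.2 (c1.trans inf_le_right)
      have c3 : ∀ r, Nz G r → r ∈ (⨆ A ∈ quadraticRootSubgroups G, ES A r) ⊔ ES C r := by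
        intro r hr
        refine SetLike.le_def.1 (sup_le_sup_left (fun u hu => ?_) _) (mem_decomp hk2 hk3 hG hr)
        exact ⟨hu.1.closure, hu.2⟩
      have c4 : G₀ ⊔ C = G := by
        refine le_antisymm (sup_le gen_roots_le (c1.trans inf_le_left))
          (hQ.trans ((Subgroup.closure_le _).2 fun g hg => ?_))
        exact mem_sup_of_decomp (c3 _ (mem_quad_iff.1 hg).1)
      obtain ⟨ι, _, Ci, q1, q2, q3, q4⟩ := ih C
        (hG.of_normal (c1.trans inf_le_left) fun g hg => mem_normalizer_iff_conjBy.1 (by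
          rw [← c4] at hg
          exact (sup_le (fun g hg => mem_normalizer_iff_conjBy.2 (c2.conjBy_eq' hg))
            Subgroup.le_normalizer : G₀ ⊔ C ≤ _) hg))
        ((Subgroup.closure_le _).2 fun g hg => Subgroup.subset_closure
          (mem_quad_iff.2 ⟨(mem_quad_iff.1 hg).1.closure, (mem_quad_iff.1 hg).2⟩))
        (by
          intro x hx x0
          have hxG := hx.mono (c1.trans inf_le_left)
          have : ¬ Nd G x := by
            intro hd
            obtain ⟨y, hy, o⟩ := exists_op hk2 hk3 hG hd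
            obtain ⟨g, hg, e⟩ := hx.one_add
            have := congrArg Units.val (c2 g hg _
              (le_gen (mem_roots_iff.2 ⟨y, hy, rfl⟩) (un_mem_EG (self_mem_ES hy.1))))
            simp only [Units.val_mul, e, coe_un, mul_add, add_mul, mul_one, one_mul] at this
            have e2 : y * x = x * y := by rw [← sub_eq_zero, ← sub_eq_zero.2 this.symm]; abel
            exact o (by rw [e2, hx.sq'])
          simp only [Nd, hxG, x0, ne_eq, not_false_eq_true, true_and, not_forall, not_le] at this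
          obtain ⟨y, hy, y0, lt⟩ := this
          have := h y hy y0
          omega)
      have e1 : ⨆ i, gen (part i) = G₀ := by rw [hG₀, ← p1]; exact (iSup_iUnion _ _).symm
      have l1 : ∀ i, gen (part i) ≤ G₀ := fun i => e1 ▸ le_iSup (fun i => gen (part i)) i
      have l2 : ∀ i, Ci i ≤ C := fun i => q2 ▸ le_iSup Ci i
      refine ⟨Fin s ⊕ ι, inferInstance, Sum.elim (fun i => gen (part i)) Ci, ?_, ?_, ?_, fun r hr => ?_⟩
      · rintro (i | i) (j | j) hij
        · exact p2 i j fun e => hij (by rw [e])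
        · exact c2.symm.mono (l1 i) (l2 j)
        · exact c2.mono (l2 i) (l1 j)
        · exact q1 i j fun e => hij (by rw [e])
      · rw [iSup_sum]
        simp only [Sum.elim_inl, Sum.elim_inr]
        rw [e1, q2, c4]
      · rintro (i | i)
        · refine ⟨(p3 i).1, iSup₂_le fun A hA g hg => ?_⟩
          obtain ⟨x, hx, rfl⟩ := mem_roots_iff.1 (p1 ▸ Set.mem_iUnion.2 ⟨i, hA⟩)
          exact InG.mem (by simpa using ((nz_EG hg).mono (le_gen hA)).closure.one_add)
        · exact q3 i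
      · rw [iSup_sum]
        simp only [Sum.elim_inl, Sum.elim_inr]
        refine SetLike.le_def.1 (sup_le_sup (iSup₂_le fun A hA => ?_) fun u hu => ?_) (c3 r hr)
        · obtain ⟨i, hi⟩ := Set.mem_iUnion.1 (p1.symm ▸ hA)
          exact le_iSup_of_le i (ES_mono (le_gen hi))
        · exact SetLike.le_def.1 (iSup_mono fun i => ES_le_of_mem hu) (q4 u hu.1)
  exact key (Module.finrank k M + 1) G hG hQ fun _ _ _ => by omega

end char

end Cfsg.Agent.Lib.Root
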