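import Cfsg.Agent.Lib.Root.SL2b

set_option autoImplicit false

/-! Generation of `SL₂(k(α))` by two one-parameter groups over `k`. -/

namespace Cfsg.Agent.Lib.Root

open Cfsg Matrix Polynomial

section poly

variable {k : Type*} [Field k]

/-- polynomial maps from `k` to a vector space -/
inductive IsPoly {V : Type*} [AddCommGroup V] [Module k V] : (k → V) → Prop
  | const (v : V) : IsPoly fun _ => v
  | add {f g : k → V} : IsPoly f → IsPoly g → IsPoly fun τ => f τ + g τ
  | smul_id {f : k → V} : IsPoly f → IsPoly fun τ => τ • f τ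

variable {V V' : Type*} [AddCommGroup V] [Module k V] [AddCommGroup V'] [Module k V']

theorem IsPoly.map {f : k → V} (h : IsPoly f) (L : V →ₗ[k] V') : IsPoly fun τ => L (f τ) := by
  induction h with
  | const v => exact IsPoly.const _
  | add _ _ h1 h2 => simpa only [map_add] using h1.add h2
  | smul_id _ h1 => simpa only [map_smul] using h1.smul_id

theorem IsPoly.smul {m : k → k} {f : k → V} (hm : IsPoly m) (hf : IsPoly f) :
    IsPoly fun τ => m τ • f τ := by
  induction hm with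
  | const c => exact hf.map (c • LinearMap.id)
  | add _ _ h1 h2 => simpa only [add_smul] using h1.add h2
  | smul_id _ h1 => simpa only [smul_eq_mul, mul_smul] using h1.smul_id

theorem IsPoly.finite_zeros {m : k → k} (hm : IsPoly m) {τ₀ : k} (h : m τ₀ ≠ 0) :
    {τ | m τ = 0}.Finite := by
  have : ∃ P : k[X], ∀ τ, m τ = P.eval τ := by
    clear h
    induction hm with
    | const c => exact ⟨C c, by simp⟩
    | add _ _ h1 h2 =>
      obtain ⟨P, hP⟩ := h1
      obtain ⟨Q, hQ⟩ := h2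
      exact ⟨P + Q, by simp [hP, hQ]⟩
    | smul_id _ h1 =>
      obtain ⟨P, hP⟩ := h1
      exact ⟨X * P, by simp [hP]⟩
  obtain ⟨P, hP⟩ := this
  have hP0 : P ≠ 0 := by rintro rfl; simp [hP] at h
  simpa only [hP, IsRoot.def] using finite_setOf_isRoot hP0

end poly

section euclid

variable {k K : Type*} [Field k] [Field K] [Algebra k K]

/-- one step of the continued fraction expansion -/
def cfStep (k : Type*) [Field k] [Algebra k K] (β : K) (X : Set (K × K)) : Set (K × K) :=
  {v | ∃ a b : K, ∃ c : k, (a, b) ∈ X ∧ c ≠ 0 ∧ v = (b, a + c • (β * b))}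

/-- a large subset of `V₁ × V₂` -/
structure Large (X : Set (K × K)) (V₁ V₂ : Submodule k K) (N : ℕ) : Prop where
  sub : ∀ v ∈ X, v.1 ∈ V₁ ∧ v.2 ∈ V₂
  smul : ∀ v ∈ X, ∀ c : k, c ≠ 0 → c • v ∈ X
  gen : ∀ a b : k → K, IsPoly a → IsPoly b → (∀ τ, a τ ∈ V₁) → (∀ τ, b τ ∈ V₂) →
    ∀ τ₀, (a τ₀, b τ₀) ∈ X → {τ | (a τ, b τ) ∉ X}.Finite
  card : Nat.card X = (Nat.card kˣ) ^ N
  nonempty : X.Nonempty

theorem Large.step {X : Set (K × K)} {V₁ V₂ V₃ : Submodule k K} {N : ℕ} (h : Large X V₁ V₂ N)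
    (l : K →ₗ[k] k) (β : K) (h1 : ∀ v ∈ X, l (β * v.2) ≠ 0) (h2 : ∀ x ∈ V₁, l x = 0)
    (h3 : V₁ ≤ V₃) (h4 : ∀ x ∈ V₂, β * x ∈ V₃) (h5 : ∀ x ∈ V₃, l x = 0 → x ∈ V₁) :
    Large (cfStep k β X) V₂ V₃ (N + 1) ∧ ∀ v ∈ cfStep k β X, l v.2 ≠ 0 := by
  have hl : ∀ a b : K, ∀ c : k, (a, b) ∈ X → l (a + c • (β * b)) = c * l (β * b) := by
    intro a b c hab
    rw [map_add, map_smul, h2 a (h.sub _ hab).1, zero_add, smul_eq_mul]
  have hl' : ∀ v ∈ cfStep k β X, l v.2 ≠ 0 := by
    rintro _ ⟨a, b, c, hab, hc, rfl⟩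
    rw [hl a b c hab]
    exact mul_ne_zero hc (h1 _ hab)
  have hsm : ∀ v ∈ cfStep k β X, ∀ c : k, c ≠ 0 → c • v ∈ cfStep k β X := by
    rintro _ ⟨a, b, c, hab, hc, rfl⟩ d hd
    refine ⟨d • a, d • b, c, h.smul _ hab d hd, hc, ?_⟩
    simp [smul_comm d c]
  refine ⟨⟨?_, hsm, ?_, ?_, ?_⟩, hl'⟩
  · rintro _ ⟨a, b, c, hab, hc, rfl⟩
    exact ⟨(h.sub _ hab).2, V₃.add_mem (h3 (h.sub _ hab).1) (V₃.smul_mem c (h4 b (h.sub _ hab).2))⟩
  · intro b u hb hu hbV huV τ₀ h0
    have pm : IsPoly fun τ => l (β * b τ) := hb.map (l ∘ₗ LinearMap.mulLeft k β)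
    have pl : IsPoly fun τ => l (u τ) := hu.map l
    have pa : IsPoly fun τ => l (β * b τ) • u τ + l (u τ) • (-β * b τ) :=
      (pm.smul hu).add (pl.smul (hb.map (LinearMap.mulLeft k (-β))))
    have pb : IsPoly fun τ => l (β * b τ) • b τ := pm.smul hb
    have l0 := hl' _ h0
    obtain ⟨a₀, b₀, c, hab, hc, e⟩ := h0
    obtain ⟨e1, e2⟩ := Prod.ext_iff.1 e
    simp only at e1 e2 l0
    have m0 : l (β * b τ₀) ≠ 0 := e1 ▸ h1 _ hab
    have hfin := h.gen _ _ pa pb (fun τ => h5 _ (V₃.add_mem (V₃.smul_mem _ (huV τ))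
      (V₃.smul_mem _ (by rw [neg_mul]; exact V₃.neg_mem (h4 _ (hbV τ))))) (by simp [mul_comm]))
      (fun τ => V₂.smul_mem _ (hbV τ)) τ₀ (by
        have := h.smul _ hab _ m0
        convert this using 2
        · rw [e2, hl a₀ b₀ c hab, e1]
          simp only [smul_add, neg_mul, smul_neg, smul_smul, mul_comm c, Prod.smul_mk]
          abel
        · simp [e1])
    refine ((hfin.union (pm.finite_zeros m0)).union (pl.finite_zeros l0)).subset fun τ hτ => ?_
    by_contra hn
    simp only [Set.mem_union, Set.mem_setOf_eq, not_or, not_not] at hn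
    obtain ⟨⟨n1, n2⟩, n3⟩ := hn
    apply hτ
    have := hsm _ ⟨_, _, l (u τ) / l (β * b τ), n1, div_ne_zero n3 n2, rfl⟩ _ (inv_ne_zero n2)
    convert this using 1
    simp only [Prod.smul_mk, smul_smul, inv_mul_cancel₀ n2, one_smul, mul_smul_comm,
      div_mul_cancel₀ _ n2, neg_mul, smul_neg, neg_add_cancel_right]
  · rw [pow_succ, ← h.card, ← Nat.card_prod]
    symm
    refine Nat.card_congr (Equiv.ofBijective
      (fun v : X × kˣ => ⟨(v.1.1.2, v.1.1.1 + (v.2 : k) • (β * v.1.1.2)),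
        v.1.1.1, v.1.1.2, v.2, v.1.2, v.2.ne_zero, rfl⟩) ⟨?_, ?_⟩)
    · rintro ⟨⟨⟨a, b⟩, hab⟩, c⟩ ⟨⟨⟨a', b'⟩, hab'⟩, c'⟩ e
      obtain ⟨e0, e⟩ := Prod.ext_iff.1 (congrArg Subtype.val e)
      simp only at e0 e
      subst e0
      have e1 := congrArg l e
      rw [hl a b c hab, hl a' b c' hab'] at e1
      have e2 : c = c' := Units.ext (mul_right_cancel₀ (h1 _ hab) e1)
      subst e2
      have e3 : a = a' := add_right_cancel e
      subst e3
      rfl
    · rintro ⟨_, a, b, c, hab, hc, rfl⟩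
      exact ⟨(⟨(a, b), hab⟩, Units.mk0 c hc), rfl⟩
  · obtain ⟨⟨a, b⟩, hab⟩ := h.nonempty
    exact ⟨_, a, b, 1, hab, one_ne_zero, rfl⟩

theorem exists_large (pb : PowerBasis k K) (O : Set (K × K))
    (o0 : ∀ c : k, c ≠ 0 → (algebraMap k K c, 0) ∈ O)
    (o1 : ∀ p s : K, ∀ c : k, (p, s) ∈ O → (p, s + c • p) ∈ O)
    (o2 : ∀ p s : K, ∀ c : k, (p, s) ∈ O → (p + c • (pb.gen * s), s) ∈ O) :
    ∃ Y ⊆ O, Large Y (⊤ : Submodule k K) ⊤ (2 * pb.dim) ∧ ∀ v ∈ Y, v.2 ≠ 0 := by
  set α := pb.gen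
  set r := pb.dim
  have hr : 0 < r := pb.dim_pos
  let W : ℕ → Submodule k K := fun j => Submodule.span k ((fun i => α ^ i) '' Set.Iio j)
  let l : ℕ → K →ₗ[k] k := fun j => if h : j < r then pb.basis.coord ⟨j, h⟩ else 0
  have hl : ∀ i < r, ∀ j < r, l j (α ^ i) = if i = j then 1 else 0 := by
    intro i hi j hj
    have := pb.basis_eq_pow ⟨i, hi⟩
    simp only [l, dif_pos hj, Module.Basis.coord_apply]
    rw [← this, Module.Basis.repr_self, Finsupp.single_apply]
    simp [Fin.ext_iff]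
  have Wmono : ∀ j, W j ≤ W (j + 1) := fun j =>
    Submodule.span_mono (Set.image_mono fun i (hi : i < j) => Nat.lt_succ_of_lt hi)
  have Wl : ∀ j < r, ∀ x ∈ W j, l j x = 0 := by
    intro j hj x hx
    have : W j ≤ LinearMap.ker (l j) := by
      rw [Submodule.span_le]
      rintro _ ⟨i, hi : i < j, rfl⟩
      simp [hl i (hi.trans hj) j hj, hi.ne]
    exact this hx
  have Wdown : ∀ j < r, ∀ x ∈ W (j + 1), l j x = 0 → x ∈ W j := by
    intro j hj x hx h0
    have : W (j + 1) ≤ (W j).comap (LinearMap.id - (l j).smulRight (α ^ j)) := by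
      rw [Submodule.span_le]
      rintro _ ⟨i, hi : i < j + 1, rfl⟩
      simp only [SetLike.mem_coe, Submodule.mem_comap, LinearMap.sub_apply, LinearMap.id_apply,
        LinearMap.smulRight_apply, hl i (by omega) j hj]
      split_ifs with e
      · simp [e]
      · simp only [zero_smul, sub_zero]
        exact Submodule.subset_span ⟨i, show i < j by omega, rfl⟩
    simpa [h0] using this hx
  have Wmul : ∀ j, ∀ x ∈ W j, α * x ∈ W (j + 1) := by
    intro j x hx
    have : W j ≤ (W (j + 1)).comap (LinearMap.mulLeft k α) := by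
      rw [Submodule.span_le]
      rintro _ ⟨i, hi : i < j, rfl⟩
      exact Submodule.subset_span ⟨i + 1, show i + 1 < j + 1 by omega, by simp [pow_succ']⟩
    exact this hx
  have Wlmul : ∀ j, j + 1 < r → ∀ x ∈ W (j + 1), l (j + 1) (α * x) = l j x := by
    intro j hj x hx
    have : W (j + 1) ≤ LinearMap.eqLocus ((l (j + 1)).comp (LinearMap.mulLeft k α)) (l j) := by
      rw [Submodule.span_le]
      rintro _ ⟨i, hi : i < j + 1, rfl⟩
      simp only [SetLike.mem_coe, LinearMap.mem_eqLocus, LinearMap.comp_apply,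
        LinearMap.mulLeft_apply, ← pow_succ', hl (i + 1) (by omega) _ hj, hl i (by omega) j (by omega)]
      simp
    exact this hx
  have Wtop : W r = ⊤ := by
    rw [eq_top_iff, ← pb.basis.span_eq]
    apply Submodule.span_mono
    rintro _ ⟨i, rfl⟩
    exact ⟨i, i.2, (pb.basis_eq_pow i).symm⟩
  have odd : ∀ j < r, ∀ X, Large X (W j) (W (j + 1)) (2 * j + 1) →
      (∀ v ∈ X, l j v.2 ≠ 0 ∧ (v.2, v.1) ∈ O) →
      ∃ Y ⊆ O, Large Y (W (j + 1)) (W (j + 1)) (2 * (j + 1)) ∧ ∀ v ∈ Y, l j v.2 ≠ 0 := by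
    intro j hj X hX h
    obtain ⟨h1, h2⟩ := hX.step (l j) 1 (fun v hv => by simpa using (h v hv).1) (Wl j hj) (Wmono j)
      (fun x hx => by simpa using hx) (Wdown j hj)
    refine ⟨_, ?_, h1, h2⟩
    rintro _ ⟨a, b, c, hab, -, rfl⟩
    simpa using o1 b a c (h _ hab).2
  have main : ∀ j < r, ∃ X, Large X (W j) (W (j + 1)) (2 * j + 1) ∧
      (∀ v ∈ X, l j v.2 ≠ 0 ∧ (v.2, v.1) ∈ O) := by
    intro j
    induction j with
    | zero =>
      intro _
      have l1 : ∀ c : k, l 0 (algebraMap k K c) = c := by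
        intro c
        have := hl 0 hr 0 hr
        rw [Algebra.algebraMap_eq_smul_one, map_smul]
        simp only [pow_zero, if_true] at this
        simp [this]
      have W1 : ∀ x, x ∈ W 1 ↔ ∃ c : k, algebraMap k K c = x := by
        intro x
        have : ((fun i => α ^ i) '' Set.Iio 1) = {1} := by
          ext y; simp [eq_comm]
        simp only [W, this, Submodule.mem_span_singleton, Algebra.algebraMap_eq_smul_one]
      have W0 : W 0 = ⊥ := by simp [W]
      refine ⟨{v | ∃ c : k, c ≠ 0 ∧ v = (0, algebraMap k K c)}, ⟨?_, ?_, ?_, ?_, ?_⟩, ?_⟩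
      · rintro _ ⟨c, -, rfl⟩
        exact ⟨Submodule.zero_mem _, (W1 _).2 ⟨c, rfl⟩⟩
      · rintro _ ⟨c, hc, rfl⟩ d hd
        exact ⟨d * c, mul_ne_zero hd hc, by simp [Algebra.smul_def]⟩
      · intro a b ha hb haV hbV τ₀ ⟨c, hc, e⟩
        obtain ⟨e1, e2⟩ := Prod.ext_iff.1 e
        simp only at e1 e2
        refine ((hb.map (l 0)).finite_zeros (τ₀ := τ₀) (by rwa [e2, l1])).subset fun τ hτ => ?_
        by_contra hn
        obtain ⟨d, hd⟩ := (W1 _).1 (hbV τ)
        refine hτ ⟨d, fun e => hn ?_, Prod.ext ?_ hd.symm⟩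
        · simp [← hd, e]
        · simpa [W0] using haV τ
      · rw [pow_one]
        symm
        refine Nat.card_congr (Equiv.ofBijective
          (fun c : kˣ => ⟨(0, algebraMap k K c), c, c.ne_zero, rfl⟩) ⟨?_, ?_⟩)
        · intro c d e
          simp only [Subtype.mk.injEq, Prod.mk.injEq, true_and] at e
          exact Units.ext ((algebraMap k K).injective e)
        · rintro ⟨_, c, hc, rfl⟩
          exact ⟨Units.mk0 c hc, rfl⟩
      · exact ⟨_, 1, one_ne_zero, rfl⟩
      · rintro _ ⟨c, hc, rfl⟩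
        exact ⟨by rwa [l1], o0 c hc⟩
    | succ j ih =>
      intro hj
      obtain ⟨X, hX, h⟩ := ih (by omega)
      obtain ⟨Y, hYO, hY, h'⟩ := odd j (by omega) X hX h
      obtain ⟨h1, h2⟩ := hY.step (l (j + 1)) α
        (fun v hv => by rw [Wlmul j hj _ (hY.sub v hv).2]; exact h' v hv) (Wl _ hj) (Wmono _)
        (Wmul _) (Wdown _ hj)
      refine ⟨_, h1, fun v hv => ⟨h2 v hv, ?_⟩⟩
      obtain ⟨a, b, c, hab, -, rfl⟩ := hv
      exact o2 a b c (hYO hab)
  obtain ⟨j, hj⟩ : ∃ j, r = j + 1 := ⟨r - 1, by omega⟩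
  obtain ⟨X, hX, h⟩ := main j (by omega)
  obtain ⟨Y, hYO, hY, h'⟩ := odd j (by omega) X hX h
  rw [← hj, Wtop] at hY
  exact ⟨Y, hYO, hY, fun v hv e => h' v hv (by simp [e])⟩

theorem five_le_card [Finite k] (hk2 : ringChar k ≠ 2) (hk3 : Nat.card k ≠ 3) : 5 ≤ Nat.card k := by
  have := Fintype.ofFinite k
  have h1 := FiniteField.odd_card_of_char_ne_two hk2
  have h2 : 1 < Fintype.card k := Fintype.one_lt_card
  rw [Nat.card_eq_fintype_card] at hk3 ⊢
  omega

theorem subalg_top_of_sq (hk2 : ringChar k ≠ 2) (L : Subalgebra k K) (h : ∀ t : K, t ^ 2 ∈ L) :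
    L = ⊤ := by
  rw [eq_top_iff]
  intro t _
  have h2 : (2 : k) ≠ 0 := Ring.two_ne_zero hk2
  have h4 : (4 : k) ≠ 0 := by
    have : (4 : k) = 2 * 2 := by norm_num
    rw [this]; exact mul_ne_zero h2 h2
  have : t = (4 : k)⁻¹ • ((t + 1) ^ 2 - (t - 1) ^ 2) := by
    have e : (t + 1) ^ 2 - (t - 1) ^ 2 = (4 : k) • t := by
      rw [Algebra.smul_def, map_ofNat]; ring
    rw [e, smul_smul, inv_mul_cancel₀ h4, one_smul]
  rw [this]
  exact L.smul_mem (L.sub_mem (h _) (h _)) _

theorem subalg_top_of_large (hk2 : ringChar k ≠ 2) (hk3 : Nat.card k ≠ 3) [FiniteDimensional k K]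
    {Y : Set (K × K)} (hY : Large Y (⊤ : Submodule k K) ⊤ (2 * Module.finrank k K))
    (h0 : ∀ v ∈ Y, v.2 ≠ 0) (L : Subalgebra k K)
    (hL : ∀ v ∈ Y, ∀ t : K, t • v ∈ Y → t ^ 2 ∈ L) : L = ⊤ := by
  cases finite_or_infinite k with
  | inr hinf =>
    refine subalg_top_of_sq hk2 L fun t => ?_
    by_cases ht : t = 0
    · simp [ht]
    obtain ⟨v, hv⟩ := hY.nonempty
    have pγ : IsPoly fun τ : k => v + τ • (t⁻¹ • v - v) := (IsPoly.const _).add (IsPoly.const _).smul_id
    have pδ : IsPoly fun τ : k => t • v + τ • (v - t • v) :=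
      (IsPoly.const _).add (IsPoly.const _).smul_id
    have f1 := hY.gen _ _ (pγ.map (LinearMap.fst k K K)) (pγ.map (LinearMap.snd k K K))
      (fun _ => trivial) (fun _ => trivial) 0 (by simpa using hv)
    have f2 := hY.gen _ _ (pδ.map (LinearMap.fst k K K)) (pδ.map (LinearMap.snd k K K))
      (fun _ => trivial) (fun _ => trivial) 1 (by simpa using hv)
    obtain ⟨τ, hτ⟩ := (f1.union f2).infinite_compl.nonempty
    simp only [Set.mem_compl_iff, Set.mem_union, Set.mem_setOf_eq, not_or, not_not,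
      LinearMap.fst_apply, LinearMap.snd_apply, Prod.mk.eta] at hτ
    refine hL _ hτ.1 t ?_
    convert hτ.2 using 1
    rw [smul_add, smul_comm t τ, smul_sub, smul_smul, mul_inv_cancel₀ ht, one_smul]
  | inl hfin =>
    classical
    by_contra hne
    have hKfin : Finite K := Module.finite_of_finite k
    have := Fintype.ofFinite K
    have := Fintype.ofFinite k
    set q := Nat.card k with hq
    set r := Module.finrank k K with hr
    have h5 := five_le_card hk2 hk3
    have hQ : Nat.card K = q ^ r := Module.natCard_eq_pow_finrank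
    let L' : IntermediateField k K := Subalgebra.IsAlgebraic.toIntermediateField
      (S := L) (fun x _ => Algebra.IsAlgebraic.isAlgebraic x)
    have hL' : ∀ x, x ∈ L' ↔ x ∈ L := fun x => Iff.rfl
    have hd : 2 ≤ Module.finrank L' K := by
      by_contra hlt
      have h1 : Module.finrank L' K = 1 := by
        have := Module.finrank_pos (R := L') (M := K)
        omega
      apply hne
      rw [eq_top_iff]
      intro x _
      rw [← hL', IntermediateField.finrank_eq_one_iff_eq_top.1 h1]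
      trivial
    have hr2 : 2 ≤ r := by
      rw [hr, ← Module.finrank_mul_finrank k L' K]
      exact hd.trans (Nat.le_mul_of_pos_left _ Module.finrank_pos)
    have hLQ : Nat.card L' ^ 2 ≤ q ^ r := by
      rw [← hQ, Module.natCard_eq_pow_finrank (K := L') (V := K)]
      exact Nat.pow_le_pow_right Nat.card_pos hd
    let T : Finset K := Finset.univ.filter fun x => x ∈ L ∧ x ≠ 0
    have hT : T.card < Nat.card L' := by
      have : Nat.card L' = (Finset.univ.filter fun x => x ∈ L).card := by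
        rw [← Fintype.card_subtype, ← Nat.card_eq_fintype_card]; rfl
      rw [this]
      refine Finset.card_lt_card ⟨fun x hx => ?_, fun h => ?_⟩
      · simp only [T, Finset.mem_filter, Finset.mem_univ, true_and] at hx ⊢
        exact hx.1
      · have := h (show (0 : K) ∈ _ by simp)
        simp [T] at this
    let Yf : Finset (K × K) := Finset.univ.filter fun v => v ∈ Y
    have hYf : Yf.card = (q - 1) ^ (2 * r) := by
      rw [← Nat.card_units, ← hY.card, ← Fintype.card_subtype, ← Nat.card_eq_fintype_card]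
    have hle : Yf.card ≤ (2 * T.card) * (Finset.univ : Finset K).card := by
      refine Finset.card_le_mul_card_image_of_maps_to (f := fun v => v.1 / v.2)
        (fun _ _ => Finset.mem_univ _) _ fun m _ => ?_
      rcases (Yf.filter fun v => v.1 / v.2 = m).eq_empty_or_nonempty with e | ⟨v, hv⟩
      · simp [e]
      simp only [Yf, Finset.mem_filter, Finset.mem_univ, true_and] at hv
      have key : ∀ w ∈ Yf.filter fun v => v.1 / v.2 = m, w ∈ Y ∧ w = (w.2 / v.2) • v := by
        intro w hw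
        simp only [Yf, Finset.mem_filter, Finset.mem_univ, true_and] at hw
        refine ⟨hw.1, Prod.ext ?_ ?_⟩
        · have e := hw.2.trans hv.2.symm
          have := h0 w hw.1
          have := h0 v hv.1
          simp only [Prod.smul_fst, smul_eq_mul]
          field_simp at e ⊢
          linear_combination e
        · simp [h0 v hv.1]
      refine Finset.card_le_mul_card_image_of_maps_to (f := fun w => (w.2 / v.2) ^ 2)
        (fun w hw => ?_) _ fun u _ => ?_
      · simp only [T, Finset.mem_filter, Finset.mem_univ, true_and]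
        exact ⟨hL v hv.1 _ ((key w hw).2 ▸ (key w hw).1),
          pow_ne_zero _ (div_ne_zero (h0 w (key w hw).1) (h0 v hv.1))⟩
      · rcases ((Yf.filter fun v => v.1 / v.2 = m).filter
          fun w => (w.2 / v.2) ^ 2 = u).eq_empty_or_nonempty with e | ⟨w, hw⟩
        · simp [e]
        refine (Finset.card_le_card (t := {w, -w}) fun w' hw' => ?_).trans Finset.card_le_two
        rw [Finset.mem_filter] at hw hw'
        rcases sq_eq_sq_iff_eq_or_eq_neg.1 (hw'.2.trans hw.2.symm) with e | e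
        · rw [(key w' hw'.1).2, e, ← (key w hw.1).2]; simp
        · rw [(key w' hw'.1).2, e, neg_smul, ← (key w hw.1).2]; simp
    rw [hYf, Finset.card_univ, ← Nat.card_eq_fintype_card, hQ] at hle
    have i1 : 2 * q ^ 3 ≤ (q - 1) ^ 4 := by
      obtain ⟨n, hn⟩ : ∃ n, q = n + 5 := ⟨q - 5, by omega⟩
      rw [hn, show n + 5 - 1 = n + 4 by omega]
      ring_nf
      nlinarith [Nat.zero_le (n ^ 4), Nat.zero_le (n ^ 3), Nat.zero_le (n ^ 2)]
    have i2 : (2 * q ^ 3) ^ r ≤ ((q - 1) ^ (2 * r)) ^ 2 := by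
      rw [← pow_mul, show 2 * r * 2 = 4 * r by ring, pow_mul]
      exact Nat.pow_le_pow_left i1 r
    have i3 : 4 * (q ^ r) ^ 3 ≤ (2 * q ^ 3) ^ r := by
      rw [mul_pow, ← pow_mul, ← pow_mul, mul_comm r 3]
      exact Nat.mul_le_mul_right _ (Nat.pow_le_pow_right (n := 2) (by norm_num) hr2)
    have i4 : T.card ^ 2 < q ^ r := (Nat.pow_lt_pow_left hT (by norm_num)).trans_le hLQ
    have i5 := Nat.pow_le_pow_left hle 2
    have i6 : 0 < q ^ r := by positivity
    have i7 : (2 * T.card * q ^ r) ^ 2 < 4 * (q ^ r) ^ 3 := by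
      have : T.card ^ 2 * (q ^ r) ^ 2 < q ^ r * (q ^ r) ^ 2 :=
        Nat.mul_lt_mul_of_pos_right i4 (by positivity)
      calc _ = 4 * (T.card ^ 2 * (q ^ r) ^ 2) := by ring
        _ < 4 * (q ^ r * (q ^ r) ^ 2) := by omega
        _ = _ := by ring
    omega

theorem sl2_closure_eq_top (hk2 : ringChar k ≠ 2) (hk3 : Nat.card k ≠ 3) (pb : PowerBasis k K)
    (h0 : pb.gen ≠ 0) (H : Subgroup (SpecialLinearGroup (Fin 2) K))
    (hu : ∀ c : k, xu (algebraMap k K c) ∈ H) (hl : ∀ c : k, xl (algebraMap k K c * pb.gen) ∈ H) :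
    H = ⊤ := by
  have := pb.finite
  set α := pb.gen
  let O : Set (K × K) := {v | ∃ c : k, c ≠ 0 ∧ ∃ h ∈ H, v.1 = c • h 0 0 ∧ α * v.2 = c • h 1 0}
  obtain ⟨Y, hYO, hY, hY0⟩ := exists_large pb O
    (fun c hc => ⟨c, hc, 1, H.one_mem, by simp [Algebra.smul_def], by simp⟩)
    (by
      rintro p s c ⟨d, hd, h, hh, e1, e2⟩
      refine ⟨d, hd, _, H.mul_mem (hl c) hh, by simpa [Matrix.vecMul, dotProduct] using e1, ?_⟩
      simp only at e1 e2
      simp only [mul_add, e2, e1]
      simp [Algebra.smul_def, Matrix.mul_apply, Fin.sum_univ_two]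
      ring)
    (by
      rintro p s c ⟨d, hd, h, hh, e1, e2⟩
      simp only at e1 e2
      refine ⟨d, hd, _, H.mul_mem (hu c) hh, ?_, by simpa [Matrix.vecMul, dotProduct] using e2⟩
      simp only [e1]
      rw [show pb.gen * s = _ from e2]
      simp [Algebra.smul_def, Matrix.mul_apply, Fin.sum_univ_two]
      ring)
  rw [← pb.finrank] at hY
  let U : Submodule k K :=
    { carrier := {u | ∀ c : k, xu (c • u) ∈ H}
      zero_mem' := fun c => by rw [smul_zero, stRel_sl2.x_zero]; exact H.one_mem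
      add_mem' := fun {a b} ha hb c => by rw [smul_add, xu_add]; exact H.mul_mem (ha c) (hb c)
      smul_mem' := fun d a ha c => by rw [smul_smul]; exact ha _ }
  let L : Subalgebra k K :=
    { carrier := {t | ∀ u ∈ U, t * u ∈ U}
      mul_mem' := fun {a b} ha hb u hu => by rw [mul_assoc]; exact ha _ (hb u hu)
      add_mem' := fun {a b} ha hb u hu => by rw [add_mul]; exact U.add_mem (ha u hu) (hb u hu)
      algebraMap_mem' := fun c u hu => by rw [← Algebra.smul_def]; exact U.smul_mem c hu }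
  have hL : L = ⊤ := by
    refine subalg_top_of_large hk2 hk3 hY hY0 L fun v hv t htv u hu c => ?_
    obtain ⟨d, hd, g, hg, e1, e2⟩ := hYO hv
    obtain ⟨d', hd', g', hg', e1', e2'⟩ := hYO htv
    simp only [Prod.smul_fst, Prod.smul_snd, smul_eq_mul] at e1' e2'
    have hm := H.mul_mem (H.mul_mem (H.mul_mem (H.inv_mem hg) hg') (hu ((d' / d) ^ 2 * c)))
      (H.inv_mem (H.mul_mem (H.inv_mem hg) hg'))
    convert hm using 1
    rw [eq_mul_inv_iff_mul_eq, mul_assoc, eq_inv_mul_iff_mul_eq, ← mul_assoc, ← mul_assoc]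
    have hdet := g.det_coe
    have hdet' := g'.det_coe
    rw [det_fin_two] at hdet hdet'
    have hD : algebraMap k K d ≠ 0 := by simpa using hd
    have hD' : algebraMap k K d' ≠ 0 := by simpa using hd'
    rw [Algebra.smul_def] at e1 e2 e1' e2'
    have f1 : g' 0 0 = t * algebraMap k K d / algebraMap k K d' * g 0 0 := by
      field_simp; linear_combination t * e1 - e1'
    have f2 : g' 1 0 = t * algebraMap k K d / algebraMap k K d' * g 1 0 := by
      field_simp; linear_combination t * e2 - e2'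
    set lam := t * algebraMap k K d / algebraMap k K d' with hlam
    have e3 : c • (t ^ 2 * u) = lam ^ 2 * (((d' / d) ^ 2 * c) • u) := by
      simp only [hlam, Algebra.smul_def, map_mul, map_pow, map_div₀]
      field_simp
    rw [e3]
    set w := ((d' / d) ^ 2 * c) • u
    clear_value w lam
    rw [f1, f2] at hdet'
    apply Subtype.ext
    ext i j
    fin_cases i <;> fin_cases j <;>
      simp [Matrix.mul_apply, Fin.sum_univ_two, adjugate_fin_two, f1, f2]
    · linear_combination (lam * g 0 0) * hdet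
    · linear_combination (g' 0 1) * hdet + (lam * w * g 0 0) * hdet'
    · linear_combination (lam * g 1 0) * hdet
    · linear_combination (g' 1 1) * hdet + (lam * w * g 1 0) * hdet'
  have hU : ∀ t, xu t ∈ H := by
    intro t
    have h1 : (1 : K) ∈ U := fun c => by rw [← Algebra.algebraMap_eq_smul_one]; exact hu c
    simpa using (hL ▸ Algebra.mem_top : t ∈ L) 1 h1 1
  have hV : ∀ t, xl t ∈ H := by
    intro t
    have hα : -α⁻¹ ≠ 0 := by simpa using h0
    have := stRel_sl2.rel (-α⁻¹) hα (-t * (-α⁻¹) ^ 2)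
    rw [show -(-t * (-α⁻¹) ^ 2) / (-α⁻¹) ^ 2 = t by field_simp] at this
    rw [← this]
    have h1 : xu (-α⁻¹) * xl (-(-α⁻¹)⁻¹) * xu (-α⁻¹) ∈ H :=
      H.mul_mem (H.mul_mem (hU _) (by simpa using hl 1)) (hU _)
    exact H.mul_mem (H.mul_mem h1 (hU _)) (H.inv_mem h1)
  rw [eq_top_iff]
  intro g _
  induction g using sl2_induction with
  | h1 c => exact hU c
  | h2 c => exact hV c
  | hmul A B hA hB => exact H.mul_mem (hA trivial) (hB trivial)

end euclid

end Cfsg.Agent.Lib.Root
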