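import Cfsg.Agent.Lib.Root.J1T

set_option autoImplicit false
set_option maxRecDepth 100000

/-! # Facts about `2 × A₅` -/

namespace Cfsg.Agent.Lib.Root.J1

def t0 : T := gT 0
def v0 : T := gT 1
def x0 : T := gT 2
def s0 : T := gT 3

theorem T_t_comm : ∀ a : T, a * t0 = t0 * a := by decide +kernel
theorem T_t_sq : t0 * t0 = 1 := by decide +kernel
theorem T_t_ne : t0 ≠ 1 := by decide +kernel
theorem T_v : v0 * v0 = 1 ∧ v0 ≠ 1 ∧ v0 ≠ t0 := by decide +kernel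
theorem T_x : x0 ^ 3 = 1 ∧ x0 ≠ 1 := by decide +kernel
theorem T_central : ∀ a : T, (∀ b, a * b = b * a) → a = 1 ∨ a = t0 := by decide +kernel
theorem T_pow30 : ∀ a : T, a ^ 30 = 1 := by decide +kernel
theorem T_orders : ∀ a : T, a ^ 6 = 1 ∨ a ^ 10 = 1 := by decide +kernel
theorem T_inv_count : (Finset.univ.filter fun a : T => a ≠ 1 ∧ a * a = 1).card = 31 := by
  decide +kernel
theorem T_S_comm : ∀ a : T, a * v0 = v0 * a → ∀ b : T, b * v0 = v0 * b → a * b = b * a := by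
  decide +kernel
theorem T_S_card : (Finset.univ.filter fun a : T => a * v0 = v0 * a).card = 8 := by decide +kernel
theorem T_cent_inv : ∀ s : T, s * s = 1 → s ≠ 1 → s ≠ t0 → ∀ a, a * s = s * a → a * a = 1 := by
  decide +kernel
theorem T_N_card : (Finset.univ.filter fun a : T =>
    ∀ b, b * v0 = v0 * b → a * b * a⁻¹ * v0 = v0 * (a * b * a⁻¹)).card = 24 := by decide +kernel
theorem T_x_N : ∀ b, b * v0 = v0 * b → x0 * b * x0⁻¹ * v0 = v0 * (x0 * b * x0⁻¹) := by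
  decide +kernel
theorem T_S_elts : ∀ a : T, a * v0 = v0 * a → a = 1 ∨ a = t0 ∨
    (a = v0 ∨ a = x0 * v0 * x0⁻¹ ∨ a = x0⁻¹ * v0 * x0) ∨
    (a = t0 * v0 ∨ a = x0 * (t0 * v0) * x0⁻¹ ∨ a = x0⁻¹ * (t0 * v0) * x0) := by decide +kernel
theorem T_prod : ∀ a : T, (a = t0 * v0 ∨ a = x0 * (t0 * v0) * x0⁻¹ ∨ a = x0⁻¹ * (t0 * v0) * x0) →
    ∀ b : T, (b = t0 * v0 ∨ b = x0 * (t0 * v0) * x0⁻¹ ∨ b = x0⁻¹ * (t0 * v0) * x0) → a ≠ b →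
    ∀ c : T, (c = t0 * v0 ∨ c = x0 * (t0 * v0) * x0⁻¹ ∨ c = x0⁻¹ * (t0 * v0) * x0) → a ≠ c →
    b ≠ c → a * b * c = t0 := by decide +kernel
theorem T_tv : t0 * v0 ≠ x0 * (t0 * v0) * x0⁻¹ ∧ t0 * v0 ≠ x0⁻¹ * (t0 * v0) * x0 ∧
    x0 * (t0 * v0) * x0⁻¹ ≠ x0⁻¹ * (t0 * v0) * x0 ∧ t0 * v0 * v0 = v0 * (t0 * v0) ∧
    x0 * (t0 * v0) * x0⁻¹ * v0 = v0 * (x0 * (t0 * v0) * x0⁻¹) ∧
    x0⁻¹ * (t0 * v0) * x0 * v0 = v0 * (x0⁻¹ * (t0 * v0) * x0) ∧ t0 * v0 ≠ 1 := by decide +kernel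
theorem T_cent_p : ∀ g : T, (g ^ 3 = 1 ∨ g ^ 5 = 1) → g ≠ 1 → ∀ a, a * g = g * a →
    ∃ i : Fin 5, a = g ^ (i : ℕ) ∨ a = t0 * g ^ (i : ℕ) := by decide +kernel
theorem T_inverter : ∀ g : T, (g ^ 3 = 1 ∨ g ^ 5 = 1) → g ≠ 1 →
    ∃ s, s * s = 1 ∧ s ≠ 1 ∧ s ≠ t0 ∧ s * g * s = g⁻¹ := by decide +kernel
theorem T_conj3 : ∀ a : T, a ^ 3 = 1 → a ≠ 1 → ∀ b : T, b ^ 3 = 1 → b ≠ 1 →
    ∃ c, c * a * c⁻¹ = b := by decide +kernel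
theorem T_conj5 : ∀ a : T, a ^ 5 = 1 → a ≠ 1 → ∀ b : T, b ^ 5 = 1 → b ≠ 1 →
    ∃ c, c * a * c⁻¹ = b ∨ c * a * c⁻¹ = b * b := by decide +kernel
theorem T_35 : ∀ a : T, a ^ 3 = 1 → ∀ b : T, b ^ 5 = 1 → a * b = b * a → a = 1 ∨ b = 1 := by
  decide +kernel
theorem T_five : ∀ g : T, g ^ 3 = 1 → g ≠ 1 → ∀ s : T, s * s = 1 → s * g * s = g⁻¹ →
    ∀ m : T, m * s = s * m → m = 1 ∨ m = t0 ∨ m = s ∨ m = t0 * s ∨
      ((g * (m * g * m⁻¹)) ^ 5 = 1 ∧ g * (m * g * m⁻¹) ≠ 1) := by decide +kernel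
theorem T_six : ∀ a : T, a * a ≠ 1 → a ^ 6 = 1 →
    (Finset.univ.filter fun b : T => b * a = a * b).card = 6 := by decide +kernel
theorem T_ex5 : ∃ a : T, a ^ 5 = 1 ∧ a ≠ 1 := by decide +kernel

end Cfsg.Agent.Lib.Root.J1
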