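import Cfsg.Agent.Lib.Root.J1F
import Cfsg.Agent.Lib.Transfer.Focal
import Cfsg.Agent.Lib.Invol.SylowAux

set_option autoImplicit false

/-! # Groups with involution centraliser `2 × A₅`: Sylow 2-subgroups and fusion -/

namespace Cfsg.Agent.Lib.Root.J1

open Subgroup

variable {G : Type*} [Group G]

/-- involutions -/
def Iv (w : G) : Prop := w ≠ 1 ∧ w * w = 1

theorem Iv.inv {w : G} (h : Iv w) : w⁻¹ = w := inv_eq_of_mul_eq_one_right h.2

theorem Iv.conj {w : G} (h : Iv w) (g : G) : Iv (g * w * g⁻¹) :=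
  ⟨by simpa using h.1, by rw [conj_mul, h.2]; simp⟩

theorem Iv.cancel {w : G} (h : Iv w) (x : G) : w * (w * x) = x := by
  rw [← mul_assoc, h.2, one_mul]

theorem Iv.orderOf {w : G} (h : Iv w) : orderOf w = 2 :=
  orderOf_eq_prime (by rw [pow_two, h.2]) h.1

/-- `φ` is an isomorphism of the model onto the centraliser of `w`. -/
structure Emb (w : G) (φ : T →* G) : Prop where
  inj : Function.Injective φ
  map_t : φ t0 = w
  surj : ∀ g, g * w = w * g → ∃ a, φ a = g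

namespace Emb
variable {w : G} {φ : T →* G} (h : Emb w φ)
include h

theorem eq_iff {a b : T} : φ a = φ b ↔ a = b := h.inj.eq_iff

theorem eq_one {a : T} : φ a = 1 ↔ a = 1 := by rw [← map_one φ, h.eq_iff]

theorem comm (a : T) : φ a * w = w * φ a := by rw [← h.map_t, ← map_mul, T_t_comm, map_mul]

theorem iv : Iv w := ⟨by rw [← h.map_t, Ne, h.eq_one]; exact T_t_ne, by
  rw [← h.map_t, ← map_mul, T_t_sq, map_one]⟩

theorem conj (g : G) : Emb (g * w * g⁻¹) ((MulAut.conj g).toMonoidHom.comp φ) where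
  inj := (MulAut.conj g).injective.comp h.inj
  map_t := by simp [h.map_t]
  surj := fun y hy => by
    obtain ⟨a, ha⟩ := h.surj (g⁻¹ * y * g) (by
      calc g⁻¹ * y * g * w = g⁻¹ * (y * (g * w * g⁻¹)) * g := by group
        _ = w * (g⁻¹ * y * g) := by rw [hy]; group)
    exact ⟨a, by simp [ha, mul_assoc]⟩

theorem ncard (P : G → Prop) (Q : T → Prop) [DecidablePred Q] (hP : ∀ g, P g → g * w = w * g)
    (hQ : ∀ a, P (φ a) ↔ Q a) : {g | P g}.ncard = (Finset.univ.filter Q).card := by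
  have : {g | P g} = φ '' (Finset.univ.filter Q : Finset T) := by
    ext g
    constructor
    · intro hg
      obtain ⟨a, rfl⟩ := h.surj g (hP g hg)
      exact ⟨a, by simpa using (hQ a).1 hg, rfl⟩
    · rintro ⟨a, ha, rfl⟩
      exact (hQ a).2 (by simpa using ha)
  rw [this, Set.ncard_image_of_injective _ h.inj, Set.ncard_coe_finset]

theorem card_cent : Nat.card (centralizer ({w} : Set G)) = 120 := by
  have := h.ncard (fun g => g * w = w * g) (fun _ => True) (fun _ h => h) (fun a => by simp [h.comm])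
  rw [Finset.filter_true, Finset.card_univ, ← Nat.card_eq_fintype_card, card_T] at this
  rw [← this, ← Nat.card_coe_set_eq]
  exact Nat.card_congr (Equiv.subtypeEquivRight fun g => mem_centralizer_singleton_iff)

theorem ncard_iv : {u | Iv u ∧ u * w = w * u}.ncard = 31 := by
  rw [← T_inv_count]
  exact h.ncard _ _ (fun _ h => h.2) fun a => by
    simp [Iv, h.comm, h.eq_one, ← map_mul]

theorem pow30 {g : G} (hg : g * w = w * g) : g ^ 30 = 1 := by
  obtain ⟨a, rfl⟩ := h.surj g hg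
  rw [← map_pow, T_pow30, map_one]

end Emb

/-- orbit-stabiliser for conjugation -/
theorem card_eq_orbit_mul [Finite G] (K : Subgroup G) (t : G) :
    Nat.card K = {y | ∃ k ∈ K, k * t * k⁻¹ = y}.ncard *
      Nat.card (K ⊓ centralizer ({t} : Set G) : Subgroup G) := by
  letI : MulAction K G := MulAction.compHom G (MulAut.conj.comp K.subtype)
  have hs : ∀ (k : K) (y : G), k • y = k * y * k⁻¹ := fun _ _ => rfl
  have h1 := Subgroup.card_eq_card_quotient_mul_card_subgroup (MulAction.stabilizer K t)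
  rw [← Nat.card_congr (MulAction.orbitEquivQuotientStabilizer K t), Nat.card_coe_set_eq] at h1
  rw [h1]
  congr 1
  · congr 1
    ext y
    exact ⟨fun ⟨k, hk⟩ => ⟨k, k.2, hk⟩, fun ⟨k, hk, e⟩ => ⟨⟨k, hk⟩, e⟩⟩
  · refine Nat.card_congr ⟨fun k => ⟨k.1.1, k.1.2, ?_⟩, fun k => ⟨⟨k.1, k.2.1⟩, ?_⟩, fun _ => rfl,
      fun _ => rfl⟩
    · have := k.2
      rw [MulAction.mem_stabilizer_iff, hs] at this
      exact mem_centralizer_singleton_iff.2 (mul_inv_eq_iff_eq_mul.1 this)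
    · rw [MulAction.mem_stabilizer_iff, hs]
      exact mul_inv_eq_iff_eq_mul.2 (mem_centralizer_singleton_iff.1 k.2.2)

theorem card_eq_ncard (K : Subgroup G) : Nat.card K = (K : Set G).ncard :=
  Nat.card_coe_set_eq _

/-- the Sylow 2-subgroup -/
def SS (φ : T →* G) : Subgroup G := (centralizer ({v0} : Set T)).map φ

theorem mem_SS {φ : T →* G} {g : G} : g ∈ SS φ ↔ ∃ a, a * v0 = v0 * a ∧ φ a = g := by
  simp [SS, mem_centralizer_singleton_iff]

theorem Emb.mem_SS {w : G} {φ : T →* G} (h : Emb w φ) {a : T} : φ a ∈ SS φ ↔ a * v0 = v0 * a := by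
  simp [J1.mem_SS, h.eq_iff]

theorem Emb.card_SS {w : G} {φ : T →* G} (h : Emb w φ) : Nat.card (SS φ) = 8 := by
  rw [card_eq_ncard, ← T_S_card]
  refine h.ncard (fun g => g ∈ SS φ) _ ?_ fun a => h.mem_SS
  intro g hg
  obtain ⟨a, -, rfl⟩ := J1.mem_SS.1 hg
  exact h.comm a

instance SS_comm (φ : T →* G) : IsMulCommutative (SS φ) := ⟨⟨by
  rintro ⟨_, h1⟩ ⟨_, h2⟩
  obtain ⟨a, ha, rfl⟩ := mem_SS.1 h1
  obtain ⟨b, hb, rfl⟩ := mem_SS.1 h2
  exact Subtype.ext (by simp [← map_mul, T_S_comm a ha b hb])⟩⟩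

theorem SS_sq {φ : T →* G} {g : G} (hg : g ∈ SS φ) : g * g = 1 := by
  obtain ⟨a, ha, rfl⟩ := mem_SS.1 hg
  rw [← map_mul, T_cent_inv v0 T_v.1 T_v.2.1 T_v.2.2 a ha, map_one]

variable [Finite G]

theorem Emb.sylow {t : G} {φ : T →* G} (h : Emb t φ) (h16 : ¬ 16 ∣ Nat.card G) :
    ∃ P : Sylow 2 G, (P : Subgroup G) = SS φ := by
  have h8 : 8 ∣ Nat.card G := h.card_SS ▸ (SS φ).card_subgroup_dvd_card
  have h3 : (Nat.card G).factorization 2 = 3 := by
    have h0 : Nat.card G ≠ 0 := Nat.card_pos.ne'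
    apply le_antisymm
    · by_contra hc
      exact h16 ((Nat.prime_two.pow_dvd_iff_le_factorization h0 (k := 4)).2 (by omega))
    · exact (Nat.prime_two.pow_dvd_iff_le_factorization h0 (k := 3)).1 h8
  exact ⟨Sylow.ofCard (SS φ) (by rw [h.card_SS, h3]; rfl), rfl⟩

theorem Emb.fuse [IsSimpleGroup G] {t : G} {φ : T →* G} (h : Emb t φ) (h16 : ¬ 16 ∣ Nat.card G) :
    IsConj t (φ v0) := by
  obtain ⟨P, hP⟩ := h.sylow h16
  let f : T →* Multiplicative (ZMod 2) := (MonoidHom.fst _ _).comp TM.toMonoidHom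
  have hf : ∀ a : T, a * v0 = v0 * a → (f a = 1 ↔ (a = 1 ∨ a = v0 ∨ a = x0 * v0 * x0⁻¹ ∨
      a = x0⁻¹ * v0 * x0)) := by
    have : ∀ a : T, a * v0 = v0 * a → ((cd a).1 = 1 ↔ (a = 1 ∨ a = v0 ∨ a = x0 * v0 * x0⁻¹ ∨
      a = x0⁻¹ * v0 * x0)) := by decide +kernel
    exact this
  let Q : Subgroup G := (centralizer ({v0} : Set T) ⊓ f.ker).map φ
  have hQ : Nat.card Q = 4 := by
    rw [card_eq_ncard]
    have : (Finset.univ.filter fun a : T => a * v0 = v0 * a ∧ (cd a).1 = 1).card = 4 := by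
      decide +kernel
    rw [← this]
    refine h.ncard (fun g => g ∈ Q) _ ?_ fun a => ?_
    · rintro _ ⟨a, -, rfl⟩
      exact h.comm a
    · rw [mem_map_iff_mem h.inj, mem_inf, mem_centralizer_singleton_iff]
      rfl
  have hQP : Q ≤ P := hP ▸ map_mono inf_le_left
  have hi : Q.relIndex (P : Subgroup G) = 2 := by
    have := (Q.subgroupOf P).index_mul_card
    rw [Nat.card_congr (subgroupOfEquivOfLe hQP).toEquiv, hQ, hP, h.card_SS] at this
    unfold relIndex
    rw [hP]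
    omega
  have ht : t ∉ Q := by
    rw [← h.map_t, mem_map_iff_mem h.inj]
    rintro ⟨-, h1⟩
    revert h1
    have : ¬ (cd t0).1 = 1 := by decide +kernel
    exact this
  by_contra hc
  obtain ⟨M, hM, hM2, -⟩ := Transfer.thompson_transfer P hi (u := t) (by rw [pow_two, h.iv.2])
    (by rw [hP, ← h.map_t, h.mem_SS, T_t_comm]) ht (by
      rintro g ⟨a, ⟨ha, ha'⟩, e⟩
      have h1 : IsConj t (φ a) := isConj_iff.2 ⟨g, e.symm⟩
      rcases (hf a (mem_centralizer_singleton_iff.1 ha)).1 ha' with rfl | rfl | rfl | rfl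
      · exact h.iv.1 (by simpa using h1)
      · exact hc h1
      · exact hc (h1.trans (isConj_iff.2 ⟨φ x0, by simp⟩).symm)
      · exact hc (h1.trans (isConj_iff.2 ⟨φ x0⁻¹, by simp⟩).symm))
  rcases hM.eq_bot_or_eq_top with rfl | rfl
  · rw [index_bot] at hM2
    have := h.card_SS ▸ (SS φ).card_subgroup_dvd_card
    omega
  · simp at hM2

/-- The basic hypothesis. -/
structure Hyp (t : G) (φ : T →* G) : Prop where
  emb : Emb t φ
  not16 : ¬ 16 ∣ Nat.card G
  fuse : IsConj t (φ v0)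

namespace Hyp
variable {t : G} {φ : T →* G} (h : Hyp t φ)
include h

theorem exists_norm {y : G} (hy : y ∈ SS φ) (hc : IsConj t y) :
    ∃ n ∈ normalizer (SS φ : Set G), n * t * n⁻¹ = y := by
  obtain ⟨P, hP⟩ := h.emb.sylow h.not16
  obtain ⟨g, rfl⟩ := isConj_iff.1 hc
  have : IsMulCommutative P := by
    have := SS_comm φ
    rwa [← hP] at this
  obtain ⟨n, hn, e⟩ := P.conj_eq_normalizer_conj_of_mem t g⁻¹
    (by rw [← SetLike.mem_coe, ← Sylow.coe_coe, hP, ← h.emb.map_t, SetLike.mem_coe, h.emb.mem_SS,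
      T_t_comm]) (by rw [← SetLike.mem_coe, ← Sylow.coe_coe, hP]; simpa using hy)
  refine ⟨n⁻¹, ?_, by simpa using e.symm⟩
  rw [← hP]
  exact inv_mem hn

theorem conj_SS {y : G} (hy : y ∈ SS φ) (hy1 : y ≠ 1) : IsConj t y := by
  have hx : ∀ a : T, IsConj (φ a) (φ (x0 * a * x0⁻¹)) ∧ IsConj (φ a) (φ (x0⁻¹ * a * x0)) :=
    fun a => ⟨isConj_iff.2 ⟨φ x0, by simp⟩, isConj_iff.2 ⟨φ x0⁻¹, by simp⟩⟩
  have key : IsConj t (φ (t0 * v0)) := by
    by_contra hc
    obtain ⟨n, hn, e⟩ := h.exists_norm (h.emb.mem_SS.2 rfl) h.fuse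
    have h1 : ∀ a : T, a * v0 = v0 * a → ¬ IsConj t (φ a) → a ≠ 1 → ∃ b : T,
        (b = t0 * v0 ∨ b = x0 * (t0 * v0) * x0⁻¹ ∨ b = x0⁻¹ * (t0 * v0) * x0) ∧
        φ b = n * φ a * n⁻¹ := by
      intro a ha h1 h2
      obtain ⟨b, hb, e⟩ := mem_SS.1 ((mem_normalizer_iff.1 hn _).1 (h.emb.mem_SS.2 ha))
      have h3 : ¬ IsConj t (φ b) := fun h3 => h1 (h3.trans (isConj_iff.2 ⟨n, e.symm⟩).symm)
      refine ⟨b, ?_, e⟩
      rcases T_S_elts b hb with rfl | rfl | (rfl | rfl | rfl) | h4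
      · exact absurd (h.emb.eq_one.1 (by simpa using e.symm)) h2
      · exact absurd (h.emb.map_t ▸ IsConj.refl _) h3
      · exact absurd h.fuse h3
      · exact absurd (h.fuse.trans (hx v0).1) h3
      · exact absurd (h.fuse.trans (hx v0).2) h3
      · exact h4
    obtain ⟨h2, h3, h4, h5, h6, h7, h8⟩ := T_tv
    obtain ⟨a, ha, ea⟩ := h1 _ h5 hc h8
    obtain ⟨b, hb, eb⟩ := h1 _ h6 (fun h => hc (h.trans (hx _).1.symm)) (by simpa using h8)
    obtain ⟨c, hc', ec⟩ := h1 _ h7 (fun h => hc (h.trans (hx _).2.symm))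
      (by decide +kernel)
    have h9 : ∀ {a b a' b' : T}, φ a = n * φ a' * n⁻¹ → φ b = n * φ b' * n⁻¹ → a' ≠ b' → a ≠ b := by
      rintro a _ a' b' h1 h2 h3 rfl
      exact h3 (h.emb.eq_iff.1 (by simpa using h1.symm.trans h2))
    have h10 := congrArg φ (T_prod a ha b hb (h9 ea eb h2) c hc' (h9 ea ec h3) (h9 eb ec h4))
    rw [map_mul, map_mul, ea, eb, ec, conj_mul, conj_mul, ← map_mul, ← map_mul,
      T_prod _ (.inl rfl) _ (.inr (.inl rfl)) h2 _ (.inr (.inr rfl)) h3 h4, h.emb.map_t, e,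
      ← h.emb.map_t, h.emb.eq_iff] at h10
    exact T_v.2.2 h10
  obtain ⟨a, ha, rfl⟩ := mem_SS.1 hy
  rcases T_S_elts a ha with rfl | rfl | (rfl | rfl | rfl) | (rfl | rfl | rfl)
  · simp at hy1
  · exact h.emb.map_t ▸ IsConj.refl _
  · exact h.fuse
  · exact h.fuse.trans (hx v0).1
  · exact h.fuse.trans (hx v0).2
  · exact key
  · exact key.trans (hx _).1
  · exact key.trans (hx _).2

theorem conj_iv {w : G} (hw : Iv w) : IsConj t w := by
  obtain ⟨P, hP⟩ := h.emb.sylow h.not16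
  obtain ⟨g, hg⟩ := Invol.exists_conj_involution_mem_sylow P hw.orderOf
  exact (h.conj_SS (hP ▸ hg) (hw.conj g).1).trans (isConj_iff.2 ⟨g, rfl⟩).symm

theorem emb_iv {w : G} (hw : Iv w) : ∃ ψ : T →* G, Emb w ψ := by
  obtain ⟨g, rfl⟩ := isConj_iff.1 (h.conj_iv hw)
  exact ⟨_, h.emb.conj g⟩

theorem pow30 {w g : G} (hw : Iv w) (hg : g * w = w * g) : g ^ 30 = 1 := by
  obtain ⟨ψ, hψ⟩ := h.emb_iv hw
  exact hψ.pow30 hg

theorem sq_of_four {y : G} (hy : y ^ 4 = 1) : y * y = 1 := by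
  by_contra hc
  have h1 := h.pow30 (w := y * y) (g := y) ⟨hc, by rw [← hy]; simp [pow_succ, mul_assoc]⟩ (by group)
  apply hc
  calc y * y = y ^ 30 * ((y ^ 4) ^ 7)⁻¹ := by rw [← pow_two]; group
    _ = 1 := by rw [h1, hy]; simp

theorem sq_of_two_pow {j : ℕ} : ∀ {y : G}, y ^ 2 ^ j = 1 → y * y = 1 := by
  induction j using Nat.strong_induction_on with
  | _ j ih =>
  intro y hy
  match j with
  | 0 => simp_all
  | 1 => simpa [pow_two] using hy
  | j + 2 =>
    refine ih (j + 1) (by omega) ?_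
    rw [pow_succ, pow_mul, pow_two]
    exact h.sq_of_four (by rw [← pow_mul, ← hy]; congr 1; ring)

theorem no_four {y g : G} (hy : y * y * g * (y * y)⁻¹ = g⁻¹) : g * g = 1 := by
  obtain ⟨j, m, ⟨k, rfl⟩, e⟩ := Nat.exists_eq_two_pow_mul_odd (orderOf_pos y).ne'
  have h1 : y ^ (2 * k + 1) * y ^ (2 * k + 1) = 1 :=
    h.sq_of_two_pow (j := j) (by rw [← pow_mul, mul_comm, ← e, pow_orderOf_eq_one])
  have h2 : Commute ((y * y) * (y * y)) g := by
    have : y * y * g⁻¹ * (y * y)⁻¹ = g := by rw [← conj_inv, hy, inv_inv]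
    calc y * y * (y * y) * g = y * y * (y * y * g * (y * y)⁻¹) * (y * y) := by group
      _ = (y * y * g⁻¹ * (y * y)⁻¹) * (y * y * (y * y)) := by rw [hy]; simp [mul_assoc]
      _ = _ := by rw [this]
  have h3 : y * y = (((y * y) * (y * y)) ^ k)⁻¹ := by
    rw [eq_inv_iff_mul_eq_one, ← h1, ← pow_two, ← pow_add]; group
  have h4 : Commute (y * y) g := h3 ▸ (h2.pow_left k).inv_left
  rw [h4.eq, mul_inv_cancel_right] at hy
  exact eq_inv_iff_mul_eq_one.1 hy

theorem ncard_iv : {u : G | Iv u}.ncard * 120 = Nat.card G := by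
  rw [← Invol.card_conj_mul_card_centralizer t, h.emb.card_cent, ← Nat.card_coe_set_eq]
  congr 1
  refine Nat.card_congr (Equiv.subtypeEquivRight fun u => ⟨h.conj_iv, fun hc => ?_⟩)
  obtain ⟨g, rfl⟩ := isConj_iff.1 hc
  exact h.emb.iv.conj g

theorem mem_norm {a : T} : φ a ∈ normalizer (SS φ : Set G) ↔
    ∀ b, b * v0 = v0 * b → a * b * a⁻¹ * v0 = v0 * (a * b * a⁻¹) := by
  constructor
  · intro h1 b hb
    have := (mem_normalizer_iff.1 h1 _).1 (h.emb.mem_SS.2 hb)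
    rwa [← map_inv, ← map_mul, ← map_mul, h.emb.mem_SS] at this
  · intro h1
    refine mem_normalizer_fintype fun y hy => ?_
    obtain ⟨b, hb, rfl⟩ := mem_SS.1 hy
    rw [← map_inv, ← map_mul, ← map_mul, SetLike.mem_coe, h.emb.mem_SS]
    exact h1 b hb

theorem ncard_SS : {y | y ∈ SS φ ∧ y ≠ 1}.ncard = 7 := by
  have : {y | y ∈ SS φ ∧ y ≠ 1} = (SS φ : Set G) \ {1} := rfl
  rw [this, Set.ncard_diff_singleton_of_mem (SS φ).one_mem, ← card_eq_ncard, h.emb.card_SS]

theorem card_H : Nat.card (normalizer (SS φ : Set G)) = 168 := by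
  rw [card_eq_orbit_mul _ t]
  have h1 : {y | ∃ k ∈ normalizer (SS φ : Set G), k * t * k⁻¹ = y} = {y | y ∈ SS φ ∧ y ≠ 1} := by
    ext y
    constructor
    · rintro ⟨k, hk, rfl⟩
      exact ⟨(mem_normalizer_iff.1 hk _).1 (by rw [← h.emb.map_t, h.emb.mem_SS, T_t_comm]),
        (h.emb.iv.conj k).1⟩
    · rintro ⟨h1, h2⟩
      exact h.exists_norm h1 (h.conj_SS h1 h2)
  rw [h1, h.ncard_SS, card_eq_ncard]
  have := h.emb.ncard (fun g => g ∈ normalizer (SS φ : Set G) ⊓ centralizer {t})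
    (fun a => ∀ b, b * v0 = v0 * b → a * b * a⁻¹ * v0 = v0 * (a * b * a⁻¹))
    (fun g hg => mem_centralizer_singleton_iff.1 hg.2) (fun a => by
      rw [mem_inf, mem_centralizer_singleton_iff, and_iff_left (h.emb.comm a)]
      exact h.mem_norm)
  rw [T_N_card] at this
  exact congrArg (7 * ·) this

theorem iv_mem_H {u : G} (hu : Iv u) (huH : u ∈ normalizer (SS φ : Set G)) : u ∈ SS φ := by
  obtain ⟨P, hP⟩ := h.emb.sylow h.not16
  have h1 : IsPGroup 2 (zpowers u) := Invol.isPGroup_zpowers_of_involution hu.orderOf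
  have h2 := h1.inf_normalizer_sylow P
  rw [← Sylow.coe_coe, hP, inf_eq_left.2 (zpowers_le.2 huH)] at h2
  have h3 : u ∈ zpowers u ⊓ SS φ := h2 ▸ mem_zpowers u
  exact h3.2

theorem ncard_iv_mod : {u : G | Iv u}.ncard % 8 = 7 := by
  classical
  let J := {u : G // Iv u}
  letI : MulAction (SS φ) J :=
    { smul := fun s u => ⟨s * u.1 * s⁻¹, u.2.conj s⟩
      one_smul := fun u => Subtype.ext (by change ((1 : SS φ) : G) * u.1 * _ = _; simp)
      mul_smul := fun a b u => Subtype.ext (by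
        change ((a * b : SS φ) : G) * u.1 * _ = a * (b * u.1 * _) * _
        simp [mul_assoc]) }
  have hs : ∀ (s : SS φ) (u : J), (s • u).1 = s * u.1 * s⁻¹ := fun _ _ => rfl
  have := Fintype.ofFinite (SS φ)
  have := Fintype.ofFinite J
  have : Fintype (Quotient (MulAction.orbitRel (SS φ) J)) := Fintype.ofFinite _
  have h1 := MulAction.sum_card_fixedBy_eq_card_orbits_mul_card_group (SS φ) J
  rw [← Finset.add_sum_erase _ _ (Finset.mem_univ 1), Finset.sum_congr rfl (g := fun _ => 31),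
    Finset.sum_const, Finset.card_erase_of_mem (Finset.mem_univ _), Finset.card_univ,
    ← Nat.card_eq_fintype_card (α := SS φ), h.emb.card_SS] at h1
  · have h2 : Fintype.card (MulAction.fixedBy J (1 : SS φ)) = {u : G | Iv u}.ncard := by
      rw [← Nat.card_coe_set_eq, ← Nat.card_eq_fintype_card, MulAction.fixedBy_one_eq_univ,
        Nat.card_univ]
      rfl
    rw [h2, smul_eq_mul] at h1
    omega
  · intro s hs1
    obtain ⟨ψ, hψ⟩ := h.emb_iv (w := s) ⟨fun e => Finset.ne_of_mem_erase hs1 (Subtype.ext e),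
      SS_sq s.2⟩
    rw [← hψ.ncard_iv, ← Nat.card_coe_set_eq, ← Nat.card_eq_fintype_card]
    refine Nat.card_congr ⟨fun u => ⟨u.1.1, u.1.2, ?_⟩, fun u => ⟨⟨u.1, u.2.1⟩, ?_⟩, fun _ => rfl,
      fun _ => rfl⟩
    · have := congrArg Subtype.val (MulAction.mem_fixedBy.1 u.2)
      rw [hs] at this
      exact (mul_inv_eq_iff_eq_mul.1 this).symm
    · exact MulAction.mem_fixedBy.2 (Subtype.ext (by
        rw [hs]; exact mul_inv_eq_iff_eq_mul.2 u.2.2.symm))

end Hyp

end Cfsg.Agent.Lib.Root.J1
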