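import Cfsg.Agent.Lib.Root.J1a
import Cfsg.Agent.Lib.Invol.Count
import Cfsg.Agent.Lib.Invol.Dihedral

set_option autoImplicit false

/-! # Groups with involution centraliser `2 × A₅`: centralisers of elements of order 3 and 5 -/

namespace Cfsg.Agent.Lib.Root.J1

open Subgroup

variable {G : Type*} [Group G]

theorem odd_conj {k : G} (n : G) (h : Odd (orderOf k)) : Odd (orderOf (n * k * n⁻¹)) := by
  rwa [Invol.orderOf_conj']

theorem eq_one_of_odd {k : G} (h : Odd (orderOf k)) (h2 : k * k = 1) : k = 1 := by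
  obtain ⟨m, hm⟩ := h
  have := pow_orderOf_eq_one k
  rwa [hm, pow_succ, pow_mul, pow_two, h2, one_pow, one_mul] at this

theorem conj_comm' {n c : G} (h : c * n = n * c) : n * c * n⁻¹ = c := by
  rw [← h, mul_inv_cancel_right]

theorem comm_of_conj {n c : G} (h : n * c * n⁻¹ = c) : c * n = n * c :=
  (mul_inv_eq_iff_eq_mul.1 h).symm

theorem comm_conj {a b : G} (n : G) (h : a * b = b * a) :
    (n * a * n⁻¹) * (n * b * n⁻¹) = (n * b * n⁻¹) * (n * a * n⁻¹) := by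
  rw [conj_mul, conj_mul, h]

theorem decomp {w k : G} (hw : Iv w) (hodd : Odd (orderOf (k⁻¹ * (w * k * w⁻¹)))) :
    ∃ r ∈ zpowers (k⁻¹ * (w * k * w⁻¹)), w * r * w⁻¹ = r⁻¹ ∧ (k * r⁻¹) * w = w * (k * r⁻¹) := by
  set y := k⁻¹ * (w * k * w⁻¹) with hy
  have h1 : w * y * w⁻¹ = y⁻¹ := by
    rw [hy, hw.inv]
    simp [mul_assoc, hw.cancel, hw.inv, hw.2]
  obtain ⟨m, hm⟩ := hodd
  have h2 : y ^ (2 * m + 1) = 1 := hm ▸ pow_orderOf_eq_one y
  have h3 := Invol.conj_pow_of_inverts h1 m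
  refine ⟨y ^ m, pow_mem (mem_zpowers y) m, h3, comm_of_conj ?_⟩
  rw [← conj_mul, ← conj_inv, h3, inv_inv, eq_mul_inv_iff_mul_eq]
  calc w * k * w⁻¹ * y ^ m * y ^ m = k * y ^ (2 * m + 1) := by
        rw [show w * k * w⁻¹ = k * y by simp [hy]]; group
    _ = k := by rw [h2, mul_one]

/-- `t` centralises and `s` inverts the element `g` of order `p`. -/
structure Trip (p : ℕ) (t s g : G) : Prop where
  hp : p = 3 ∨ p = 5
  it : Iv t
  is : Iv s
  ne : s ≠ t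
  comm : s * t = t * s
  gp : g ^ p = 1
  g1 : g ≠ 1
  tg : g * t = t * g
  sg : s * g * s⁻¹ = g⁻¹

/-- the elements of odd order centralising `g` -/
def OK (g : G) : Subgroup G := closure {k | k * g = g * k ∧ Odd (orderOf k)}

namespace Trip
variable {p : ℕ} {t s g : G} (h : Trip p t s g)
include h

theorem prime : p.Prime := by rcases h.hp with rfl | rfl <;> norm_num

theorem ord : orderOf g = p := haveI := Fact.mk h.prime; orderOf_eq_prime h.gp h.g1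

theorem odd : Odd (orderOf g) := by
  rw [h.ord]; rcases h.hp with rfl | rfl <;> decide

theorem sq_ne : g * g ≠ 1 := fun e => h.g1 (eq_one_of_odd h.odd e)

theorem ist : Iv (s * t) :=
  ⟨fun e => h.ne (by rw [← h.it.inv]; exact eq_inv_of_mul_eq_one_left e),
    by rw [mul_assoc, ← mul_assoc t, ← h.comm, mul_assoc, h.it.2, mul_one, h.is.2]⟩

theorem swap : Trip p t (s * t) g where
  hp := h.hp
  it := h.it
  is := h.ist
  ne := by simpa using h.is.1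
  comm := by rw [mul_assoc, ← mul_assoc t, ← h.comm, mul_assoc]
  gp := h.gp
  g1 := h.g1
  tg := h.tg
  sg := by rw [← h.sg, mul_assoc s, ← h.tg]; group

theorem conj (n : G) : Trip p (n * t * n⁻¹) (n * s * n⁻¹) (n * g * n⁻¹) where
  hp := h.hp
  it := h.it.conj n
  is := h.is.conj n
  ne := by simpa using h.ne
  comm := comm_conj n h.comm
  gp := by rw [conj_pow, h.gp]; simp
  g1 := by simpa using h.g1
  tg := comm_conj n h.tg
  sg := by rw [conj_inv, conj_inv, conj_mul, conj_mul, h.sg]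

theorem of_mem {y : G} (hy : y ∈ zpowers g) (hy1 : y ≠ 1) : Trip p t s y := by
  obtain ⟨i, rfl⟩ := hy
  refine ⟨h.hp, h.it, h.is, h.ne, h.comm, ?_, hy1, (Commute.zpow_left h.tg i).eq, ?_⟩
  · show (g ^ i) ^ p = 1
    rw [← zpow_natCast, ← zpow_mul, mul_comm, zpow_mul, zpow_natCast, h.gp, one_zpow]
  · show s * g ^ i * s⁻¹ = (g ^ i)⁻¹
    rw [← conj_zpow, h.sg, inv_zpow]

theorem zpowers_eq {y : G} (hy : y ∈ zpowers g) (hy1 : y ≠ 1) [Finite G] :
    zpowers y = zpowers g :=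
  eq_of_le_of_card_ge (zpowers_le.2 hy) (by
    rw [Nat.card_zpowers, Nat.card_zpowers, h.ord, (h.of_mem hy hy1).ord])

end Trip

variable [Finite G] {t₀ : G} {φ₀ : T →* G} (H : Hyp t₀ φ₀)
include H

theorem Hyp.cent_V {t s c : G} (ht : Iv t) (hs : Iv s) (hne : s ≠ t) (hst : s * t = t * s)
    (h1 : c * t = t * c) (h2 : c * s = s * c) : c * c = 1 := by
  obtain ⟨ψ, hψ⟩ := H.emb_iv ht
  obtain ⟨a, rfl⟩ := hψ.surj s hst
  obtain ⟨b, rfl⟩ := hψ.surj c h1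
  rw [← map_mul, hψ.eq_one]
  refine T_cent_inv a ?_ ?_ ?_ b ?_
  · rw [← hψ.eq_one, map_mul, hs.2]
  · rw [Ne, ← hψ.eq_one]; exact hs.1
  · rintro rfl; exact hne hψ.map_t
  · rw [← hψ.eq_iff, map_mul, map_mul, h2]

theorem Hyp.cent_p {p : ℕ} (hp : p = 3 ∨ p = 5) {t g d : G} (ht : Iv t) (hg : g ^ p = 1)
    (hg1 : g ≠ 1) (htg : g * t = t * g) (h1 : d * t = t * d) (h2 : d * g = g * d) :
    d ∈ zpowers g ∨ t * d ∈ zpowers g := by
  obtain ⟨ψ, hψ⟩ := H.emb_iv ht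
  obtain ⟨a, rfl⟩ := hψ.surj g htg
  obtain ⟨b, rfl⟩ := hψ.surj d h1
  obtain ⟨i, e | e⟩ := T_cent_p a (by
    rw [← map_pow, hψ.eq_one] at hg
    rcases hp with rfl | rfl
    exacts [.inl hg, .inr hg]) (by rwa [Ne, hψ.eq_one] at hg1) b
    (by rw [← hψ.eq_iff, map_mul, map_mul, h2])
  · exact .inl (by rw [e, map_pow]; exact pow_mem (mem_zpowers _) _)
  · exact .inr (by rw [e, map_mul, map_pow, hψ.map_t, ht.cancel]; exact pow_mem (mem_zpowers _) _)

theorem Hyp.ex_trip {p : ℕ} (hp : p = 3 ∨ p = 5) {t g : G} (ht : Iv t) (hg : g ^ p = 1)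
    (hg1 : g ≠ 1) (htg : g * t = t * g) : ∃ s, Trip p t s g := by
  obtain ⟨ψ, hψ⟩ := H.emb_iv ht
  obtain ⟨a, rfl⟩ := hψ.surj g htg
  obtain ⟨s, h1, h2, h3, h4⟩ := T_inverter a (by
    rw [← map_pow, hψ.eq_one] at hg
    rcases hp with rfl | rfl
    exacts [.inl hg, .inr hg]) (by rwa [Ne, hψ.eq_one] at hg1)
  have hs : Iv (ψ s) := ⟨by rwa [Ne, hψ.eq_one], by rw [← map_mul, h1, map_one]⟩
  exact ⟨ψ s, hp, ht, hs, by rw [← hψ.map_t, Ne, hψ.eq_iff]; exact h3, hψ.comm s, hg, hg1, htg,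
    by rw [hs.inv, ← map_mul, ← map_mul, h4, map_inv]⟩

namespace Trip
variable {p : ℕ} {t s g : G} (h : Trip p t s g)
include h

theorem mem_of_odd {d : G} (h1 : d * t = t * d) (h2 : d * g = g * d) (h3 : Odd (orderOf d)) :
    d ∈ zpowers g := by
  rcases H.cent_p h.hp h.it h.gp h.g1 h.tg h1 h2 with h4 | h4
  · exact h4
  · obtain ⟨m, hm⟩ := h3
    have h5 : (t * d) ^ (2 * m + 2) = d := by
      rw [(Commute.symm h1).mul_pow, show 2 * m + 2 = 2 * (m + 1) by ring, pow_mul, pow_two,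
        h.it.2, one_pow, one_mul, show 2 * (m + 1) = 2 * m + 1 + 1 by ring, pow_succ, ← hm,
        pow_orderOf_eq_one, one_mul]
    exact h5 ▸ pow_mem h4 _

theorem exK : ∃ K : Subgroup G, (∀ k, k ∈ K ↔ k * g = g * k ∧ Odd (orderOf k)) ∧
    (∀ d, d * g = g * d → d ∈ K ∨ d * t ∈ K) ∧
    Nat.card (centralizer ({g} : Set G)) = 2 * Nat.card K := by
  set C := centralizer ({g} : Set G)
  let t' : C := ⟨t, mem_centralizer_singleton_iff.2 h.tg.symm⟩
  have ht' : orderOf t' = 2 := by rw [← Subgroup.orderOf_coe]; exact h.it.orderOf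
  obtain ⟨P, hP⟩ := Invol.exists_sylow_mem_of_involution ht'
  have h1 : ∀ y ∈ (P : Subgroup C), (y : G) * y = 1 := by
    intro y hy
    obtain ⟨k, hk⟩ := P.isPGroup' ⟨y, hy⟩
    exact H.sq_of_two_pow (j := k) (by simpa using congrArg (fun z : P => ((z : C) : G)) hk)
  have h2 : (P : Subgroup C) = zpowers t' := by
    refine le_antisymm (fun y hy => ?_) (zpowers_le.2 hP)
    have h3 := h1 _ (mul_mem hy hP)
    have h4 : (y : G) * t = t * y := by
      have := inv_eq_of_mul_eq_one_right h3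
      simp only [coe_mul, mul_inv_rev, t', h.it.inv, inv_eq_of_mul_eq_one_right (h1 y hy)] at this
      exact this.symm
    have h5 : ∀ z ∈ zpowers g, z * z = 1 → z = 1 := fun z hz hz2 => by
      by_contra hc
      exact (h.of_mem hz hc).sq_ne hz2
    rcases H.cent_p h.hp h.it h.gp h.g1 h.tg h4 (mem_centralizer_singleton_iff.1 y.2) with h6 | h6
    · rw [show y = 1 from Subtype.ext (h5 _ h6 (h1 y hy))]
      exact one_mem _
    · have := h5 _ h6 (h1 _ (mul_mem hP hy))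
      rw [show y = t' from Subtype.ext (by rw [← h.it.cancel y, this, mul_one])]
      exact mem_zpowers _
  obtain ⟨N, hN, hc⟩ := Invol.exists_normal_complement_of_isCyclic_sylow_two P
    (h2 ▸ inferInstance)
  have hi : N.index = 2 := by rw [hc.symm.index_eq_card, h2, Nat.card_zpowers, ht']
  have ho : Odd (Nat.card N) := by
    rw [← hc.index_eq_card, ← Nat.not_even_iff_odd, even_iff_two_dvd]
    exact P.not_dvd_index
  have htN : t' ∉ N := fun e => Invol.odd_card_iff_no_involution.1 ho _ e ht'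
  refine ⟨N.map C.subtype, fun k => ⟨?_, fun ⟨h3, m, hm⟩ => ?_⟩, fun d hd => ?_, ?_⟩
  · rintro ⟨k, hk, rfl⟩
    exact ⟨mem_centralizer_singleton_iff.1 k.2, by
      rw [subtype_apply, Subgroup.orderOf_coe]
      exact ho.of_dvd_nat (N.orderOf_dvd_natCard hk)⟩
  · let k' : C := ⟨k, mem_centralizer_singleton_iff.2 h3⟩
    refine ⟨(k' ^ 2) ^ (m + 1), pow_mem (sq_mem_of_index_two hi k') _, ?_⟩
    change (k ^ 2) ^ (m + 1) = k
    rw [← pow_mul, show 2 * (m + 1) = 2 * m + 1 + 1 by ring, pow_succ, ← hm, pow_orderOf_eq_one,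
      one_mul]
  · let d' : C := ⟨d, mem_centralizer_singleton_iff.2 hd⟩
    by_cases h3 : d' ∈ N
    · exact .inl ⟨d', h3, rfl⟩
    · exact .inr ⟨d' * t', (mul_mem_iff_of_index_two hi).2 (iff_of_false h3 htN), rfl⟩
  · rw [card_map_of_injective C.subtype_injective, ← hi, N.index_mul_card]

theorem specK : (∀ k, k ∈ OK g ↔ k * g = g * k ∧ Odd (orderOf k)) ∧
    (∀ d, d * g = g * d → d ∈ OK g ∨ d * t ∈ OK g) ∧
    Nat.card (centralizer ({g} : Set G)) = 2 * Nat.card (OK g) := by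
  obtain ⟨K, h1, h2⟩ := h.exK H
  have : OK g = K := by
    rw [OK, ← closure_eq K]
    congr 1
    exact Set.ext fun k => (h1 k).symm
  rw [this]
  exact ⟨h1, h2⟩

theorem mem_K {k : G} : k ∈ OK g ↔ k * g = g * k ∧ Odd (orderOf k) := (h.specK H).1 k

theorem g_mem : g ∈ OK g := (h.mem_K H).2 ⟨rfl, h.odd⟩

theorem conj_mem {n k : G} (hn : n * g * n⁻¹ = g ∨ n * g * n⁻¹ = g⁻¹) (hk : k ∈ OK g) :
    n * k * n⁻¹ ∈ OK g := by
  rw [h.mem_K H] at hk ⊢
  refine ⟨?_, odd_conj n hk.2⟩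
  have := comm_conj n hk.1
  rcases hn with e | e
  · rwa [e] at this
  · rw [e] at this
    exact (Commute.inv_right_iff.1 this)

theorem t_mem {k : G} (hk : k ∈ OK g) : t * k * t⁻¹ ∈ OK g :=
  h.conj_mem H (.inl (conj_comm' h.tg)) hk

theorem s_mem {k : G} (hk : k ∈ OK g) : s * k * s⁻¹ ∈ OK g := h.conj_mem H (.inr h.sg) hk

theorem central {n k : G} (hn : n ∈ zpowers g) (hk : k ∈ OK g) : Commute n k := by
  obtain ⟨i, rfl⟩ := hn
  exact (Commute.zpow_right ((h.mem_K H).1 hk).1 i).symm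

theorem t_conj {k : G} (hk : k ∈ OK g) : ∃ n ∈ zpowers g, t * k * t⁻¹ = n * k⁻¹ := by
  have h1 := mul_mem (inv_mem hk) (h.t_mem H hk)
  obtain ⟨r, hr, h2, h3⟩ := decomp h.it ((h.mem_K H).1 h1).2
  have h4 := mul_mem hk (inv_mem (zpowers_le.2 h1 hr))
  have h5 := h.mem_of_odd H h3 ((h.mem_K H).1 h4).1 ((h.mem_K H).1 h4).2
  refine ⟨_, mul_mem h5 h5, ?_⟩
  have h6 := (h.central H h5 hk).eq
  calc t * k * t⁻¹ = (t * (k * r⁻¹) * t⁻¹) * (t * r * t⁻¹) := by group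
    _ = k * r⁻¹ * (k⁻¹ * (k * r⁻¹ * k) * k⁻¹) := by rw [conj_comm' h3, h2]; group
    _ = _ := by rw [h6]; group

theorem commutator {a b : G} (ha : a ∈ OK g) (hb : b ∈ OK g) :
    ∃ n ∈ zpowers g, a * b * a⁻¹ = b * n := by
  obtain ⟨n1, h1, e1⟩ := h.t_conj H ha
  obtain ⟨n2, h2, e2⟩ := h.t_conj H hb
  obtain ⟨n3, h3, e3⟩ := h.t_conj H (mul_mem ha hb)
  rw [← conj_mul, e1, e2] at e3
  refine ⟨n1⁻¹ * n2⁻¹ * n3 , mul_mem (mul_mem (inv_mem h1) (inv_mem h2)) h3, ?_⟩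
  have c1 := (h.central H h2 (inv_mem ha)).eq
  have c2 := (h.central H (mul_mem (mul_mem (inv_mem h1) (inv_mem h2)) h3) ha).eq
  have c3 := (h.central H h2 (zpowers_le.2 (h.g_mem H) h1)).eq
  have e4 : a⁻¹ * b⁻¹ = n1⁻¹ * n2⁻¹ * n3 * (a * b)⁻¹ := by
    calc a⁻¹ * b⁻¹ = (n2 * n1)⁻¹ * (n2 * n1 * a⁻¹ * b⁻¹) := by group
      _ = (n2 * n1)⁻¹ * (n1 * (n2 * a⁻¹) * b⁻¹) := by rw [c3]; group
      _ = (n2 * n1)⁻¹ * (n1 * a⁻¹ * (n2 * b⁻¹)) := by rw [c1]; group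
      _ = _ := by rw [e3]; group
  generalize n1⁻¹ * n2⁻¹ * n3 = n at *
  calc a * b * a⁻¹ = b * a * (a⁻¹ * b⁻¹) * (a * b) * a⁻¹ := by group
    _ = b * (a * n) * a⁻¹ := by rw [e4]; group
    _ = _ := by rw [← c2]; group

theorem K_inf_t : OK g ⊓ centralizer {t} = zpowers g := by
  refine le_antisymm (fun k hk => ?_) (zpowers_le.2 ⟨h.g_mem H,
    mem_centralizer_singleton_iff.2 h.tg⟩)
  exact h.mem_of_odd H (mem_centralizer_singleton_iff.1 hk.2) ((h.mem_K H).1 hk.1).1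
    ((h.mem_K H).1 hk.1).2

theorem A_inv {a : G} (ha : a ∈ OK g) (has : a * s = s * a) : t * a * t⁻¹ = a⁻¹ := by
  have h1 := mul_mem (inv_mem ha) (h.t_mem H ha)
  obtain ⟨r, hr, h2, h3⟩ := decomp h.it ((h.mem_K H).1 h1).2
  have h4 := mul_mem ha (inv_mem (zpowers_le.2 h1 hr))
  have h5 : Commute (a⁻¹ * (t * a * t⁻¹)) s :=
    (Commute.inv_left has).mul_left (((Commute.symm h.comm).mul_left has).mul_left
      (Commute.symm h.comm).inv_left)
  have h6 : Commute r s := by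
    obtain ⟨i, rfl⟩ := hr
    exact h5.zpow_left i
  have h7 := eq_one_of_odd ((h.mem_K H).1 h4).2
    (H.cent_V h.it h.is h.ne h.comm h3 (Commute.mul_left has h6.inv_left))
  rw [mul_inv_eq_one.1 h7, h2]

theorem A_trip {a : G} (ha : a ∈ OK g) (has : a * s = s * a) (ha1 : a ≠ 1) :
    ∃ q, Trip q s t a ∧ OK g ⊓ centralizer {s} = zpowers a := by
  obtain ⟨m, hm⟩ := ((h.mem_K H).1 ha).2
  have h1 : ∃ q, (q = 3 ∨ q = 5) ∧ a ^ q = 1 := by
    obtain ⟨ψ, hψ⟩ := H.emb_iv h.is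
    obtain ⟨b, rfl⟩ := hψ.surj a has
    have h2 : ∀ q, b ^ (q * 2) = 1 → ψ b ^ q = 1 := fun q hq =>
      eq_one_of_odd (((h.mem_K H).1 (pow_mem ha q)).2)
        (by rw [← pow_two, ← pow_mul, ← map_pow, hq, map_one])
    rcases T_orders b with e | e
    exacts [⟨3, .inl rfl, h2 3 e⟩, ⟨5, .inr rfl, h2 5 e⟩]
  obtain ⟨q, hq, haq⟩ := h1
  have h2 : Trip q s t a := ⟨hq, h.is, h.it, h.ne.symm, h.comm.symm, haq, ha1, has, h.A_inv H ha has⟩
  refine ⟨q, h2, le_antisymm (fun b hb => ?_) (zpowers_le.2 ⟨ha,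
    mem_centralizer_singleton_iff.2 has⟩)⟩
  have hbs := mem_centralizer_singleton_iff.1 hb.2
  refine h2.mem_of_odd H hbs ?_ ((h.mem_K H).1 hb.1).2
  have := h.A_inv H (mul_mem ha hb.1) (Commute.mul_left has hbs)
  rw [← conj_mul, h.A_inv H ha has, h.A_inv H hb.1 hbs, ← mul_inv_rev, inv_inj] at this
  exact this

theorem A_cases : Nat.card (OK g ⊓ centralizer {s} : Subgroup G) = 1 ∨ ∃ q a, Trip q s t a ∧
    a ∈ OK g ∧ Nat.card (OK g ⊓ centralizer {s} : Subgroup G) = q := by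
  by_cases h1 : OK g ⊓ centralizer {s} = ⊥
  · exact .inl (by rw [h1, card_bot])
  · obtain ⟨⟨a, ha⟩, ha1⟩ := ne_bot_iff_exists_ne_one.1 h1
    obtain ⟨q, h2, h3⟩ := h.A_trip H ha.1 (mem_centralizer_singleton_iff.1 ha.2)
      (fun e => ha1 (Subtype.ext e))
    exact .inr ⟨q, a, h2, ha.1, by rw [h3, Nat.card_zpowers, h2.ord]⟩

theorem K_decomp {k : G} (hk : k ∈ OK g) : ∃ a ∈ OK g ⊓ centralizer {s},
    ∃ b ∈ OK g ⊓ centralizer {s * t}, ∃ n ∈ zpowers g, k = a * b * n := by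
  have h1 := mul_mem (inv_mem hk) (h.s_mem H hk)
  obtain ⟨r, hr, h2, h3⟩ := decomp h.is ((h.mem_K H).1 h1).2
  have hrK := zpowers_le.2 h1 hr
  obtain ⟨n, hn, e⟩ := h.t_conj H hrK
  have h4 : r⁻¹ * (s * t * r * (s * t)⁻¹) ∈ zpowers g := by
    have h5 : s * n * s⁻¹ ∈ zpowers g := by
      obtain ⟨i, rfl⟩ := hn
      show s * g ^ i * s⁻¹ ∈ _
      rw [← conj_zpow, h.sg]
      exact zpow_mem (inv_mem (mem_zpowers g)) i
    have : r⁻¹ * (s * t * r * (s * t)⁻¹) = s * n * s⁻¹ := by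
      calc _ = r⁻¹ * (s * (t * r * t⁻¹) * s⁻¹) := by group
        _ = r⁻¹ * (s * n * s⁻¹ * (s * r * s⁻¹)⁻¹) := by rw [e]; group
        _ = _ := by rw [h2, inv_inv, (h.central H h5 hrK).eq]; group
    exact this ▸ h5
  obtain ⟨r', hr', -, h6⟩ := decomp h.ist ((h.mem_K H).1 (zpowers_le.2 (h.g_mem H) h4)).2
  have h7 := zpowers_le.2 h4 hr'
  exact ⟨_, mem_inf.2 ⟨mul_mem hk (inv_mem hrK), mem_centralizer_singleton_iff.2 h3⟩, _, mem_inf.2
    ⟨mul_mem hrK (inv_mem (zpowers_le.2 (h.g_mem H) h7)), mem_centralizer_singleton_iff.2 h6⟩,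
    r', h7, by group⟩

theorem card_K : Nat.card (OK g) = Nat.card (OK g ⊓ centralizer {s} : Subgroup G) *
    Nat.card (OK g ⊓ centralizer {s * t} : Subgroup G) * p := by
  rw [← h.ord, ← Nat.card_zpowers, ← Nat.card_prod, ← Nat.card_prod]
  let f : ((OK g ⊓ centralizer {s} : Subgroup G) × (OK g ⊓ centralizer {s * t} : Subgroup G)) ×
      zpowers g → OK g := fun x => ⟨x.1.1 * x.1.2 * x.2,
        mul_mem (mul_mem x.1.1.2.1 x.1.2.2.1) (zpowers_le.2 (h.g_mem H) x.2.2)⟩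
  refine (Nat.card_eq_of_bijective f ⟨?_, fun k => ?_⟩).symm
  · rintro ⟨⟨⟨a, ha⟩, b, hb⟩, n, hn⟩ ⟨⟨⟨a', ha'⟩, b', hb'⟩, n', hn'⟩ e
    have e : a * b * n = a' * b' * n' := congrArg Subtype.val e
    have h1 := Subgroup.mul_mem _ (Subgroup.inv_mem _ ha') ha
    have h2 := Subgroup.mul_mem _ hb' (Subgroup.inv_mem _ hb)
    have h3 := mul_mem hn' (inv_mem hn)
    have e1 : a'⁻¹ * a = b' * b⁻¹ * (n' * n⁻¹) := by
      calc a'⁻¹ * a = a'⁻¹ * (a * b * n) * n⁻¹ * b⁻¹ := by group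
        _ = b' * (n' * n⁻¹ * b⁻¹) := by rw [e]; group
        _ = _ := by rw [(h.central H h3 (inv_mem hb.1)).eq]; group
    have i1 := h.A_inv H h1.1 (mem_centralizer_singleton_iff.1 h1.2)
    have i2 := h.swap.A_inv H h2.1 (mem_centralizer_singleton_iff.1 h2.2)
    have h4 := (h.K_inf_t H).ge h3
    have e2 : n' * n⁻¹ = 1 := by
      refine eq_one_of_odd ((h.mem_K H).1 h4.1).2 ?_
      rw [e1, ← conj_mul, i2, conj_comm' (mem_centralizer_singleton_iff.1 h4.2),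
        ← (h.central H h3 h2.1).eq, mul_inv_rev (n' * n⁻¹), mul_right_inj] at i1
      exact eq_inv_iff_mul_eq_one.1 i1
    rw [e2, mul_one] at e1
    have e3 : a'⁻¹ * a = 1 := by
      refine eq_one_of_odd ((h.mem_K H).1 h1.1).2 (H.cent_V h.ist h.is ?_ ?_ ?_
        (mem_centralizer_singleton_iff.1 h1.2))
      · simpa using h.it.1
      · rw [mul_assoc, ← h.comm]
      · rw [e1]; exact mem_centralizer_singleton_iff.1 h2.2
    rw [e3] at e1
    obtain rfl := inv_mul_eq_one.1 e3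
    obtain rfl := mul_inv_eq_one.1 e2
    obtain rfl := mul_inv_eq_one.1 e1.symm
    rfl
  · obtain ⟨a, ha, b, hb, n, hn, e⟩ := h.K_decomp H k.2
    exact ⟨((⟨a, ha⟩, ⟨b, hb⟩), ⟨n, hn⟩), Subtype.ext e.symm⟩

theorem orbit {u w : G} (hu : Iv u) (hw : Iv w) (huw : w * u ∈ OK g) :
    ∃ k ∈ OK g, k * w * k⁻¹ = u := by
  obtain ⟨k, hk⟩ := Invol.exists_pow_conj_of_odd hw.2 hu.2 ((h.mem_K H).1 huw).2
  exact ⟨_, pow_mem huw k, hk⟩

theorem iv_conj {u : G} (hu : Iv u) (hug : u * g = g * u) : ∃ k ∈ OK g, k * t * k⁻¹ = u := by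
  rcases (h.specK H).2.1 u hug with h1 | h1
  · exact absurd (eq_one_of_odd ((h.mem_K H).1 h1).2 hu.2) hu.1
  · exact h.orbit H hu h.it (by simpa [hu.inv, h.it.inv] using inv_mem h1)

theorem ncard_cent : {u | Iv u ∧ u * g = g * u}.ncard =
    Nat.card (OK g ⊓ centralizer {s} : Subgroup G) *
    Nat.card (OK g ⊓ centralizer {s * t} : Subgroup G) := by
  have h1 := card_eq_orbit_mul (OK g) t
  rw [h.K_inf_t H, Nat.card_zpowers, h.ord, h.card_K H] at h1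
  rw [Nat.eq_of_mul_eq_mul_right h.prime.pos h1]
  congr 1
  ext u
  refine ⟨fun hu => h.iv_conj H hu.1 hu.2, ?_⟩
  rintro ⟨k, hk, rfl⟩
  have := comm_conj k h.tg
  rw [conj_comm' ((h.mem_K H).1 hk).1.symm] at this
  exact ⟨h.it.conj k, this.symm⟩

theorem card_C : Nat.card (centralizer ({g} : Set G)) =
    2 * ({u | Iv u ∧ u * g = g * u}.ncard * p) := by
  rw [(h.specK H).2.2, h.card_K H, h.ncard_cent H]

theorem ncard_inv : {u | Iv u ∧ u * g * u⁻¹ = g⁻¹}.ncard ≤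
    (Nat.card (OK g ⊓ centralizer {s} : Subgroup G) +
    Nat.card (OK g ⊓ centralizer {s * t} : Subgroup G)) * p := by
  have h1 := card_eq_orbit_mul (OK g) s
  have h2 := card_eq_orbit_mul (OK g) (s * t)
  rw [h.card_K H] at h1 h2
  rw [mul_assoc, mul_comm] at h1
  rw [mul_right_comm] at h2
  rw [add_mul, Nat.eq_of_mul_eq_mul_right Nat.card_pos h1,
    Nat.eq_of_mul_eq_mul_right Nat.card_pos h2]
  refine le_trans (Set.ncard_le_ncard ?_) (Set.ncard_union_le _ _)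
  rintro u ⟨hu, hug⟩
  have h3 : u * s * g = g * (u * s) := by
    refine (comm_of_conj ?_).symm
    calc u * s * g * (u * s)⁻¹ = u * (s * g * s⁻¹) * u⁻¹ := by group
      _ = g := by rw [h.sg, ← conj_inv, hug, inv_inv]
  rcases (h.specK H).2.1 _ h3 with h4 | h4
  · exact .inr (h.orbit H hu h.is (by simpa [hu.inv, h.is.inv] using inv_mem h4))
  · exact .inl (h.orbit H hu h.ist (by
      simpa [hu.inv, h.is.inv, h.it.inv, h.comm, mul_assoc] using inv_mem h4))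

theorem transport0 {t' s' g' : G} (h' : Trip p t' s' g') :
    ∃ n, n * t * n⁻¹ = t' ∧ n * g * n⁻¹ ∈ zpowers g' := by
  obtain ⟨n, hn⟩ := isConj_iff.1 ((H.conj_iv h.it).symm.trans (H.conj_iv h'.it))
  have h1 := h.conj n
  rw [hn] at h1
  obtain ⟨ψ, hψ⟩ := H.emb_iv h'.it
  obtain ⟨a, ha⟩ := hψ.surj _ h1.tg
  obtain ⟨b, rfl⟩ := hψ.surj _ h'.tg
  have h2 := h1.gp
  have h3 := h1.g1
  have h4 := h'.gp
  have h5 := h'.g1
  rw [← ha] at h2 h3
  rw [← map_pow, hψ.eq_one] at h2 h4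
  rw [Ne, hψ.eq_one] at h3 h5
  have : ∃ c, c * a * c⁻¹ = b ∨ c * a * c⁻¹ = b * b := by
    rcases h.hp with rfl | rfl
    · obtain ⟨c, hc⟩ := T_conj3 a h2 h3 b h4 h5
      exact ⟨c, .inl hc⟩
    · exact T_conj5 a h2 h3 b h4 h5
  obtain ⟨c, hc⟩ := this
  refine ⟨ψ c * n, ?_, ?_⟩
  · rw [mul_inv_rev, ← conj_comm' (hψ.comm c).symm, ← hn]; group
  · have : ψ c * n * g * (ψ c * n)⁻¹ = ψ (c * a * c⁻¹) := by simp [ha, mul_assoc]
    rw [this]
    rcases hc with e | e <;> rw [e]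
    · exact mem_zpowers _
    · rw [map_mul]; exact mul_mem (mem_zpowers _) (mem_zpowers _)

theorem inverter {u : G} (hu : Iv u) (hut : u * t = t * u) (hug : u * g * u⁻¹ = g⁻¹) :
    ∃ k ∈ zpowers g, k * u * k⁻¹ = s ∨ k * u * k⁻¹ = s * t := by
  have h3 : ∀ s, s * g * s⁻¹ = g⁻¹ → u * s * g = g * (u * s) := fun s hs => by
    refine (comm_of_conj ?_).symm
    calc u * s * g * (u * s)⁻¹ = u * (s * g * s⁻¹) * u⁻¹ := by group
      _ = g := by rw [hs, ← conj_inv, hug, inv_inv]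
  have h4 : ∀ s, Iv s → u * s ∈ zpowers g → ∃ k ∈ zpowers g, k * u * k⁻¹ = s := fun s hs h5 => by
    obtain ⟨k, hk⟩ := Invol.exists_pow_conj_of_odd hu.2 hs.2
      ((h.mem_K H).1 (zpowers_le.2 (h.g_mem H) h5)).2
    exact ⟨_, pow_mem h5 k, hk⟩
  rcases H.cent_p h.hp h.it h.gp h.g1 h.tg (Commute.mul_left hut h.comm) (h3 s h.sg) with h5 | h5
  · obtain ⟨k, hk, e⟩ := h4 s h.is h5
    exact ⟨k, hk, .inl e⟩
  · obtain ⟨k, hk, e⟩ := h4 _ h.ist (by rwa [← mul_assoc, ← hut, mul_assoc, ← h.comm] at h5)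
    exact ⟨k, hk, .inr e⟩

theorem transport {t' s' g' : G} (h' : Trip p t' s' g') :
    ∃ n, n * t * n⁻¹ = t' ∧ n * g * n⁻¹ ∈ zpowers g' ∧
      (n * s * n⁻¹ = s' ∨ n * s * n⁻¹ = s' * t') := by
  obtain ⟨n, h1, h2⟩ := h.transport0 H h'
  have h3 := h.conj n
  rw [h1] at h3
  have h4 := h'.of_mem h2 h3.g1
  obtain ⟨k, hk, e⟩ := h4.inverter H h3.is h3.comm h3.sg
  have h5 := (h4.K_inf_t H).ge hk
  refine ⟨k * n, ?_, ?_, by simpa [mul_assoc] using e⟩
  · rw [← conj_comm' (mem_centralizer_singleton_iff.1 h5.2).symm, ← h1]; group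
  · have := conj_comm' ((h4.mem_K H).1 h5.1).1.symm
    rw [← this] at h2
    simpa [mul_assoc] using h2

theorem ncard_eq {t' s' g' : G} (h' : Trip p t' s' g') :
    {u | Iv u ∧ u * g = g * u}.ncard = {u | Iv u ∧ u * g' = g' * u}.ncard := by
  obtain ⟨n, h1, h2⟩ := h.transport0 H h'
  have h3 := h.card_C H
  have h4 := h'.card_C H
  have h5 := Invol.card_centralizer_eq_of_isConj (isConj_iff.2 ⟨n, rfl⟩ : IsConj g _)
  have h6 : centralizer ({n * g * n⁻¹} : Set G) = centralizer {g'} := by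
    rw [← centralizer_closure, ← zpowers_eq_closure, h'.zpowers_eq h2 (h.conj n).g1,
      zpowers_eq_closure, centralizer_closure]
  rw [h6, h3, h4] at h5
  exact Nat.eq_of_mul_eq_mul_right h.prime.pos (by omega)

theorem cross {q : ℕ} {t' s' g' : G} (h' : Trip q t' s' g') (hpq : p ≠ q)
    (hd : q ∣ Nat.card (centralizer ({g} : Set G))) :
    p ∣ Nat.card (centralizer ({g'} : Set G)) := by
  have key : ∀ {s : G}, Trip p t s g → q ∣ Nat.card (OK g ⊓ centralizer {s} : Subgroup G) →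
      p ∣ Nat.card (centralizer ({g'} : Set G)) := fun {s} h hd => by
    rcases h.A_cases H with h1 | ⟨q', a, h1, h2, h3⟩
    · exact absurd (Nat.dvd_one.1 (h1 ▸ hd)) h'.prime.one_lt.ne'
    · obtain rfl : q = q' := (Nat.prime_dvd_prime_iff_eq h'.prime h1.prime).1 (h3 ▸ hd)
      rw [h'.card_C H, ← h1.ncard_eq H h', ← h1.card_C H, ← h.ord]
      exact orderOf_dvd_natCard _ (mem_centralizer_singleton_iff.2 ((h.mem_K H).1 h2).1.symm)
  rw [(h.specK H).2.2, h.card_K H, h'.prime.dvd_mul, h'.prime.dvd_mul, h'.prime.dvd_mul] at hd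
  rcases hd with hd | (hd | hd) | hd
  · have := Nat.le_of_dvd two_pos hd
    have := h'.hp
    omega
  · exact key h hd
  · exact key h.swap hd
  · exact absurd ((Nat.prime_dvd_prime_iff_eq h'.prime h.prime).1 hd).symm hpq

end Trip

end Cfsg.Agent.Lib.Root.J1
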