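import Cfsg.Agent.Lib.Root.J1b

set_option autoImplicit false

/-! # Groups with involution centraliser `2 × A₅`: Sylow 3- and 5-subgroups -/

namespace Cfsg.Agent.Lib.Root.J1

open Subgroup

variable {G : Type*} [Group G]

theorem T_cent_card : ∀ s : T, s * s = 1 → s ≠ 1 → s ≠ t0 →
    (Finset.univ.filter fun a : T => a * s = s * a ∧ a ≠ 1).card = 7 := by decide +kernel

theorem ncard_modEq [Finite G] (K : Subgroup G) (X : Set G)
    (hX : ∀ k ∈ K, ∀ x ∈ X, k * x * k⁻¹ ∈ X) (f : ℕ)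
    (hf : ∀ k ∈ K, k ≠ 1 → {x | x ∈ X ∧ x * k = k * x}.ncard = f) :
    X.ncard ≡ f [MOD Nat.card K] := by
  classical
  letI : MulAction K X :=
    { smul := fun s u => ⟨s * u.1 * s⁻¹, hX s s.2 u u.2⟩
      one_smul := fun u => Subtype.ext (by change ((1 : K) : G) * u.1 * _ = _; simp)
      mul_smul := fun a b u => Subtype.ext (by
        change ((a * b : K) : G) * u.1 * _ = a * (b * u.1 * _) * _
        simp [mul_assoc]) }
  have hs : ∀ (s : K) (u : X), (s • u).1 = s * u.1 * s⁻¹ := fun _ _ => rfl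
  have := Fintype.ofFinite K
  have := Fintype.ofFinite X
  have : Fintype (Quotient (MulAction.orbitRel K X)) := Fintype.ofFinite _
  have h1 := MulAction.sum_card_fixedBy_eq_card_orbits_mul_card_group K X
  rw [← Finset.add_sum_erase _ _ (Finset.mem_univ 1), Finset.sum_congr rfl (g := fun _ => f),
    Finset.sum_const, Finset.card_erase_of_mem (Finset.mem_univ _), Finset.card_univ,
    ← Nat.card_eq_fintype_card (α := K)] at h1
  · have h2 : Fintype.card (MulAction.fixedBy X (1 : K)) = X.ncard := by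
      rw [← Nat.card_coe_set_eq, ← Nat.card_eq_fintype_card, MulAction.fixedBy_one_eq_univ,
        Nat.card_univ]
    rw [h2, smul_eq_mul] at h1
    obtain ⟨m, hm⟩ : ∃ m, Nat.card K = m + 1 := ⟨_, (Nat.succ_pred_eq_of_pos Nat.card_pos).symm⟩
    rw [hm, Nat.add_sub_cancel] at h1
    rw [hm]
    refine Nat.ModEq.add_right_cancel' (m * f) ?_
    rw [h1, show f + m * f = f * (m + 1) by ring]
    exact (Nat.modEq_zero_iff_dvd.2 (dvd_mul_left _ _)).trans
      (Nat.modEq_zero_iff_dvd.2 (dvd_mul_left _ _)).symm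
  · intro s hs1
    rw [← hf s s.2 fun e => Finset.ne_of_mem_erase hs1 (Subtype.ext e), ← Nat.card_coe_set_eq,
      ← Nat.card_eq_fintype_card]
    refine Nat.card_congr ⟨fun u => ⟨u.1.1, u.1.2, ?_⟩, fun u => ⟨⟨u.1, u.2.1⟩, ?_⟩, fun _ => rfl,
      fun _ => rfl⟩
    · have := congrArg Subtype.val (MulAction.mem_fixedBy.1 u.2)
      rw [hs] at this
      exact (mul_inv_eq_iff_eq_mul.1 this).symm
    · exact MulAction.mem_fixedBy.2 (Subtype.ext (by
        rw [hs]; exact mul_inv_eq_iff_eq_mul.2 u.2.2.symm))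

theorem mem_zpowers_of_prime [Finite G] {p : ℕ} (hp : p.Prime) {g k : G} (hg : orderOf g = p)
    (hk : k ∈ zpowers g) (hk1 : k ≠ 1) : g ∈ zpowers k := by
  have h1 : orderOf k ∣ p := by
    rw [← hg]
    exact orderOf_dvd_of_mem_zpowers hk
  have h2 := (hp.eq_one_or_self_of_dvd _ h1).resolve_left (by simpa using hk1)
  have := eq_of_le_of_card_ge (zpowers_le.2 hk) (by
    rw [Nat.card_zpowers, Nat.card_zpowers, hg, h2])
  exact this ▸ mem_zpowers g

theorem comm_of_mem_zpowers {g k x : G} (hk : k ∈ zpowers g) (h : x * g = g * x) :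
    x * k = k * x := by
  obtain ⟨i, rfl⟩ := hk
  exact (Commute.zpow_right h i).eq

theorem conj_mem_of_zpowers {g k x : G} {X : Set G} [Finite G] (hX : ∀ x ∈ X, g * x * g⁻¹ ∈ X)
    (hk : k ∈ zpowers g) (hx : x ∈ X) : k * x * k⁻¹ ∈ X := by
  obtain ⟨i, rfl⟩ := mem_powers_iff_mem_zpowers.2 hk
  induction i with
  | zero => simpa using hx
  | succ i ih =>
    have := hX _ (ih (pow_mem (mem_zpowers g) i))
    simpa [pow_succ', mul_assoc] using this

theorem ncard_modEq_prime [Finite G] {p : ℕ} (hp : p.Prime) {g : G} (hg : orderOf g = p)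
    (X : Set G) (hX : ∀ x ∈ X, g * x * g⁻¹ ∈ X) :
    X.ncard ≡ {x | x ∈ X ∧ x * g = g * x}.ncard [MOD p] := by
  have := ncard_modEq (zpowers g) X (fun k hk x hx => conj_mem_of_zpowers hX hk hx)
    {x | x ∈ X ∧ x * g = g * x}.ncard fun k hk hk1 => by
      congr 1
      ext x
      exact and_congr_right fun _ =>
        ⟨comm_of_mem_zpowers (mem_zpowers_of_prime hp hg hk hk1), comm_of_mem_zpowers hk⟩
  rwa [Nat.card_zpowers, hg] at this

theorem exists_fixed [Finite G] {p : ℕ} (hp : p.Prime) {g : G} (hg : orderOf g = p)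
    (X : Set G) (hX : ∀ x ∈ X, g * x * g⁻¹ ∈ X) (hd : ¬ p ∣ X.ncard) :
    ∃ x ∈ X, x * g = g * x := by
  by_contra hc
  have := ncard_modEq_prime hp hg X hX
  rw [show {x | x ∈ X ∧ x * g = g * x} = ∅ from Set.eq_empty_of_forall_notMem
    fun x hx => hc ⟨x, hx⟩, Set.ncard_empty] at this
  exact hd (Nat.modEq_zero_iff_dvd.1 this)

theorem sl2_trick {a b β γ : G} (hab : a * b = b * a) (h1 : β * a * β⁻¹ = a)
    (h2 : β * b * β⁻¹ = b * a) (h3 : γ * b * γ⁻¹ = b) (h4 : γ * a * γ⁻¹ = a * b⁻¹) :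
    (β * γ * β) * (β * γ * β) * a * ((β * γ * β) * (β * γ * β))⁻¹ = a⁻¹ := by
  have e1 : β * γ * β * a * (β * γ * β)⁻¹ = b⁻¹ := by
    calc _ = β * (γ * (β * a * β⁻¹) * γ⁻¹) * β⁻¹ := by group
      _ = β * (a * b⁻¹) * β⁻¹ := by rw [h1, h4]
      _ = (β * a * β⁻¹) * (β * b * β⁻¹)⁻¹ := by group
      _ = _ := by rw [h1, h2]; group
  have e2 : β * γ * β * b * (β * γ * β)⁻¹ = a := by
    calc _ = β * (γ * (β * b * β⁻¹) * γ⁻¹) * β⁻¹ := by group
      _ = β * ((γ * b * γ⁻¹) * (γ * a * γ⁻¹)) * β⁻¹ := by rw [h2]; group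
      _ = _ := by rw [h3, h4, ← mul_assoc b, ← hab, mul_inv_cancel_right, h1]
  generalize β * γ * β = y at *
  calc _ = y * (y * a * y⁻¹) * y⁻¹ := by group
    _ = _ := by rw [e1, ← conj_inv, e2]

theorem gl23_trick {d e y : G} (hde : d * e = e * d) (hd : d ^ 3 = 1) (he : e ^ 3 = 1)
    (h1 : y * d * y⁻¹ = e) (h2 : y * e * y⁻¹ = d * e) :
    (y * y) * (y * y) * d * ((y * y) * (y * y))⁻¹ = d⁻¹ := by
  have e1 : y * y * d * (y * y)⁻¹ = d * e := by
    calc _ = y * (y * d * y⁻¹) * y⁻¹ := by group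
      _ = _ := by rw [h1, h2]
  have e2 : y * y * e * (y * y)⁻¹ = e * (d * e) := by
    calc _ = y * (y * e * y⁻¹) * y⁻¹ := by group
      _ = _ := by rw [h2, ← conj_mul, h1, h2]
  generalize y * y = z at *
  calc _ = z * (z * d * z⁻¹) * z⁻¹ := by group
    _ = d * (e * (e * d)) * e := by rw [e1, ← conj_mul, e1, e2]; group
    _ = d⁻¹ * d ^ 3 * e ^ 3 := by rw [← hde, ← mul_assoc e, ← hde]; simp [pow_succ, mul_assoc]
    _ = _ := by rw [hd, he, mul_one, mul_one]

theorem conj_pow_trans {γ a c : G} (hc : γ * c * γ⁻¹ = c) (h : γ * a * γ⁻¹ = a * c) (m : ℕ) :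
    γ ^ m * a * (γ ^ m)⁻¹ = a * c ^ m := by
  induction m with
  | zero => simp
  | succ m ih =>
    calc _ = γ * (γ ^ m * a * (γ ^ m)⁻¹) * γ⁻¹ := by rw [pow_succ']; group
      _ = _ := by rw [ih, ← conj_mul, ← conj_pow, h, hc, pow_succ', mul_assoc]

variable [Finite G] {t₀ : G} {φ₀ : T →* G} (H : Hyp t₀ φ₀)
include H

theorem Hyp.ncard_V {t s : G} (ht : Iv t) (hs : Iv s) (hne : s ≠ t) (hst : s * t = t * s) :
    {c | c * t = t * c ∧ c * s = s * c ∧ c ≠ 1}.ncard = 7 := by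
  obtain ⟨ψ, hψ⟩ := H.emb_iv ht
  obtain ⟨a, rfl⟩ := hψ.surj s hst
  rw [← T_cent_card a (by rw [← hψ.eq_one, map_mul, hs.2]) (by rw [Ne, ← hψ.eq_one]; exact hs.1)
    (by rintro rfl; exact hne hψ.map_t)]
  exact hψ.ncard _ _ (fun _ h => h.1) fun b => by
    simp [hψ.comm, ← map_mul, hψ.eq_iff, hψ.eq_one]

namespace Trip
variable {p : ℕ} {t s g : G} (h : Trip p t s g)
include h

theorem card_A {a : G} (ha : a ∈ OK g) (has : a * s = s * a) (ha1 : a ≠ 1) (hp : a ^ p = 1) :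
    Nat.card (OK g ⊓ centralizer {s} : Subgroup G) = p := by
  obtain ⟨q, h1, h2⟩ := h.A_trip H ha has ha1
  haveI := Fact.mk h.prime
  rw [h2, Nat.card_zpowers, orderOf_eq_prime hp ha1]

theorem abel_case {n : G} (hn : n ^ 3 = 1) (h1 : n * t * n⁻¹ = s) (h2 : n * s * n⁻¹ = s * t)
    (h3 : n * g * n⁻¹ * g = g * (n * g * n⁻¹)) : False := by
  have hn' : ∀ x, n * (n * (n * x * n⁻¹) * n⁻¹) * n⁻¹ = x := fun x => by
    calc _ = n ^ 3 * x * (n ^ 3)⁻¹ := by simp [pow_succ, mul_assoc]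
      _ = x := by simp [hn]
  have h0 : n * (s * t) * n⁻¹ = t := by rw [← h2, ← h1, hn']
  have T1 := h.conj n
  rw [h1, h2] at T1
  set g1 := n * g * n⁻¹ with hg1
  have T2 := T1.conj n
  rw [h2, h0] at T2
  set g2 := n * g1 * n⁻¹ with hg2
  have hg0 : n * g2 * n⁻¹ = g := hn' g
  have h4 : g2 * g1 = g1 * g2 := comm_conj n h3
  have h5 : g * g2 = g2 * g := by have := comm_conj n h4; rwa [hg0] at this
  have k1 : g1 ∈ OK g := (h.mem_K H).2 ⟨h3, T1.odd⟩
  have k2 : g2 ∈ OK g := (h.mem_K H).2 ⟨h5.symm, T2.odd⟩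
  have hC : Nat.card (centralizer ({g} : Set G)) = 2 * (p * p * p) := by
    rw [(h.specK H).2.2, h.card_K H, h.card_A H k1 T1.tg T1.g1 T1.gp,
      h.swap.card_A H k2 T2.tg T2.g1 T2.gp]
  set d := g * g1 * g2 with hd
  have c01 : Commute g g1 := h3.symm
  have c02 : Commute g g2 := h5
  have c12 : Commute g1 g2 := h4.symm
  have hdp : d ^ p = 1 := by
    rw [hd, (c02.mul_left c12).mul_pow, c01.mul_pow, h.gp, T1.gp, T2.gp]; simp
  have hd1 : d ≠ 1 := fun e => by
    have h6 : g1 * g2 = g⁻¹ := by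
      rw [eq_inv_iff_mul_eq_one, ← (c01.mul_right c02).eq, ← mul_assoc, ← hd, e]
    have h7 := congrArg (fun x => t * x * t⁻¹) h6
    simp only [← conj_mul, ← conj_inv] at h7
    rw [h.A_inv H k1 T1.tg, T2.sg, conj_comm' h.tg, ← mul_inv_rev, h4, h6, inv_inj] at h7
    exact h.sq_ne (inv_eq_iff_mul_eq_one.1 h7)
  have hdn : d * n = n * d := comm_of_conj (by
    rw [hd, ← conj_mul, ← conj_mul, hg0, ← hg1, ← hg2, ← (c01.mul_right c02).eq, mul_assoc g g1])
  have hdg : Commute d g := ((Commute.refl g).mul_left c01.symm).mul_left c02.symm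
  have hn1 : n ≠ 1 := by rintro rfl; exact h.ne (by simpa using h1.symm)
  have hno : orderOf n = 3 := orderOf_eq_prime hn hn1
  obtain ⟨w, ⟨hwt, hws, hw1⟩, hwn⟩ := exists_fixed Nat.prime_three hno
    {c | c * t = t * c ∧ c * s = s * c ∧ c ≠ 1} (by
      rintro x ⟨a1, a2, a3⟩
      have b1 := comm_conj n a1
      have b2 := comm_conj n (Commute.mul_right a2 a1).eq
      rw [h1] at b1
      rw [h0] at b2
      exact ⟨b2, b1, by simpa using a3⟩) (by rw [H.ncard_V h.it h.is h.ne h.comm]; decide)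
  have hw : Iv w := ⟨hw1, H.cent_V h.it h.is h.ne h.comm hwt hws⟩
  obtain ⟨s', Tn⟩ := H.ex_trip (.inl rfl) hw hn hn1 hwn.symm
  haveI := Fact.mk h.prime
  have hdo : orderOf d = p := orderOf_eq_prime hdp hd1
  rcases h.hp with rfl | rfl
  swap
  · have := Tn.cross H h (by decide) (hdo ▸ Subgroup.orderOf_dvd_natCard _
      (mem_centralizer_singleton_iff.2 hdn))
    rw [hC] at this
    omega
  obtain ⟨e, he, h6⟩ := Tn.t_conj H ((Tn.mem_K H).2 ⟨hdn, by rw [hdo]; decide⟩)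
  by_cases he1 : e = 1
  · rw [he1, one_mul] at h6
    have h7 : Commute d (w * g * w⁻¹) := by
      have := comm_conj w hdg.eq
      rw [h6] at this
      exact Commute.inv_left_iff.1 this
    obtain ⟨ψ, hψ⟩ := H.emb_iv h.it
    obtain ⟨a, rfl⟩ := hψ.surj g h.tg
    obtain ⟨b, rfl⟩ := hψ.surj s h.comm
    obtain ⟨m, rfl⟩ := hψ.surj w hwt
    have hf : ∀ x, ψ m = x → n * x * n⁻¹ = x := fun x e => e ▸ conj_comm' hwn
    rcases T_five a (by rw [← hψ.eq_one, map_pow, h.gp]) (by rw [Ne, ← hψ.eq_one]; exact h.g1) b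
      (by rw [← hψ.eq_one, map_mul, h.is.2])
      (by rw [← hψ.eq_iff, map_mul, map_mul, map_inv, ← h.sg, h.is.inv]) m
      (by rw [← hψ.eq_iff, map_mul, map_mul, hws]) with rfl | rfl | rfl | rfl | ⟨h8, h9⟩
    · exact hw1 (map_one ψ)
    · exact h.ne (h1.symm.trans (hf _ hψ.map_t))
    · exact h.it.1 (by simpa using h2.symm.trans (hf _ rfl))
    · have := hf (ψ b * t) (by rw [map_mul, hψ.map_t, h.comm])
      exact h.is.1 (by simpa using h0.symm.trans this)
    · obtain ⟨s'', Tf⟩ := H.ex_trip (.inr rfl) h.it (g := ψ (a * (m * a * m⁻¹)))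
        (by rw [← map_pow, h8, map_one]) (by rwa [Ne, hψ.eq_one]) (hψ.comm _)
      have := Tf.cross H h (by decide) (hdo ▸ Subgroup.orderOf_dvd_natCard _
        (mem_centralizer_singleton_iff.2 (by
          simpa only [map_mul, map_inv] using (hdg.mul_right h7).eq)))
      rw [hC] at this
      omega
  · have hκ : ∃ κ, κ * d * κ⁻¹ = d ∧ κ * e * κ⁻¹ = d * e := by
      have c1 : Commute (g1 * g2 * g2) d :=
        (((c01.symm.mul_right (Commute.refl g1)).mul_right c12).mul_left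
          ((c02.symm.mul_right c12.symm).mul_right (Commute.refl g2))).mul_left
          ((c02.symm.mul_right c12.symm).mul_right (Commute.refl g2))
      have c2 : (g1 * g2 * g2) * n * (g1 * g2 * g2)⁻¹ = d * n := by
        have h7 : n * (g1 * g2 * g2) * n⁻¹ = g2 * g * g := by rw [← conj_mul, ← conj_mul, hg0]
        have h8 : g⁻¹ * g⁻¹ = g := by
          rw [← mul_inv_rev, inv_eq_iff_mul_eq_one, ← h.gp]; simp [pow_succ]
        calc _ = (g1 * g2 * g2) * (n * (g1 * g2 * g2) * n⁻¹)⁻¹ * n := by group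
          _ = g1 * g2 * (g2 * (g⁻¹ * g⁻¹) * g2⁻¹) * n := by rw [h7]; group
          _ = _ := by rw [h8, conj_comm' h5, ← (c01.mul_right c02).eq, hd, mul_assoc g g1]
      have h9 : e = n ∨ e = n * n := by
        classical
        obtain ⟨i, hi, rfl⟩ := (mem_zpowers_iff_mem_range_orderOf.1 he |> Finset.mem_image.1)
        rw [hno, Finset.mem_range] at hi
        interval_cases i <;> simp_all [pow_two]
      rcases h9 with rfl | rfl
      · exact ⟨_, conj_comm' c1.symm.eq, c2⟩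
      · refine ⟨(g1 * g2 * g2) ^ 2, conj_comm' (c1.pow_left 2).symm.eq, ?_⟩
        have h10 : (g1 * g2 * g2) * (n * n) * (g1 * g2 * g2)⁻¹ = n * n * (d * d) := by
          rw [← conj_mul, c2, hdn, mul_assoc, ← mul_assoc d, hdn]; group
        rw [conj_pow_trans (by rw [← conj_mul, conj_comm' c1.symm.eq]) h10, ← pow_two d, ← pow_mul,
          pow_succ, hdp, one_mul, ← mul_assoc d, hdn, mul_assoc n d, hdn, mul_assoc n n]
    obtain ⟨κ, h7, h8⟩ := hκ
    have hde : d * e = e * d := comm_of_mem_zpowers he hdn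
    refine absurd (H.no_four (gl23_trick (y := κ * w) hde hdp (Tn.of_mem he he1).gp ?_ ?_))
      fun e => hd1 (eq_one_of_odd (by rw [hdo]; decide) e)
    · calc _ = κ * (w * d * w⁻¹) * κ⁻¹ := by group
        _ = _ := by rw [h6, ← conj_mul, ← conj_inv, h7, h8, hde, mul_assoc, mul_inv_cancel, mul_one]
    · calc _ = κ * (w * e * w⁻¹) * κ⁻¹ := by group
        _ = _ := by rw [conj_comm' (comm_of_mem_zpowers he hwn).symm, h8]

theorem A_ne : Nat.card (OK g ⊓ centralizer {s} : Subgroup G) ≠ p := by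
  intro hc
  rcases h.A_cases H with h1 | ⟨q, a, Ta, haK, h1⟩
  · exact h.prime.one_lt.ne (h1.symm.trans hc)
  obtain rfl : p = q := hc.symm.trans h1
  obtain ⟨n, h1, h2, h3 | h3⟩ := h.transport H Ta
  · have hc2 : ∀ x, n * n * x * (n * n)⁻¹ = n * (n * x * n⁻¹) * n⁻¹ := fun x => by group
    have h4 : n * n * (n * n) = 1 := H.cent_V h.it h.is h.ne h.comm
      (comm_of_conj (by rw [hc2, h1, h3])).symm (comm_of_conj (by rw [hc2, h3, h1])).symm
    have h5 := H.sq_of_four (y := n) (by rw [← h4]; simp [pow_succ, mul_assoc])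
    have h6 : n * t * (n * t) = s * t := by
      rw [← h1, inv_eq_of_mul_eq_one_right h5]; group
    have h7 := H.sq_of_four (y := n * t) (by
      rw [show 4 = 2 * 2 from rfl, pow_mul, pow_two, pow_two, h6, h.ist.2])
    exact h.ist.1 (h6.symm.trans h7)
  rw [← h.comm] at h3
  have h0 : n * (s * t) * n⁻¹ = t := by
    rw [← conj_mul, h1, h3, mul_assoc, ← h.comm, h.is.cancel]
  have T1 := h.conj n
  rw [h1, h3] at T1
  set g1 := n * g * n⁻¹ with hg1
  have h4 : g1 * g = g * g1 := (comm_of_mem_zpowers h2 ((h.mem_K H).1 haK).1.symm).symm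
  have T2 := h.conj n⁻¹
  rw [inv_inv, show n⁻¹ * t * n = s * t from (congrArg (n⁻¹ * · * n) h0).symm.trans (by group),
    show n⁻¹ * s * n = t by rw [← h1]; group] at T2
  set g2 := n⁻¹ * g * n with hg2
  have h5 : g2 * g = g * g2 := by
    have := comm_conj n⁻¹ h4
    simpa [hg1, hg2, mul_assoc] using this.symm
  have k1 : g1 ∈ OK g := (h.mem_K H).2 ⟨h4, T1.odd⟩
  have k2 : g2 ∈ OK g := (h.mem_K H).2 ⟨h5, T2.odd⟩
  obtain ⟨e, he, h6⟩ := h.commutator H k2 k1
  have h7 : g * (n * g1 * n⁻¹) * g⁻¹ = (n * g1 * n⁻¹) * (n * e * n⁻¹) := by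
    rw [conj_mul, ← h6, hg2]; group
  by_cases he1 : e = 1
  · rw [he1, mul_one, mul_inv_cancel, mul_one] at h7
    have hw : ∀ x, n ^ 3 * x * (n ^ 3)⁻¹ = n * (n * (n * x * n⁻¹) * n⁻¹) * n⁻¹ := fun x => by
      simp [pow_succ, mul_assoc]
    have w1 : n ^ 3 * t * (n ^ 3)⁻¹ = t := by rw [hw, h1, h3, h0]
    have w2 : n ^ 3 * s * (n ^ 3)⁻¹ = s := by rw [hw, h3, h0, h1]
    have w3 := H.cent_V h.it h.is h.ne h.comm (comm_of_conj w1).symm (comm_of_conj w2).symm
    obtain ⟨q, -, h8⟩ := h.swap.A_trip H k2 T2.tg T2.g1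
    have T3 := T1.conj n
    rw [h3] at T3
    have h9 : n * g1 * n⁻¹ ∈ zpowers g2 := h8 ▸ mem_inf.2 ⟨(h.mem_K H).2
      ⟨comm_of_conj h7, T3.odd⟩, mem_centralizer_singleton_iff.2 T3.tg⟩
    have h10 := comm_conj n (comm_of_mem_zpowers h9 rfl)
    rw [← hw, show n * g2 * n⁻¹ = g by rw [hg2]; group] at h10
    have h11 : n ^ 3 * g * (n ^ 3)⁻¹ ∈ zpowers g := h.mem_of_odd H
      (by have := comm_conj (n ^ 3) h.tg; rwa [w1] at this) h10.symm (odd_conj _ h.odd)
    have hw' : ∀ x, n ^ 4 * x * (n ^ 4)⁻¹ = n * (n ^ 3 * x * (n ^ 3)⁻¹) * n⁻¹ := fun x => by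
      rw [pow_succ' n 3]; group
    refine h.abel_case H (n := n ^ 4) ?_ (by rw [hw', w1, h1]) (by rw [hw', w2, h3]) ?_
    · calc (n ^ 4) ^ 3 = (n ^ 3 * n ^ 3) ^ 2 := by group
        _ = 1 := by rw [w3, one_pow]
    · obtain ⟨i, hi⟩ := h11
      rw [hw', ← hi]
      show n * g ^ i * n⁻¹ * g = g * (n * g ^ i * n⁻¹)
      rw [← conj_zpow]
      exact (Commute.zpow_left h4 i).eq
  · set g3 := n * g1 * n⁻¹
    have c3 : Commute g3 g1 := comm_conj n h4
    obtain ⟨i, rfl⟩ := mem_powers_iff_mem_zpowers.2 he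
    simp only at *
    rw [← conj_pow, ← hg1] at h7
    have c1 : Commute g g1 := h4.symm
    have h8 : g3⁻¹ * g * g3⁻¹⁻¹ = g * g1 ^ i := by
      calc _ = g3⁻¹ * (g * g3 * g⁻¹) * g := by group
        _ = _ := by rw [h7, (c1.pow_right i).eq]; group
    have h9 : g3⁻¹ * g ^ i * g3⁻¹⁻¹ = g ^ i * (g1 ^ i) ^ i := by
      rw [← conj_pow, h8, (c1.pow_right i).mul_pow]
    have h10 : (g1 ^ i) ^ i ≠ 1 := by
      have : ¬ p ∣ i := fun hd => he1 (by rw [← orderOf_dvd_iff_pow_eq_one, h.ord]; exact hd)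
      rw [← pow_mul, Ne, ← orderOf_dvd_iff_pow_eq_one, T1.ord, h.prime.dvd_mul, or_self]
      exact this
    obtain ⟨m, hm⟩ := mem_powers_iff_mem_zpowers.2 (inv_mem (mem_zpowers_of_prime h.prime T1.ord
      (pow_mem (pow_mem (mem_zpowers g1) i) i) h10))
    have h11 := conj_pow_trans (conj_comm' ((c3.inv_left.pow_right i).pow_right i).symm.eq) h9 m
    simp only at hm
    rw [hm] at h11
    exact (h.of_mem he he1).sq_ne (H.no_four (sl2_trick (c1.pow_left i).eq
      (conj_comm' (Commute.pow_left h5.symm i).eq) h6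
      (conj_comm' (c3.inv_left.pow_left m).symm.eq) h11))

theorem A_card : Nat.card (OK g ⊓ centralizer {s} : Subgroup G) = 1 ∨
    Nat.card (OK g ⊓ centralizer {s} : Subgroup G) = 8 - p := by
  have h1 := h.A_ne H
  rcases h.A_cases H with h2 | ⟨q, a, Ta, -, h2⟩
  · exact .inl h2
  · have := h.hp
    have := Ta.hp
    omega

end Trip

end Cfsg.Agent.Lib.Root.J1
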