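import Cfsg.Agent.Lib.Root.J1c

set_option autoImplicit false

/-! # Bender's counting of involutions in cosets -/

namespace Cfsg.Agent.Lib.Root.J1

open Subgroup Finset

variable {G : Type*} [Group G] [Finite G]

theorem ncard_pow_le {p : ℕ} [hp : Fact p.Prime] (hP : ∀ P : Sylow p G, Nat.card P = p) :
    {y : G | y ^ p = 1 ∧ y ≠ 1}.ncard ≤ Nat.card (Sylow p G) * (p - 1) := by
  classical
  have := Fintype.ofFinite G
  have := Fintype.ofFinite (Sylow p G)
  rw [Nat.card_eq_fintype_card, ← card_univ, Set.ncard_eq_toFinset_card']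
  refine le_trans (card_le_card ?_) (card_biUnion_le_card_mul univ
    (fun P : Sylow p G => (univ.filter (· ∈ P)).erase 1) _ fun P _ => ?_)
  · intro y hy
    simp only [Set.mem_toFinset, Set.mem_setOf_eq] at hy
    obtain ⟨P, hP⟩ := (Invol.isPGroup_zpowers_of_orderOf (k := 1)
      (by simpa using orderOf_eq_prime hy.1 hy.2)).exists_le_sylow
    simp only [mem_biUnion, mem_univ, true_and, mem_erase, mem_filter]
    exact ⟨P, hy.2, hP (mem_zpowers y)⟩
  · rw [card_erase_of_mem (by simp), ← Fintype.card_subtype, ← Nat.card_eq_fintype_card]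
    exact Nat.sub_le_sub_right (hP P).le 1

open Classical in
theorem bender (K : Subgroup G) [Fintype K] :
    ({u : G | Iv u ∧ u ∉ K}.ncard : ℚ) + 1 ≤ K.index + ∑ h ∈ (univ : Finset K).erase 1,
      ({u : G | Iv u ∧ u * h * u⁻¹ = (h : G)⁻¹}.ncard : ℚ) / orderOf h := by
  have := Fintype.ofFinite G
  have := Fintype.ofFinite (G ⧸ K)
  set J := univ.filter fun u : G => Iv u ∧ u ∉ K with hJ
  have mJ : ∀ {u}, u ∈ J ↔ Iv u ∧ u ∉ K := by simp [hJ]
  let I : G → Finset K := fun u => univ.filter fun h : K => u * h * u⁻¹ = (h : G)⁻¹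
  have mI : ∀ {u h}, h ∈ I u ↔ u * h * u⁻¹ = (h : G)⁻¹ := by simp [I]
  let q : G → G ⧸ K := QuotientGroup.mk
  have h1 : ∀ u ∈ J, (J.filter fun a => q a = q u).card = (I u).card := by
    intro u hu
    obtain ⟨hu, huK⟩ := mJ.1 hu
    symm
    refine card_bij (fun h _ => u * h) (fun h hh => ?_) (fun a _ b _ e => ?_) (fun a ha => ?_)
    · have h2 : u * h ∉ K := fun e => huK ((mul_mem_cancel_right h.2).1 e)
      refine mem_filter.2 ⟨mJ.2 ⟨⟨fun e => h2 (e ▸ one_mem K), ?_⟩, h2⟩, ?_⟩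
      · have := mI.1 hh
        rw [hu.inv] at this
        rw [← mul_assoc, this, inv_mul_cancel]
      · exact QuotientGroup.mk_mul_of_mem u h.2
    · exact Subtype.ext (mul_left_cancel e)
    · obtain ⟨ha, e⟩ := mem_filter.1 ha
      obtain ⟨ha, -⟩ := mJ.1 ha
      refine ⟨⟨u⁻¹ * a, QuotientGroup.eq.1 e.symm⟩, mI.2 ?_, by simp⟩
      simp [ha.inv, hu.inv, hu.cancel]
  have h2 : ∑ u ∈ J, (1 : ℚ) / (I u).card + 1 ≤ K.index := by
    rw [sum_congr rfl fun u hu => by rw [← h1 u hu],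
      sum_comp (fun y => (1 : ℚ) / (J.filter fun a => q a = y).card) q,
      sum_congr rfl (g := fun _ => 1), sum_const, nsmul_eq_mul, mul_one]
    · have : (J.image q).card + 1 ≤ K.index := by
        rw [index, Nat.card_eq_fintype_card, ← card_univ]
        refine card_lt_card ⟨subset_univ _, fun hc => ?_⟩
        obtain ⟨u, hu, e⟩ := mem_image.1 (hc (mem_univ (q 1)))
        exact (mJ.1 hu).2 (by simpa using QuotientGroup.eq.1 e)
      exact_mod_cast this
    · intro y hy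
      obtain ⟨u, hu, rfl⟩ := mem_image.1 hy
      have : (J.filter fun a => q a = q u).card ≠ 0 := card_ne_zero.2 ⟨u, mem_filter.2 ⟨hu, rfl⟩⟩
      rw [nsmul_eq_mul, mul_one_div_cancel (by exact_mod_cast this)]
  have h3 : ∀ u ∈ J, (1 : ℚ) ≤ 1 / (I u).card + ∑ h ∈ (univ : Finset K).erase 1,
      if h ∈ I u then (1 : ℚ) / orderOf h else 0 := by
    intro u hu
    have h4 : (1 : K) ∈ I u := mI.2 (by simp)
    have h5 : (0 : ℚ) < (I u).card := by exact_mod_cast card_pos.2 ⟨_, h4⟩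
    calc (1 : ℚ) = ∑ h ∈ I u, (1 : ℚ) / (I u).card := by
          rw [sum_const, nsmul_eq_mul, mul_one_div_cancel h5.ne']
      _ = 1 / (I u).card + ∑ h ∈ (I u).erase 1, (1 : ℚ) / (I u).card :=
          (add_sum_erase _ _ h4).symm
      _ ≤ _ := by
          rw [← sum_filter, show ((univ : Finset K).erase 1).filter (· ∈ I u) = (I u).erase 1 by
            ext; simp]
          gcongr with h hh
          · exact_mod_cast orderOf_pos h
          · rw [← Nat.card_zpowers, Nat.card_eq_fintype_card, Fintype.card_subtype]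
            refine card_le_card fun y hy => ?_
            obtain ⟨i, rfl⟩ := (mem_filter.1 hy).2
            refine mI.2 ?_
            show u * ((h ^ i : K) : G) * u⁻¹ = ((h ^ i : K) : G)⁻¹
            rw [Subgroup.coe_zpow, Invol.conj_zpow_of_inverts (mI.1 (mem_of_mem_erase hh)), zpow_neg]
  have h4 := sum_le_sum h3
  rw [sum_const, nsmul_eq_mul, mul_one, sum_add_distrib, sum_comm] at h4
  rw [show {u : G | Iv u ∧ u ∉ K}.ncard = J.card by rw [hJ, Set.ncard_eq_toFinset_card']; simp]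
  refine le_trans (add_le_add_left h4 1) ?_
  rw [add_right_comm]
  refine add_le_add h2 (sum_le_sum fun h _ => ?_)
  rw [← sum_filter, sum_const, nsmul_eq_mul, mul_one_div]
  gcongr
  rw [Set.ncard_eq_toFinset_card']
  refine card_le_card fun u hu => ?_
  obtain ⟨h5, h6⟩ := mem_filter.1 hu
  simpa using ⟨(mJ.1 h5).1, mI.1 h6⟩

theorem T_even : ∀ a : T, a * a ≠ 1 → a ^ 6 = 1 →
    (univ.filter fun b : T => b * a * b⁻¹ = a⁻¹).card ≤ 6 := by decide +kernel

theorem sylow_zpowers {p : ℕ} [hp : Fact p.Prime] {g : G} (hg : orderOf g = p)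
    (h2 : ¬ p ^ 2 ∣ Nat.card G) : ∃ P : Sylow p G, (P : Subgroup G) = zpowers g := by
  have h3 : (Nat.card G).factorization p = 1 := by
    have h0 : Nat.card G ≠ 0 := Nat.card_pos.ne'
    apply le_antisymm
    · by_contra hc
      exact h2 ((hp.out.pow_dvd_iff_le_factorization h0 (k := 2)).2 (by omega))
    · exact (hp.out.pow_dvd_iff_le_factorization h0 (k := 1)).1
        (by rw [pow_one, ← hg]; exact _root_.orderOf_dvd_natCard g)
  exact ⟨Sylow.ofCard (zpowers g) (by rw [Nat.card_zpowers, h3, pow_one, hg]), rfl⟩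

variable {t₀ : G} {φ₀ : T →* G} (H : Hyp t₀ φ₀)
include H

theorem Trip.not_sq {p : ℕ} {t s g : G} (h : Trip p t s g) : ¬ p ^ 2 ∣ Nat.card G := by
  have h1 := ncard_modEq_prime h.prime h.ord {u | Iv u} fun x hx => Iv.conj hx g
  have h2 := h.ncard_cent H
  have h3 := h.A_card H
  have h4 := h.swap.A_card H
  rw [← H.ncard_iv]
  simp only [Set.mem_setOf_eq] at h1
  rw [h2, Nat.ModEq] at h1
  rcases h.hp with rfl | rfl <;> rcases h3 with h3 | h3 <;> rcases h4 with h4 | h4 <;>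
    rw [h3, h4] at h1 <;> omega

theorem Hyp.ex_trip' {p : ℕ} (hp : p = 3 ∨ p = 5) : ∃ s g, Trip p t₀ s g := by
  rcases hp with rfl | rfl
  · obtain ⟨s, hs⟩ := H.ex_trip (.inl rfl) H.emb.iv (g := φ₀ x0) (by rw [← map_pow, T_x.1, map_one])
      (by rw [Ne, H.emb.eq_one]; exact T_x.2) (H.emb.comm _)
    exact ⟨s, _, hs⟩
  · obtain ⟨a, h1, h2⟩ := T_ex5
    obtain ⟨s, hs⟩ := H.ex_trip (.inr rfl) H.emb.iv (g := φ₀ a) (by rw [← map_pow, h1, map_one])
      (by rwa [Ne, H.emb.eq_one]) (H.emb.comm _)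
    exact ⟨s, _, hs⟩

theorem Hyp.trip_of_pow {p : ℕ} (hp : p = 3 ∨ p = 5) {y : G} (hy : y ^ p = 1) (hy1 : y ≠ 1) :
    ∃ t s, Trip p t s y := by
  obtain ⟨s, g, h⟩ := H.ex_trip' hp
  haveI := Fact.mk h.prime
  obtain ⟨P, hP⟩ := sylow_zpowers h.ord (h.not_sq H)
  obtain ⟨n, hn⟩ := Invol.exists_conj_mem_sylow P (k := 1) (x := y)
    (by simpa using orderOf_eq_prime hy hy1)
  have := (h.of_mem (y := n * y * n⁻¹) (hP.le hn) (by simpa using hy1)).conj n⁻¹
  exact ⟨_, _, by simpa [mul_assoc] using this⟩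

theorem Trip.AB {p : ℕ} {t s g : G} (h : Trip p t s g) :
    Nat.card (OK g ⊓ centralizer {s} : Subgroup G) = 1 ∨
    Nat.card (OK g ⊓ centralizer {s * t} : Subgroup G) = 1 := by
  obtain ⟨s', g', h'⟩ := H.ex_trip' (p := 8 - p) (by have := h.hp; omega)
  by_contra! hc
  refine h'.not_sq H (dvd_trans ?_ (card_subgroup_dvd_card (OK g)))
  rw [h.card_K H, (h.A_card H).resolve_left hc.1, (h.swap.A_card H).resolve_left hc.2, pow_two]
  exact dvd_mul_right _ _

theorem Trip.N_cases {p : ℕ} {t s g : G} (h : Trip p t s g) :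
    ({u | Iv u ∧ u * g = g * u}.ncard = 1 ∨ {u | Iv u ∧ u * g = g * u}.ncard = 8 - p) ∧
    {u | Iv u ∧ u * g * u⁻¹ = g⁻¹}.ncard ≤ ({u | Iv u ∧ u * g = g * u}.ncard + 1) * p := by
  have h1 := h.ncard_inv H
  rw [h.ncard_cent H]
  rcases h.AB H with h2 | h2 <;> rw [h2] at h1 ⊢
  · rw [one_mul, add_comm]
    exact ⟨h.swap.A_card H, h1⟩
  · rw [mul_one]
    exact ⟨h.A_card H, h1⟩

theorem Hyp.pack : ∃ m3 m5, ((m3 = 1 ∧ m5 = 1) ∨ (m3 = 5 ∧ m5 = 3)) ∧
    {u : G | Iv u}.ncard % 3 = m3 % 3 ∧ {u : G | Iv u}.ncard % 5 = m5 % 5 ∧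
    (∀ y : G, y ^ 3 = 1 → y ≠ 1 → Nat.card (centralizer ({y} : Set G)) = 6 * m3 ∧
      {u | Iv u ∧ u * y * u⁻¹ = y⁻¹}.ncard ≤ (m3 + 1) * 3) ∧
    (∀ y : G, y ^ 5 = 1 → y ≠ 1 → Nat.card (centralizer ({y} : Set G)) = 10 * m5) := by
  obtain ⟨s, g, h⟩ := H.ex_trip' (.inl rfl)
  obtain ⟨s', g', h'⟩ := H.ex_trip' (.inr rfl)
  refine ⟨{u | Iv u ∧ u * g = g * u}.ncard, {u | Iv u ∧ u * g' = g' * u}.ncard, ?_,
    ncard_modEq_prime h.prime h.ord {u | Iv u} fun x hx => Iv.conj hx g,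
    ncard_modEq_prime h'.prime h'.ord {u | Iv u} fun x hx => Iv.conj hx g', fun y h1 h2 => ?_,
    fun y h1 h2 => ?_⟩
  · have h1 := h.cross H h' (by decide)
    have h2 := h'.cross H h (by decide)
    rw [h.card_C H, h'.card_C H] at h1 h2
    have h3 := (h.N_cases H).1
    have h4 := (h'.N_cases H).1
    omega
  · obtain ⟨t, s, hy⟩ := H.trip_of_pow (.inl rfl) h1 h2
    rw [← hy.ncard_eq H h, hy.card_C H]
    exact ⟨by ring, (hy.N_cases H).2⟩
  · obtain ⟨t, s, hy⟩ := H.trip_of_pow (.inr rfl) h1 h2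
    rw [← hy.ncard_eq H h', hy.card_C H]
    ring

theorem Hyp.card_cent_dvd {q : ℕ} (hq : q = 2 ∨ q = 3 ∨ q = 5) {y : G} (hy : orderOf y = q) :
    Nat.card (centralizer ({y} : Set G)) ∣ 120 := by
  obtain ⟨m3, m5, hm, -, -, h3, h5⟩ := H.pack
  have h1 : y ≠ 1 := by rintro rfl; rw [orderOf_one] at hy; omega
  have h2 := pow_orderOf_eq_one y
  rcases hq with rfl | rfl | rfl <;> rw [hy] at h2
  · obtain ⟨ψ, hψ⟩ := H.emb_iv ⟨h1, by rwa [← pow_two]⟩
    rw [hψ.card_cent]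
  · rw [(h3 y h2 h1).1]
    rcases hm with ⟨rfl, -⟩ | ⟨rfl, -⟩ <;> decide
  · rw [h5 y h2 h1]
    rcases hm with ⟨-, rfl⟩ | ⟨-, rfl⟩ <;> decide

theorem Hyp.big_coprime {g : G} (hg : g ≠ 1) (hc : (orderOf g).Coprime 30) :
    (Nat.card (centralizer ({g} : Set G))).Coprime 30 := by
  have key : ∀ q, q.Prime → (q = 2 ∨ q = 3 ∨ q = 5) →
      (Nat.card (centralizer ({g} : Set G))).Coprime q := by
    intro q hq hq'
    rw [Nat.coprime_comm, hq.coprime_iff_not_dvd]
    intro hd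
    haveI := Fact.mk hq
    obtain ⟨y, hy⟩ := exists_prime_orderOf_dvd_card' q hd
    have h1 := (Subgroup.orderOf_dvd_natCard _ (mem_centralizer_singleton_iff.2
      (mem_centralizer_singleton_iff.1 y.2).symm)).trans
      (H.card_cent_dvd hq' ((Subgroup.orderOf_coe y).trans hy))
    have h2 : orderOf g ∣ 30 ^ 3 := h1.trans (by decide)
    exact hg (orderOf_eq_one_iff.1 ((hc.pow_right 3).eq_one_of_dvd h2))
  exact ((key 2 (by norm_num) (by simp)).mul_right (key 3 (by norm_num) (by simp))).mul_right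
    (key 5 (by norm_num) (by simp))

theorem Hyp.big_odd {g a : G} (hg : g ≠ 1) (hc : (orderOf g).Coprime 30) (ha : a * g = g * a) :
    (orderOf a).Coprime 30 :=
  (H.big_coprime hg hc).coprime_dvd_left
    (Subgroup.orderOf_dvd_natCard _ (mem_centralizer_singleton_iff.2 ha))

omit H in
theorem odd_of_coprime {n : ℕ} (h : n.Coprime 30) : Odd n :=
  Nat.coprime_two_right.1 (h.coprime_dvd_right (by decide))

theorem Hyp.big_inv {g u a : G} (hg : g ≠ 1) (hc : (orderOf g).Coprime 30) (hu : Iv u)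
    (hug : u * g * u⁻¹ = g⁻¹) (ha : a * g = g * a) : u * a * u⁻¹ = a⁻¹ := by
  have h1 : Commute (a⁻¹ * (u * a * u⁻¹)) g := by
    have := comm_conj u ha
    rw [hug] at this
    exact (Commute.inv_left ha).mul_left (Commute.inv_right_iff.1 this)
  obtain ⟨r, ⟨i, rfl⟩, h2, h3⟩ := decomp hu (odd_of_coprime (H.big_odd hg hc h1))
  have h4 := H.big_odd hg hc (Commute.mul_left ha (h1.zpow_left i).inv_left)
  have h5 := orderOf_eq_one_iff.1 (h4.eq_one_of_dvd (orderOf_dvd_of_pow_eq_one (H.pow30 hu h3)))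
  simp only at h2
  rwa [← mul_inv_eq_one.1 h5] at h2

theorem Hyp.big_comm {g u a b : G} (hg : g ≠ 1) (hc : (orderOf g).Coprime 30) (hu : Iv u)
    (hug : u * g * u⁻¹ = g⁻¹) (ha : a * g = g * a) (hb : b * g = g * b) : a * b = b * a := by
  have := H.big_inv hg hc hu hug (Commute.mul_left ha hb)
  rw [← conj_mul, H.big_inv hg hc hu hug ha, H.big_inv hg hc hu hug hb, ← mul_inv_rev,
    inv_inj] at this
  exact this.symm

theorem Hyp.big_cent {g u a : G} (hg : g ≠ 1) (hc : (orderOf g).Coprime 30) (hu : Iv u)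
    (hug : u * g * u⁻¹ = g⁻¹) (ha : a * g = g * a) (ha1 : a ≠ 1) {b : G} :
    b * a = a * b ↔ b * g = g * b :=
  ⟨fun hb => H.big_comm ha1 (H.big_odd hg hc ha) hu (H.big_inv hg hc hu hug ha) hb ha.symm,
    fun hb => H.big_comm hg hc hu hug hb ha⟩

theorem Hyp.big_ncard {g u : G} (hg : g ≠ 1) (hc : (orderOf g).Coprime 30) (hu : Iv u)
    (hug : u * g * u⁻¹ = g⁻¹) :
    {w | Iv w ∧ w * g * w⁻¹ = g⁻¹}.ncard = Nat.card (centralizer ({g} : Set G)) := by
  rw [← Invol.card_inverters_eq g (isConj_iff.2 ⟨u, hug⟩), ← Nat.card_coe_set_eq]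
  refine Nat.card_congr (Equiv.subtypeEquivRight fun w => ⟨fun h => h.2, fun h => ⟨⟨?_, ?_⟩, h⟩⟩)
  · rintro rfl
    exact hg (eq_one_of_odd (odd_of_coprime hc) (eq_inv_iff_mul_eq_one.1 (by simpa using h)))
  · have h1 : u * w * g = g * (u * w) := by
      refine (comm_of_conj ?_).symm
      calc u * w * g * (u * w)⁻¹ = u * (w * g * w⁻¹) * u⁻¹ := by group
        _ = g := by rw [h, ← conj_inv, hug, inv_inv]
    have := H.big_inv hg hc hu hug h1
    rw [hu.cancel, mul_inv_rev, mul_left_inj] at this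
    exact eq_inv_iff_mul_eq_one.1 this

theorem Hyp.big_struct [IsSimpleGroup G] {g u : G} (hg : g ≠ 1) (hc : (orderOf g).Coprime 30)
    (hu : Iv u) (hug : u * g * u⁻¹ = g⁻¹) : ∃ m e, m * Nat.card (centralizer ({g} : Set G)) =
      Nat.card G ∧ m ≡ e [MOD Nat.card (centralizer ({g} : Set G))] ∧ m ≠ e ∧ e ∣ 120 ∧ 2 ∣ e := by
  set A := centralizer ({g} : Set G) with hA
  have mA : ∀ {a}, a ∈ A ↔ a * g = g * a := mem_centralizer_singleton_iff
  have hX : ∀ {x}, IsConj g x → x ≠ 1 := fun hx e => hg (by simpa [e] using hx)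
  have hXc : ∀ k x, IsConj g x → IsConj g (k * x * k⁻¹) := fun k x hx =>
    hx.trans (isConj_iff.2 ⟨k, rfl⟩)
  refine ⟨{x | IsConj g x}.ncard, {x | IsConj g x ∧ x * g = g * x}.ncard, ?_, ?_, ?_, ?_, ?_⟩
  · rw [← Invol.card_conj_mul_card_centralizer g, ← Nat.card_coe_set_eq]; rfl
  · refine ncard_modEq A _ (fun k _ x hx => hXc k x hx) _ fun k hk hk1 => ?_
    congr 1
    ext x
    exact and_congr_right fun _ => H.big_cent hg hc hu hug (mA.1 hk) hk1
  · intro e
    have h1 := Set.eq_of_subset_of_ncard_le (s := {x | IsConj g x ∧ x * g = g * x})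
      (t := {x | IsConj g x}) (fun x hx => hx.1) e.le
    have h2 : normalClosure {g} ≤ A := closure_le _ |>.2 fun x hx => by
      obtain ⟨y, rfl, hy⟩ := Group.mem_conjugatesOfSet_iff.1 hx
      exact mA.2 (h1.ge hy).2
    rcases (normalClosure_normal (s := {g})).eq_bot_or_eq_top with h3 | h3
    · exact hg (mem_bot.1 (h3 ▸ subset_normalClosure (Set.mem_singleton g)))
    · have := H.big_odd hg hc (mA.1 (h2 (h3 ▸ mem_top u)))
      rw [hu.orderOf] at this
      exact absurd this (by decide)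
  · set N := normalizer (A : Set G)
    have h1 := card_eq_orbit_mul N g
    have h2 := card_eq_orbit_mul N u
    have h3 : {y | ∃ k ∈ N, k * g * k⁻¹ = y} = {x | IsConj g x ∧ x * g = g * x} := by
      ext x
      constructor
      · rintro ⟨k, hk, rfl⟩
        exact ⟨isConj_iff.2 ⟨k, rfl⟩, mA.1 ((mem_normalizer_iff.1 hk g).1 (mA.2 rfl))⟩
      · rintro ⟨h4, h5⟩
        obtain ⟨k, rfl⟩ := isConj_iff.1 h4
        refine ⟨k, mem_normalizer_fintype fun a ha => mA.2 ?_, rfl⟩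
        exact (H.big_cent hg hc hu hug h5 (hX h4)).1 (comm_conj k (mA.1 ha))
    have h4 : {y | ∃ k ∈ N, k * u * k⁻¹ = y} = {w | Iv w ∧ w * g * w⁻¹ = g⁻¹} := by
      ext w
      constructor
      · rintro ⟨k, hk, rfl⟩
        have := H.big_inv hg hc hu hug (mA.1 ((mem_normalizer_iff.1 (inv_mem hk) g).1 (mA.2 rfl)))
        refine ⟨hu.conj k, ?_⟩
        calc _ = k * (u * (k⁻¹ * g * k⁻¹⁻¹) * u⁻¹) * k⁻¹ := by group
          _ = _ := by rw [this]; group
      · rintro ⟨h5, h6⟩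
        have h7 : u * w * g = g * (u * w) := by
          refine (comm_of_conj ?_).symm
          calc u * w * g * (u * w)⁻¹ = u * (w * g * w⁻¹) * u⁻¹ := by group
            _ = g := by rw [h6, ← conj_inv, hug, inv_inv]
        obtain ⟨k, hk⟩ := Invol.exists_pow_conj_of_odd hu.2 h5.2
          (odd_of_coprime (H.big_odd hg hc h7))
        exact ⟨_, le_normalizer (pow_mem (mA.2 h7) k), hk⟩
    rw [h3, inf_eq_right.2 le_normalizer] at h1
    rw [h4, H.big_ncard hg hc hu hug, h1, mul_comm] at h2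
    obtain ⟨ψ, hψ⟩ := H.emb_iv hu
    rw [Nat.eq_of_mul_eq_mul_left Nat.card_pos h2, ← hψ.card_cent]
    exact card_dvd_of_le inf_le_right
  · by_contra hd
    obtain ⟨x, ⟨h1, h2⟩, h3⟩ := exists_fixed Nat.prime_two hu.orderOf _ (by
      rintro x ⟨h1, h2⟩
      refine ⟨hXc u x h1, ?_⟩
      rw [H.big_inv hg hc hu hug h2]
      exact Commute.inv_left h2) hd
    have := H.big_inv hg hc hu hug h2
    rw [conj_comm' h3] at this
    exact hX h1 (eq_one_of_odd (odd_of_coprime (H.big_odd hg hc h2)) (eq_inv_iff_mul_eq_one.1 this))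

end Cfsg.Agent.Lib.Root.J1
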