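import Cfsg.Agent.Lib.Root.J1d

set_option autoImplicit false

/-! # The order of a simple group with involution centraliser `2 × A₅` -/

namespace Cfsg.Agent.Lib.Root.J1

open Subgroup Finset

variable {G : Type*} [Group G] [Finite G]

theorem sylow_card {p m : ℕ} [hp : Fact p.Prime] (h : Nat.card G = p * m) (hm : ¬ p ∣ m)
    (P : Sylow p G) : Nat.card P = p ∧ Nat.card (Sylow p G) ∣ m := by
  have h0 : m ≠ 0 := by rintro rfl; exact hm (dvd_zero p)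
  have h1 : Nat.card P = p := by
    rw [P.card_eq_multiplicity, h, Nat.factorization_mul hp.out.ne_zero h0, Finsupp.add_apply,
      hp.out.factorization_self, Nat.factorization_eq_zero_of_not_dvd hm, pow_one]
  have h2 := (P : Subgroup G).card_mul_index
  rw [h, show Nat.card (P : Subgroup G) = p from h1] at h2
  exact ⟨h1, Nat.eq_of_mul_eq_mul_left hp.out.pos h2 ▸ P.card_dvd_index⟩

theorem sylow_kill [IsSimpleGroup G] {p m : ℕ} (hp : p.Prime) (h : Nat.card G = p * m)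
    (hm : ¬ p ∣ m) (hm1 : m ≠ 1) : ∃ n, n ∣ m ∧ n % p = 1 ∧ n ≠ 1 := by
  haveI := Fact.mk hp
  obtain ⟨P⟩ : Nonempty (Sylow p G) := inferInstance
  obtain ⟨h1, h2⟩ := sylow_card h hm P
  refine ⟨_, h2, Eq.trans (card_sylow_modEq_one p G) (Nat.mod_eq_of_lt hp.one_lt), fun e => ?_⟩
  haveI := (Nat.card_eq_one_iff_unique.1 e).1
  have h3 : Nat.card (P : Subgroup G) = p := h1
  rcases P.normal_of_subsingleton.eq_bot_or_eq_top with h4 | h4 <;> rw [h4] at h3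
  · exact hp.one_lt.ne (card_bot.symm.trans h3)
  · rw [card_top, h] at h3
    exact hm1 (Nat.eq_of_mul_eq_mul_left hp.pos (h3.trans (mul_one p).symm))

set_option synthInstance.maxSize 2000 in
theorem arith : ∀ c < 430, ∀ j < 90, ∀ r ∈ [73, 89], c ∣ 120 * (120 * j + r) →
    2 * (120 * j + r) ≤ 621 + 48 * c → (r = 73 → 2 * (120 * j + r) ≤ 397 + 48 * c) →
    (7 * c).Coprime 30 → ∀ e ∈ [2, 4, 6, 8, 10, 12, 20, 24, 30, 40, 60, 120],
    120 * (120 * j + r) / c % (7 * c) = e % (7 * c) → 120 * (120 * j + r) / c = e ∨ j < 2 := by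
  decide +kernel

theorem arith1 {J I n m3 m5 : ℕ} (hm : (m3 = 1 ∧ m5 = 1) ∨ (m3 = 5 ∧ m5 = 3)) (h3 : J % 3 = m3 % 3)
    (h5 : J % 5 = m5 % 5) (h1 : J * 120 = n) (h2 : J % 8 = 7) (h4 : I * 168 = n) :
    ∃ j r, ((r = 73 ∧ m3 = 1) ∨ (r = 89 ∧ m3 = 5)) ∧ J = 7 * (120 * j + r) ∧
      I = 5 * (120 * j + r) := by
  obtain ⟨μ, rfl⟩ : 7 ∣ J := by omega
  obtain rfl : I = 5 * μ := by omega
  rcases hm with ⟨rfl, rfl⟩ | ⟨rfl, rfl⟩
  · exact ⟨μ / 120, 73, by simp, by omega⟩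
  · exact ⟨μ / 120, 89, by simp, by omega⟩

theorem arith2 {j r m3 c m e : ℕ} (hr : (r = 73 ∧ m3 = 1) ∨ (r = 89 ∧ m3 = 5))
    (h6 : 7 * (120 * j + r) ≤ 5 * (120 * j + r) + 285 + 56 * (m3 + 1) + 48 * c)
    (e1 : m * (7 * c) = 7 * (120 * j + r) * 120) (e2 : m ≡ e [MOD 7 * c]) (e3 : m ≠ e)
    (e4 : e ∣ 120) (e5 : 2 ∣ e) (e6 : (7 * c).Coprime 30) : j < 2 := by
  have e7 : m * c = 120 * (120 * j + r) := by linarith
  have c0 : 0 < c := Nat.pos_of_ne_zero (by rintro rfl; simp at e6)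
  have e8 : 120 * (120 * j + r) / c = m := by rw [← e7, Nat.mul_div_cancel _ c0]
  have e9 := Nat.le_of_dvd (by norm_num) e4
  have e10 : 2 * (120 * j + r) ≤ 621 + 48 * c := by omega
  have e11 : c < 430 := by
    by_contra! hc'
    have : 7 * c ≤ m := by
      by_contra! hm'
      exact e3 (Nat.ModEq.eq_of_lt_of_lt e2 hm' (by omega))
    nlinarith
  have e12 : ∀ e ≤ 120, e ∣ 120 → 2 ∣ e → e ∈ [2, 4, 6, 8, 10, 12, 20, 24, 30, 40, 60, 120] := by
    decide +kernel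
  exact (arith c e11 j (by omega) r (by rcases hr with ⟨rfl, -⟩ | ⟨rfl, -⟩ <;> simp)
    (e7 ▸ dvd_mul_left _ _) e10 (by omega) e6 e (e12 e e9 e4 e5) (by rw [e8]; exact e2)).resolve_left
    (by rwa [e8])

variable {t₀ : G} {φ₀ : T →* G} (H : Hyp t₀ φ₀)
include H

theorem Hyp.H_orders {y : G} (hy : y ∈ normalizer (SS φ₀ : Set G)) : y ^ 6 = 1 ∨ y ^ 7 = 1 := by
  have h1 := Subgroup.orderOf_dvd_natCard _ hy
  rw [H.card_H] at h1
  have key : ∀ q, (q = 2 ∨ q = 3 ∨ q = 5) → q ∣ orderOf y → y ^ 6 = 1 := fun q hq hd => by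
    have h2 := (Subgroup.orderOf_dvd_natCard _ (mem_centralizer_singleton_iff.2
      (Commute.self_pow y _).eq)).trans
      (H.card_cent_dvd hq (orderOf_pow_orderOf_div (orderOf_pos y).ne' hd))
    have h3 : (y ^ 3) ^ 2 ^ 3 = 1 := by
      rw [← pow_mul, ← orderOf_dvd_iff_pow_eq_one]
      exact Nat.dvd_gcd h1 h2
    rw [← H.sq_of_two_pow h3, ← pow_add]
  by_cases h2 : 2 ∣ orderOf y
  · exact .inl (key 2 (by simp) h2)
  by_cases h3 : 3 ∣ orderOf y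
  · exact .inl (key 3 (by simp) h3)
  refine .inr (orderOf_dvd_iff_pow_eq_one.1 (Nat.Coprime.dvd_of_dvd_mul_left (m := 2 ^ 3 * 3) ?_ h1))
  exact (((Nat.prime_two.coprime_iff_not_dvd.2 h2).pow_left 3).mul_left
    (Nat.prime_three.coprime_iff_not_dvd.2 h3)).symm

theorem Hyp.inv_six {y : G} (h6 : y ^ 6 = 1) (h2 : y * y ≠ 1) (h3 : y ^ 3 ≠ 1) :
    {u | Iv u ∧ u * y * u⁻¹ = y⁻¹}.ncard ≤ 6 := by
  have hw : Iv (y ^ 3) := ⟨h3, by rw [← pow_add, h6]⟩
  obtain ⟨ψ, hψ⟩ := H.emb_iv hw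
  obtain ⟨a, ha⟩ := hψ.surj y (Commute.self_pow y 3).eq
  refine le_trans (Set.ncard_le_ncard (t := {u | u * y * u⁻¹ = y⁻¹}) fun u hu => hu.2) ?_
  rw [hψ.ncard _ (fun b => b * a * b⁻¹ = a⁻¹) (fun u hu => (comm_of_conj (by
    rw [Invol.conj_pow_of_inverts hu, hw.inv])).symm) fun b => by
      rw [← ha, ← map_inv, ← map_inv, ← map_mul, ← map_mul, hψ.eq_iff]]
  exact T_even a (by rw [Ne, ← hψ.eq_one, map_mul, ha]; exact h2)
    (by rw [← hψ.eq_one, map_pow, ha, h6])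

theorem Hyp.ineq {m c : ℕ} (hm : ∀ y : G, y ^ 3 = 1 → y ≠ 1 →
      {u | Iv u ∧ u * y * u⁻¹ = y⁻¹}.ncard ≤ m * 3)
    (hc : ∀ y : G, y ^ 7 = 1 → y ≠ 1 → {u | Iv u ∧ u * y * u⁻¹ = y⁻¹}.ncard ≤ c * 7) :
    {u : G | Iv u}.ncard ≤ (normalizer (SS φ₀ : Set G)).index + 285 + 56 * m + 48 * c := by
  classical
  set K := normalizer (SS φ₀ : Set G)
  have := Fintype.ofFinite K
  have hK : Nat.card K = 168 := H.card_H
  have h1 := bender K
  have h2 : {u : G | Iv u}.ncard ≤ {u : G | Iv u ∧ u ∉ K}.ncard + 7 := by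
    rw [← H.ncard_SS]
    refine le_trans (Set.ncard_le_ncard fun u hu => ?_) (Set.ncard_union_le _ _)
    by_cases h : u ∈ K
    exacts [.inr ⟨H.iv_mem_H hu h, hu.1⟩, .inl ⟨hu, h⟩]
  have h3 : ∀ h ∈ (univ : Finset K).erase 1,
      ({u : G | Iv u ∧ u * h * u⁻¹ = (h : G)⁻¹}.ncard : ℚ) / orderOf h ≤
        (if h ^ 2 = 1 then 16 else 0) + (if h ^ 3 = 1 then (m : ℚ) else 0) +
        (if h ^ 7 = 1 then (c : ℚ) else 0) + 1 := by
    intro h hh
    have hh1 := ne_of_mem_erase hh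
    have hh2 : (h : G) ≠ 1 := fun e => hh1 (Subtype.ext e)
    have n1 : (0 : ℚ) ≤ if h ^ 2 = 1 then 16 else 0 := by positivity
    have n2 : (0 : ℚ) ≤ if h ^ 3 = 1 then (m : ℚ) else 0 := by positivity
    have n3 : (0 : ℚ) ≤ if h ^ 7 = 1 then (c : ℚ) else 0 := by positivity
    have cp : ∀ {k : ℕ}, h ^ k = 1 ↔ (h : G) ^ k = 1 := by
      intro k; rw [← Subgroup.coe_pow, OneMemClass.coe_eq_one]
    by_cases e2 : h ^ 2 = 1
    · have hw : Iv (h : G) := ⟨hh2, by rw [← pow_two, cp.1 e2]⟩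
      obtain ⟨ψ, hψ⟩ := H.emb_iv hw
      have : {u : G | Iv u ∧ u * h * u⁻¹ = (h : G)⁻¹}.ncard = 31 := by
        rw [← hψ.ncard_iv, hw.inv]
        simp only [mul_inv_eq_iff_eq_mul]
      rw [this, orderOf_eq_prime e2 hh1, if_pos e2]
      norm_num
      linarith
    by_cases e3 : h ^ 3 = 1
    · have : ({u : G | Iv u ∧ u * h * u⁻¹ = (h : G)⁻¹}.ncard : ℚ) ≤ m * 3 := by
        exact_mod_cast hm h (cp.1 e3) hh2
      rw [orderOf_eq_prime e3 hh1, if_pos e3]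
      push_cast
      linarith
    rcases H.H_orders h.2 with e6 | e7
    · have : ({u : G | Iv u ∧ u * h * u⁻¹ = (h : G)⁻¹}.ncard : ℚ) ≤ 6 := by
        exact_mod_cast H.inv_six e6 (by rw [← pow_two, Ne, ← cp]; exact e2) (mt cp.2 e3)
      have h6 : orderOf h = 6 := by
        have := orderOf_dvd_of_pow_eq_one (cp.2 e6)
        rw [← orderOf_dvd_iff_pow_eq_one] at e2 e3
        have a : ∀ n ≤ 6, n ∣ 6 → ¬ n ∣ 2 → ¬ n ∣ 3 → n = 6 := by decide
        exact a _ (Nat.le_of_dvd (by norm_num) this) this e2 e3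
      rw [h6]
      push_cast
      linarith
    · have : ({u : G | Iv u ∧ u * h * u⁻¹ = (h : G)⁻¹}.ncard : ℚ) ≤ c * 7 := by
        exact_mod_cast hc h e7 hh2
      haveI : Fact (Nat.Prime 7) := ⟨by norm_num⟩
      rw [orderOf_eq_prime (cp.2 e7) hh1, if_pos (cp.2 e7)]
      push_cast
      linarith
  have h4 := sum_le_sum h3
  rw [sum_add_distrib, sum_add_distrib, sum_add_distrib, ← sum_filter, ← sum_filter, ← sum_filter,
    sum_const, sum_const, sum_const, sum_const, card_erase_of_mem (mem_univ _), card_univ,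
    ← Nat.card_eq_fintype_card, hK] at h4
  have cf : ∀ k : ℕ, (((univ : Finset K).erase 1).filter fun h => h ^ k = 1).card =
      {y : K | y ^ k = 1 ∧ y ≠ 1}.ncard := fun k => by
    rw [Set.ncard_eq_toFinset_card']
    congr 1
    ext
    simp [and_comm]
  have c2 : {y : K | y ^ 2 = 1 ∧ y ≠ 1}.ncard ≤ 7 := by
    rw [← H.ncard_SS]
    refine Set.ncard_le_ncard_of_injOn Subtype.val (fun y hy => ?_) Subtype.val_injective.injOn
    have : (y : G) ≠ 1 := fun e => hy.2 (Subtype.ext e)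
    exact ⟨H.iv_mem_H ⟨this, by rw [← pow_two, ← Subgroup.coe_pow, hy.1]; rfl⟩ y.2, this⟩
  have c3 : {y : K | y ^ 3 = 1 ∧ y ≠ 1}.ncard ≤ 56 := by
    obtain ⟨P⟩ : Nonempty (Sylow 3 K) := inferInstance
    have a1 := fun P => sylow_card (p := 3) (m := 56) hK (by decide) P
    have a2 := ncard_pow_le fun P => (a1 P).1
    have a3 := (a1 P).2
    have a4 : _ % 3 = 1 := card_sylow_modEq_one 3 K
    have a5 := Nat.le_of_dvd (by norm_num) a3
    have : ∀ n ≤ 56, n ∣ 56 → n % 3 = 1 → n * (3 - 1) ≤ 56 := by decide +kernel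
    exact a2.trans (this _ a5 a3 a4)
  have c7 : {y : K | y ^ 7 = 1 ∧ y ≠ 1}.ncard ≤ 48 := by
    haveI : Fact (Nat.Prime 7) := ⟨by norm_num⟩
    obtain ⟨P⟩ : Nonempty (Sylow 7 K) := inferInstance
    have a1 := fun P => sylow_card (p := 7) (m := 24) hK (by decide) P
    have a2 := ncard_pow_le fun P => (a1 P).1
    have a3 := (a1 P).2
    have a4 : _ % 7 = 1 := card_sylow_modEq_one 7 K
    have a5 := Nat.le_of_dvd (by norm_num) a3
    have : ∀ n ≤ 24, n ∣ 24 → n % 7 = 1 → n * (7 - 1) ≤ 48 := by decide +kernel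
    exact a2.trans (this _ a5 a3 a4)
  rw [cf, cf, cf] at h4
  simp only [nsmul_eq_mul] at h4
  have d2 : ({y : K | y ^ 2 = 1 ∧ y ≠ 1}.ncard : ℚ) ≤ 7 := by exact_mod_cast c2
  have d3 : ({y : K | y ^ 3 = 1 ∧ y ≠ 1}.ncard : ℚ) * m ≤ 56 * m := by
    gcongr; exact_mod_cast c3
  have d7 : ({y : K | y ^ 7 = 1 ∧ y ≠ 1}.ncard : ℚ) * c ≤ 48 * c := by
    gcongr; exact_mod_cast c7
  have : ({u : G | Iv u ∧ u ∉ K}.ncard : ℚ) ≤ K.index + 278 + 56 * m + 48 * c := by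
    rw [show ((168 - 1 : ℕ) : ℚ) = 167 by norm_num] at h4
    linarith
  have : {u : G | Iv u ∧ u ∉ K}.ncard ≤ K.index + 278 + 56 * m + 48 * c := by exact_mod_cast this
  omega

theorem Hyp.card_G [IsSimpleGroup G] : Nat.card G = 175560 := by
  obtain ⟨m3, m5, hm, h3, h5, h3', -⟩ := H.pack
  have h1 := H.ncard_iv
  have h2 := H.ncard_iv_mod
  have h4 := (normalizer (SS φ₀ : Set G)).index_mul_card
  rw [H.card_H] at h4
  obtain ⟨j, r, hr, hJ, hI⟩ := arith1 hm h3 h5 h1 h2 h4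
  have hj : j < 2 := by
    by_cases hz : ∃ z : G, z ^ 7 = 1 ∧ z ≠ 1 ∧ ∃ u, Iv u ∧ u * z * u⁻¹ = z⁻¹
    · obtain ⟨z, ⟨hz7, hz1, u, hu, huz⟩, hmax⟩ := Set.exists_max_image
        {z : G | z ^ 7 = 1 ∧ z ≠ 1 ∧ ∃ u, Iv u ∧ u * z * u⁻¹ = z⁻¹}
        (fun z => Nat.card (centralizer ({z} : Set G))) (Set.toFinite _) hz
      haveI : Fact (Nat.Prime 7) := ⟨by norm_num⟩
      have hco : ∀ {z : G}, z ^ 7 = 1 → z ≠ 1 → (orderOf z).Coprime 30 := fun a b => by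
        rw [orderOf_eq_prime a b]; decide
      obtain ⟨c, hc⟩ : 7 ∣ Nat.card (centralizer ({z} : Set G)) := orderOf_eq_prime hz7 hz1 ▸
        Subgroup.orderOf_dvd_natCard _ (mem_centralizer_singleton_iff.2 rfl)
      have h6 := H.ineq (m := m3 + 1) (c := c) (fun y a b => (h3' y a b).2) fun y a b => by
        by_cases hy : ∃ u, Iv u ∧ u * y * u⁻¹ = y⁻¹
        · obtain ⟨u', hu', hy'⟩ := hy
          rw [H.big_ncard b (hco a b) hu' hy', mul_comm, ← hc]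
          exact hmax y ⟨a, b, u', hu', hy'⟩
        · rw [show {u | Iv u ∧ u * y * u⁻¹ = y⁻¹} = ∅ from Set.eq_empty_of_forall_notMem
            fun u hu => hy ⟨u, hu⟩, Set.ncard_empty]
          exact Nat.zero_le _
      obtain ⟨m, e, e1, e2, e3, e4, e5⟩ := H.big_struct hz1 (hco hz7 hz1) hu huz
      have e6 := H.big_coprime hz1 (hco hz7 hz1)
      rw [hc] at e1 e2 e6
      rw [hJ, hI] at h6
      rw [← h1, hJ] at e1
      exact arith2 hr h6 e1 e2 e3 e4 e5 e6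
    · have h6 := H.ineq (m := m3 + 1) (c := 0) (fun y a b => (h3' y a b).2) fun y a b => by
        rw [show {u | Iv u ∧ u * y * u⁻¹ = y⁻¹} = ∅ from Set.eq_empty_of_forall_notMem
            fun u hu => hz ⟨y, a, b, u, hu⟩, Set.ncard_empty]
      rw [hJ, hI] at h6
      omega
  rw [hJ] at h1
  clear h2 h3 h4 h5 hI hJ hm h3'
  have kill : ∀ p : ℕ, p.Prime → (∀ n ≤ 840, n ∣ 840 → n % p = 1 → n = 1) → ¬ p ∣ 840 →
      120 * j + r ≠ p := fun p hp hn hd e => by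
    obtain ⟨n, a1, a2, a3⟩ := sylow_kill (G := G) hp (m := 840) (by omega) hd (by decide)
    exact a3 (hn n (Nat.le_of_dvd (by norm_num) a1) a1 a2)
  have k1 := kill 73 (by norm_num) (by decide +kernel) (by decide)
  have k2 := kill 89 (by norm_num) (by decide +kernel) (by decide)
  have k3 := kill 193 (by norm_num) (by decide +kernel) (by decide)
  omega

end Cfsg.Agent.Lib.Root.J1
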