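import Cfsg.Agent.Lib.Root.J1e

set_option autoImplicit false

/-! # From the isomorphism type of the centraliser to the basic hypothesis -/

namespace Cfsg.Agent.Lib.Root.J1

open Subgroup

theorem exists_hyp {G : Type*} [Group G] [Finite G] [IsSimpleGroup G] {t : G} (ht : orderOf t = 2)
    (P : Sylow 2 G) (hP : ∀ x ∈ P, x * t = t * x)
    (e : centralizer ({t} : Set G) ≃* MM) : ∃ φ, Hyp t φ := by
  let φ : T →* G := (centralizer ({t} : Set G)).subtype.comp (TM.trans e.symm).toMonoidHom
  have h1 : ∀ g, g * t = t * g → ∃ a, φ a = g := fun g hg =>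
    ⟨(TM.trans e.symm).symm ⟨g, mem_centralizer_singleton_iff.2 hg⟩, by simp [φ]⟩
  have h2 : Function.Injective φ := Subtype.val_injective.comp (TM.trans e.symm).injective
  have h3 : ∀ a, φ a * t = t * φ a := fun a =>
    mem_centralizer_singleton_iff.1 ((TM.trans e.symm) a).2
  have h4 : Emb t φ := by
    refine ⟨h2, ?_, h1⟩
    obtain ⟨a, ha⟩ := h1 t rfl
    rcases T_central a (fun b => h2 (by rw [map_mul, map_mul, ha, h3])) with rfl | rfl
    · rw [← ha, map_one, orderOf_one] at ht
      omega
    · exact ha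
  have h5 : ¬ 16 ∣ Nat.card G := fun h => by
    have h6 : Nat.card (P : Subgroup G) ∣ 120 := h4.card_cent ▸
      card_dvd_of_le fun x hx => mem_centralizer_singleton_iff.2 (hP x hx)
    have h7 : 2 ^ 4 ∣ Nat.card P := by
      rw [P.card_eq_multiplicity]
      exact pow_dvd_pow _ ((Nat.prime_two.pow_dvd_iff_le_factorization Nat.card_pos.ne').1 h)
    exact absurd (h7.trans h6) (by decide)
  exact ⟨φ, h4, h5, h4.fuse h5⟩

end Cfsg.Agent.Lib.Root.J1
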