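import Cfsg.Agent.Lib.Root.Unip
import Cfsg.Agent.Lib.Root.Gen2

set_option autoImplicit false

/-! Quadratic pairs: square-zero endomorphisms with scalar family in `G`. -/

namespace Cfsg.Agent.Lib.Root

open Cfsg Polynomial

section generic

variable {C R : Type*} [CommRing C] [Ring R] [Module C R] [IsScalarTower C R R]

/-- two square-zero elements whose anticommutator is the scalar `T` -/
structure Ctx (x y : R) (T : C) : Prop where
  hx : ∀ (c : C) (r : R), x * (c • r) = c • (x * r)
  hy : ∀ (c : C) (r : R), y * (c • r) = c • (y * r)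
  xx : x * x = 0
  yy : y * y = 0
  hT : x * y + y * x = T • (1 : R)

variable {x y : R} {T : C}

theorem Ctx.xx' (h : Ctx x y T) (r : R) : x * (x * r) = 0 := by rw [← mul_assoc, h.xx, zero_mul]
theorem Ctx.yy' (h : Ctx x y T) (r : R) : y * (y * r) = 0 := by rw [← mul_assoc, h.yy, zero_mul]
theorem Ctx.xyx' (h : Ctx x y T) (r : R) : x * (y * (x * r)) = T • (x * r) := by
  have := congrArg (· * (x * r)) h.hT
  simpa only [add_mul, mul_assoc, h.xx', mul_zero, add_zero, smul_mul_assoc, one_mul] using this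
theorem Ctx.yxy' (h : Ctx x y T) (r : R) : y * (x * (y * r)) = T • (y * r) := by
  have := congrArg (· * (y * r)) h.hT
  simpa only [add_mul, mul_assoc, h.yy', mul_zero, zero_add, smul_mul_assoc, one_mul] using this
theorem Ctx.xyx (h : Ctx x y T) : x * (y * x) = T • x := by simpa using h.xyx' 1
theorem Ctx.yxy (h : Ctx x y T) : y * (x * y) = T • y := by simpa using h.yxy' 1

/-- normalize products of `x`, `y` and scalars -/
macro "ctx_simp " h:term : tactic => `(tactic|
  simp only [mul_add, add_mul, mul_sub, sub_mul, smul_mul_assoc, mul_assoc, Ctx.hx $h, Ctx.hy $h,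
    Ctx.xx $h, Ctx.xx' $h, Ctx.yy $h, Ctx.yy' $h, Ctx.xyx $h, Ctx.xyx' $h, Ctx.yxy $h, Ctx.yxy' $h,
    mul_one, one_mul, smul_zero, mul_zero, zero_mul, mul_neg, neg_mul])

/-- the action of `g` on `x` -/
structure Rel (x y : R) (g gi : R) (p s : C) : Prop where
  hg : ∀ (c : C) (r : R), g * (c • r) = c • (g * r)
  left : g * x = p • x + s • (y * x)
  right : x * gi = p • x - s • (x * y)

variable {g gi : R} {p s : C}

theorem rel_one : Rel x y 1 1 (1 : C) 0 := ⟨by simp, by simp, by simp⟩

theorem Rel.moveX (h : Ctx x y T) (r : Rel x y g gi p s) (l : C) :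
    Rel x y ((1 + l • x) * g) (gi * (1 - l • x)) (p + l * T * s) s := by
  refine ⟨fun c a => ?_, ?_, ?_⟩
  · rw [mul_assoc, r.hg]; ctx_simp h; module
  · rw [mul_assoc, r.left]; ctx_simp h; module
  · rw [← mul_assoc, r.right]; ctx_simp h; module

theorem Rel.moveY (h : Ctx x y T) (r : Rel x y g gi p s) (l : C) :
    Rel x y ((1 + l • y) * g) (gi * (1 - l • y)) p (s + l * p) := by
  refine ⟨fun c a => ?_, ?_, ?_⟩
  · rw [mul_assoc, r.hg]; ctx_simp h; module
  · rw [mul_assoc, r.left]; ctx_simp h; module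
  · rw [← mul_assoc, r.right]; ctx_simp h; module

theorem Rel.conj (h : Ctx x y T) (r : Rel x y g gi p s) :
    g * x * gi = (p * p) • x - (p * s) • (x * y) + (p * s) • (y * x) - (s * s * T) • y := by
  rw [r.left, add_mul, smul_mul_assoc, smul_mul_assoc, mul_assoc, r.right]; ctx_simp h; module

theorem Rel.mul_conj (h : Ctx x y T) (r : Rel x y g gi p s) :
    x * (g * x * gi) = p • (T * s) • x - s • ((T * s) • x * y) := by
  rw [r.conj h]; ctx_simp h; module

theorem Rel.conj_mul (h : Ctx x y T) (r : Rel x y g gi p s) :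
    (g * x * gi) * x = -p • (T * s) • x - s • (y * (T * s) • x) := by
  rw [r.conj h]; ctx_simp h; module

theorem Rel.anticomm (h : Ctx x y T) (r : Rel x y g gi p s) :
    x * (g * x * gi) + (g * x * gi) * x = (-(T * s) ^ 2) • (1 : R) := by
  have : (-(T * s) ^ 2) • (1 : R) = (-(T * s * s)) • (T • (1 : R)) := by module
  rw [r.mul_conj h, r.conj_mul h, this, ← h.hT]; ctx_simp h; module

end generic

section basic

variable {k : Type*} [Field k] {M : Type*} [AddCommGroup M] [Module k M]
  {G : Subgroup (GLM k M)} {x y u v w a b : Module.End k M}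

/-- the endomorphism `r` belongs to `G` -/
def InG (G : Subgroup (GLM k M)) (r : Module.End k M) : Prop := ∃ g ∈ G, (g : Module.End k M) = r

theorem InG.mul (h1 : InG G a) (h2 : InG G b) : InG G (a * b) := by
  obtain ⟨g, hg, rfl⟩ := h1
  obtain ⟨h, hh, rfl⟩ := h2
  exact ⟨g * h, G.mul_mem hg hh, rfl⟩

theorem inG_of_mem {g : GLM k M} (h : g ∈ G) : InG G g := ⟨g, h, rfl⟩

theorem InG.inv (h1 : InG G a) (h : a * b = 1) : InG G b := by
  obtain ⟨g, hg, rfl⟩ := h1
  exact ⟨g⁻¹, G.inv_mem hg, Units.inv_eq_of_mul_eq_one_right h⟩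

theorem InG.comm (h1 : InG G a) (h : a * b = 1) : b * a = 1 := by
  obtain ⟨g, hg, rfl⟩ := h1
  rw [← Units.inv_eq_of_mul_eq_one_right h, Units.inv_mul]

/-- square-zero endomorphisms `x` with `1 + c x ∈ G` for all scalars `c` -/
def Nz (G : Subgroup (GLM k M)) (x : Module.End k M) : Prop :=
  x * x = 0 ∧ ∀ c : k, InG G (1 + c • x)

/-- the rank of an endomorphism -/
noncomputable def rk (x : Module.End k M) : ℕ := Module.finrank k (LinearMap.range x)

/-- the non-zero members of `Nz G` of minimal rank -/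
def Nd (G : Subgroup (GLM k M)) (x : Module.End k M) : Prop :=
  Nz G x ∧ x ≠ 0 ∧ ∀ y, Nz G y → y ≠ 0 → rk x ≤ rk y

theorem Nz.sq (h : Nz G x) : x * x = 0 := h.1
theorem Nz.sq' (h : Nz G x) (r : Module.End k M) : x * (x * r) = 0 := by
  rw [← mul_assoc, h.1, zero_mul]

theorem nz_zero : Nz G 0 := ⟨by simp, fun c => ⟨1, G.one_mem, by simp⟩⟩

theorem Nz.smul (h : Nz G x) (c : k) : Nz G (c • x) :=
  ⟨by simp [h.1], fun d => by rw [smul_smul]; exact h.2 _⟩

theorem Nz.neg (h : Nz G x) : Nz G (-x) := by simpa using h.smul (-1)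

theorem Nz.of_smul {c : k} (hc : c ≠ 0) (h : Nz G (c • x)) : Nz G x := by
  simpa [smul_smul, hc] using h.smul c⁻¹

theorem Nz.add (h1 : Nz G x) (h2 : Nz G y) (e1 : x * y = 0) (e2 : y * x = 0) : Nz G (x + y) := by
  refine ⟨by simp [mul_add, add_mul, h1.1, h2.1, e1, e2], fun c => ?_⟩
  convert (h1.2 c).mul (h2.2 c) using 1
  simp [mul_add, add_mul, e1, add_assoc]

theorem Nz.sub (h1 : Nz G x) (h2 : Nz G y) (e1 : x * y = 0) (e2 : y * x = 0) : Nz G (x - y) := by
  rw [sub_eq_add_neg]; exact h1.add h2.neg (by simp [e1]) (by simp [e2])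

theorem Nz.one_add (h : Nz G x) : InG G (1 + x) := by simpa using h.2 1
theorem Nz.one_sub (h : Nz G x) : InG G (1 - x) := by simpa [sub_eq_add_neg] using h.2 (-1)
theorem Nz.add_mul_sub (h : Nz G x) : (1 + x) * (1 - x) = 1 := by simp [mul_sub, add_mul, h.1]
theorem Nz.sub_mul_add (h : Nz G x) : (1 - x) * (1 + x) = 1 := by simp [mul_add, sub_mul, h.1]

theorem Nz.conj (h : Nz G x) (ha : InG G a) (hab : a * b = 1) : Nz G (a * x * b) := by
  have hba := ha.comm hab
  refine ⟨?_, fun c => ?_⟩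
  · calc a * x * b * (a * x * b) = a * x * (b * a) * x * b := by simp only [mul_assoc]
      _ = 0 := by rw [hba, mul_one, mul_assoc a, h.1]; simp
  · convert (ha.mul (h.2 c)).mul (ha.inv hab) using 1
    simp [mul_add, add_mul, hab]

theorem Nz.comm (h1 : Nz G u) (h2 : Nz G v) (e1 : u * (v * u) = 0) (e2 : v * (u * v) = 0) :
    Nz G (u * v - v * u) := by
  have e1' : ∀ r, u * (v * (u * r)) = 0 := fun r => by rw [← mul_assoc v, ← mul_assoc, e1, zero_mul]
  have e2' : ∀ r, v * (u * (v * r)) = 0 := fun r => by rw [← mul_assoc u, ← mul_assoc, e2, zero_mul]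
  refine ⟨by simp [mul_sub, sub_mul, mul_assoc, h1.sq', h2.sq', e1', e2'], fun c => ?_⟩
  convert (((h1.2 c).mul h2.one_add).mul (h1.2 (-c))).mul h2.one_sub using 1
  simp only [mul_sub, sub_mul, mul_add, add_mul, mul_assoc, h1.sq', h2.sq', h1.sq, h2.sq, e1', e2',
    e1, e2, mul_one, one_mul, smul_mul_assoc, mul_smul_comm, smul_zero, mul_zero, neg_smul,
    mul_neg, neg_mul, zero_mul]
  module

theorem rk_mul_le_left [FiniteDimensional k M] (a b : Module.End k M) : rk (a * b) ≤ rk a :=
  Submodule.finrank_mono (LinearMap.range_comp_le_range b a)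

theorem rk_add_ker [FiniteDimensional k M] (a : Module.End k M) :
    rk a + Module.finrank k (LinearMap.ker a) = Module.finrank k M :=
  LinearMap.finrank_range_add_finrank_ker a

theorem rk_le_of_ker_le [FiniteDimensional k M] (h : LinearMap.ker a ≤ LinearMap.ker b) :
    rk b ≤ rk a := by
  have := Submodule.finrank_mono h
  have := rk_add_ker a
  have := rk_add_ker b
  omega

theorem ker_mul_ge (a b : Module.End k M) : LinearMap.ker b ≤ LinearMap.ker (a * b) :=
  LinearMap.ker_le_ker_comp b a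

theorem rk_mul_le_right [FiniteDimensional k M] (a b : Module.End k M) : rk (a * b) ≤ rk b :=
  rk_le_of_ker_le (ker_mul_ge a b)

theorem ker_eq_of_rk_le [FiniteDimensional k M] (h : LinearMap.ker a ≤ LinearMap.ker b)
    (h' : rk a ≤ rk b) : LinearMap.ker b = LinearMap.ker a := by
  refine (Submodule.eq_of_le_of_finrank_le h ?_).symm
  have := rk_add_ker a
  have := rk_add_ker b
  omega

theorem rk_conj [FiniteDimensional k M] (hba : b * a = 1) : rk x ≤ rk (a * x * b) := by
  have : x = b * (a * x * b) * a := by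
    calc x = (b * a) * x * (b * a) := by simp [hba]
      _ = _ := by simp only [mul_assoc]
  conv_lhs => rw [this]
  exact (rk_mul_le_left _ _).trans (rk_mul_le_right _ _)

variable [FiniteDimensional k M]

theorem Nd.of_rk_le (h : Nd G x) (hw : Nz G w) (h0 : w ≠ 0) (hle : rk w ≤ rk x) : Nd G w :=
  ⟨hw, h0, fun y hy hy0 => hle.trans (h.2.2 y hy hy0)⟩

theorem Nd.rk_eq (h : Nd G x) (h' : Nd G y) : rk x = rk y :=
  le_antisymm (h.2.2 y h'.1 h'.2.1) (h'.2.2 x h.1 h.2.1)

theorem Nd.conj (h : Nd G x) (ha : InG G a) (hab : a * b = 1) : Nd G (a * x * b) := by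
  refine h.of_rk_le (h.1.conj ha hab) (fun e => h.2.1 ?_)
    ((rk_mul_le_left _ _).trans (rk_mul_le_right _ _))
  have hba := ha.comm hab
  calc x = (b * a) * x * (b * a) := by simp [hba]
    _ = b * (a * x * b) * a := by simp only [mul_assoc]
    _ = 0 := by simp [e]

theorem Nd.ker_eq (h : Nd G x) (hw : Nz G w) (h0 : w ≠ 0) (hle : LinearMap.ker x ≤ LinearMap.ker w) :
    LinearMap.ker w = LinearMap.ker x := ker_eq_of_rk_le hle (h.2.2 w hw h0)

theorem Nd.range_eq (h : Nd G x) (hw : Nz G w) (h0 : w ≠ 0)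
    (hle : LinearMap.range w ≤ LinearMap.range x) : LinearMap.range w = LinearMap.range x :=
  Submodule.eq_of_le_of_finrank_le hle (h.2.2 w hw h0)

theorem Nd.smul (h : Nd G x) {c : k} (hc : c ≠ 0) : Nd G (c • x) :=
  h.of_rk_le (h.1.smul c) (smul_ne_zero hc h.2.1) (rk_le_of_ker_le fun m hm => by simp_all)

theorem Nd.neg (h : Nd G x) : Nd G (-x) := by simpa using h.smul (c := -1) (by simp)

theorem mul_eq_zero_of_ker_le (h : LinearMap.ker a ≤ LinearMap.ker b) {r : Module.End k M}
    (e : a * r = 0) : b * r = 0 := by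
  ext m
  exact h (LinearMap.congr_fun e m)

omit [FiniteDimensional k M] in
theorem anticomm_cj (hx : Nz G x) (hy : Nz G y) :
    x * ((1 + y) * x * (1 - y)) + ((1 + y) * x * (1 - y)) * x =
      -((x * y + y * x) * (x * y + y * x)) := by
  simp only [mul_sub, sub_mul, mul_add, add_mul, mul_assoc, hx.sq', hy.sq', hx.sq, hy.sq,
    mul_one, one_mul, mul_zero]
  abel

theorem xyx_eq_zero_of_nilpotent (hk2 : ringChar k ≠ 2) (hx : Nd G x) (hy : Nz G y)
    (hn : IsNilpotent (x * y + y * x)) : x * (y * x) = 0 := by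
  obtain ⟨n, hn⟩ := hn
  induction n using Nat.strong_induction_on generalizing x y with
  | _ n ih =>
  by_cases h1 : n ≤ 1
  · have : x * y + y * x = 0 := by simpa using pow_eq_zero_of_le h1 hn
    have := congrArg (· * x) this
    simpa [add_mul, mul_assoc, hx.1.sq] using this
  have key : ∀ y, Nz G y → (x * y + y * x) ^ n = 0 →
      x * (y * (x * (y * x))) = 0 ∧ Nz G ((2 : k) • (x * (y * x)) -
        (x * (y * (x * y)) - y * (x * (y * x)))) := by
    intro y hy hn
    have hx' := hx.conj hy.one_add hy.add_mul_sub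
    have e := anticomm_cj hx.1 hy
    have hn' : (-((x * y + y * x) * (x * y + y * x))) ^ (n - 1) = 0 := by
      rw [neg_pow, ← pow_two, ← pow_mul, pow_eq_zero_of_le (show n ≤ 2 * (n - 1) by omega) hn,
        mul_zero]
    have e1 := ih (n - 1) (by omega) hx hx'.1 (by rwa [e])
    have e2 := ih (n - 1) (by omega) hx' hx.1 (by rwa [add_comm, e])
    refine ⟨?_, ?_⟩
    · simpa [mul_sub, sub_mul, mul_add, add_mul, mul_assoc, hx.1.sq', hx.1.sq] using e1
    · convert hx.1.comm hx'.1 e1 e2 using 1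
      simp only [mul_sub, sub_mul, mul_add, add_mul, mul_assoc, hx.1.sq', hy.sq', hx.1.sq, hy.sq,
        mul_one, one_mul, mul_zero]
      module
  obtain ⟨e, w1⟩ := key y hy hn
  obtain ⟨-, w2⟩ := key (-y) hy.neg (by
    rw [mul_neg, neg_mul, ← neg_add, neg_pow, hn, mul_zero])
  have e' : ∀ r, x * (y * (x * (y * (x * r)))) = 0 := fun r => by
    simpa only [mul_assoc, zero_mul] using congrArg (· * r) e
  have w3 := w1.sub w2
    (by simp [mul_sub, sub_mul, mul_add, add_mul, mul_assoc, hx.1.sq', hy.sq', e, e'])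
    (by simp [mul_sub, sub_mul, mul_add, add_mul, mul_assoc, hx.1.sq', hy.sq', e, e'])
  have h2 : (2 : k) ≠ 0 := Ring.two_ne_zero hk2
  have w4 : Nz G (x * (y * x)) := by
    refine Nz.of_smul (mul_ne_zero h2 h2) ?_
    convert w3 using 1
    simp only [mul_neg, neg_mul, neg_neg]
    module
  by_contra h0
  have := hx.ker_eq w4 h0 (by rw [← mul_assoc]; exact ker_mul_ge _ _)
  exact h0 (mul_eq_zero_of_ker_le this.le (by simpa only [mul_assoc] using e))

end basic

end Cfsg.Agent.Lib.Root
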