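import Cfsg.Agent.Lib.Root.Quad1

set_option autoImplicit false

/-! Quadratic pairs: two minimal quadratic elements generate a unipotent group or `SL₂(K)`. -/

namespace Cfsg.Agent.Lib.Root

open Cfsg Polynomial

variable {k : Type*} [Field k] {M : Type*} [AddCommGroup M] [Module k M]
  {G : Subgroup (GLM k M)} {x y z u v w a b : Module.End k M}

/-- the `k[X]`-module structure on endomorphisms given by left multiplication with `z` -/
@[reducible] noncomputable def polyMod (z : Module.End k M) : Module k[X] (Module.End k M) :=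
  Module.compHom _ (aeval z : k[X] →ₐ[k] Module.End k M).toRingHom

theorem polyTower (z : Module.End k M) :
    letI := polyMod z; IsScalarTower k[X] (Module.End k M) (Module.End k M) :=
  letI := polyMod z; ⟨fun _ _ _ => mul_assoc _ _ _⟩

theorem commute_aeval (h : Commute x z) (p : k[X]) : Commute x (aeval z p) :=
  Algebra.commute_of_mem_adjoin_singleton_of_commute (aeval_mem_adjoin_singleton k z) h

theorem exists_sq_ne_one (hk2 : ringChar k ≠ 2) (hk3 : Nat.card k ≠ 3) :
    ∃ t : k, t ≠ 0 ∧ t * t ≠ 1 := by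
  classical
  by_contra h
  push Not at h
  have hsub : (Set.univ : Set k) ⊆ ({0, 1, -1} : Finset k) := by
    intro t _
    by_cases ht : t = 0
    · simp [ht]
    · rcases mul_self_eq_one_iff.1 (h t ht) with e | e <;> simp [e]
  have hfin : Finite k := Set.finite_univ_iff.1 ((Finset.finite_toSet _).subset hsub)
  have h5 := five_le_card hk2 hk3
  have := Set.ncard_le_ncard hsub (Finset.finite_toSet _)
  rw [Set.ncard_univ, Set.ncard_coe_finset] at this
  have := Finset.card_le_three (a := (0 : k)) (b := 1) (c := -1)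
  omega

section mod

variable [Module k[X] (Module.End k M)] [IsScalarTower k[X] (Module.End k M) (Module.End k M)]
  (hsm : ∀ (p : k[X]) (r : Module.End k M), p • r = aeval z p * r)
include hsm

theorem ctx_of (hx : Nz G x) (hy : Nz G y) (hz : x * y + y * x = z) : Ctx x y (X : k[X]) := by
  have c1 : Commute x z := by
    rw [← hz]; simp [Commute, SemiconjBy, mul_add, add_mul, mul_assoc, hx.sq', hx.sq]
  have c2 : Commute y z := by
    rw [← hz]; simp [Commute, SemiconjBy, mul_add, add_mul, mul_assoc, hy.sq', hy.sq]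
  refine ⟨fun c r => ?_, fun c r => ?_, hx.1, hy.1, by simp [hsm, hz]⟩
  · rw [hsm, hsm, ← mul_assoc, (commute_aeval c1 c).eq, mul_assoc]
  · rw [hsm, hsm, ← mul_assoc, (commute_aeval c2 c).eq, mul_assoc]

theorem C_smul_eq (c : k) (r : Module.End k M) : (C c : k[X]) • r = c • r := by
  rw [hsm, aeval_C, Algebra.smul_def]

theorem X_smul_eq (r : Module.End k M) : (X : k[X]) • r = z * r := by rw [hsm, aeval_X]

theorem exists_irr [FiniteDimensional k M] (hu : u ≠ 0) :
    ∃ f μ : k[X], Irreducible f ∧ μ • u ≠ 0 ∧ f • μ • u = 0 := by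
  have key : ∀ P : k[X], P ≠ 0 → P • u = 0 →
      ∃ f μ : k[X], Irreducible f ∧ μ • u ≠ 0 ∧ f • μ • u = 0 := by
    intro P
    induction P using WfDvdMonoid.induction_on_irreducible with
    | zero => intro h; exact absurd rfl h
    | unit P hP =>
      intro _ h
      exact absurd (hP.smul_eq_zero.1 h) hu
    | mul P f hP hf ih =>
      intro _ h
      by_cases h1 : P • u = 0
      · exact ih hP h1
      · exact ⟨f, P, hf, h1, by rwa [smul_smul]⟩
  have hi : IsIntegral k z := Algebra.IsIntegral.isIntegral z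
  exact key _ (minpoly.ne_zero hi) (by rw [hsm, minpoly.aeval, zero_mul])

theorem exists_zeta [FiniteDimensional k M] (h : ∀ r : Module.End k M, z * (z * r) = 0 → z * r = 0) :
    ∃ q : k[X], ∀ r : Module.End k M, (q * X * X) • r = (X : k[X]) • r := by
  have hi : IsIntegral k z := Algebra.IsIntegral.isIntegral z
  obtain ⟨P, h1, h2⟩ := exists_eq_pow_rootMultiplicity_mul_and_not_dvd _ (minpoly.ne_zero hi) 0
  rw [C_0, sub_zero] at h1 h2
  have h3 : ∀ j : ℕ, ∀ r : Module.End k M, (X ^ j : k[X]) • r = 0 → (X : k[X]) • r = 0 := by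
    intro j
    induction j with
    | zero => intro r hr; rw [pow_zero, one_smul] at hr; simp [hr]
    | succ j ih =>
      intro r hr
      rw [pow_succ, mul_smul] at hr
      have := ih _ hr
      rw [X_smul_eq hsm, X_smul_eq hsm] at this
      rw [X_smul_eq hsm, h r this]
  obtain ⟨q, q', e⟩ := (irreducible_X.coprime_iff_not_dvd.2 h2 : IsCoprime X P)
  refine ⟨q, fun r => ?_⟩
  have h4 := h3 _ (P • r) (by rw [smul_smul, ← h1, hsm, minpoly.aeval, zero_mul])
  calc (q * X * X) • r = (q * X * X) • r + q' • (X : k[X]) • P • r := by rw [h4, smul_zero, add_zero]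
    _ = ((q * X + q' * P) * X) • r := by module
    _ = _ := by rw [e, one_mul]

theorem exists_rel (hk2 : ringChar k ≠ 2) (hk3 : Nat.card k ≠ 3) (hx : Nz G x) (hy : Nz G y)
    (ctx : Ctx x y (X : k[X])) {f : k[X]} [hf : Fact (Irreducible f)] (hX : ¬ f ∣ X)
    (t : AdjoinRoot f) (ht : t ≠ 0) :
    ∃ a b : Module.End k M, ∃ p s : k[X], InG G a ∧ a * b = 1 ∧ Rel x y a b p s ∧
      IsCoprime p (X * s) ∧ p.eval 0 = 1 ∧ AdjoinRoot.mk f p = t ∧ f ∣ s := by
  let P : Matrix.SpecialLinearGroup (Fin 2) (AdjoinRoot f) → Prop := fun h =>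
    ∃ a b : Module.End k M, ∃ p s : k[X], InG G a ∧ a * b = 1 ∧ Rel x y a b p s ∧
      IsCoprime p (X * s) ∧ p.eval 0 = 1 ∧ AdjoinRoot.mk f p = h 0 0 ∧
      AdjoinRoot.mk f (X * s) = h 1 0
  let H : Subgroup (Matrix.SpecialLinearGroup (Fin 2) (AdjoinRoot f)) :=
    { carrier := {h | (∀ h', P h' → P (h * h')) ∧ (∀ h', P h' → P (h⁻¹ * h'))}
      one_mem' := ⟨fun h' h => by simpa using h, fun h' h => by simpa using h⟩
      mul_mem' := fun {a b} ha hb => ⟨fun h' h => by rw [mul_assoc]; exact ha.1 _ (hb.1 _ h),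
        fun h' h => by rw [mul_inv_rev, mul_assoc]; exact hb.2 _ (ha.2 _ h)⟩
      inv_mem' := fun {a} ha => ⟨ha.2, by simpa using ha.1⟩ }
  have hu : ∀ c : k, ∀ h, P h → P (xu (algebraMap k _ c) * h) := by
    rintro c h ⟨a, b, p, s, h1, h2, h3, h4, h5, h6, h7⟩
    refine ⟨_, _, _, _, ?_, ?_, h3.moveX ctx (C c), ?_, by simpa using h5, ?_, ?_⟩
    · rw [C_smul_eq hsm]; exact (hx.2 c).mul h1
    · rw [mul_assoc, ← mul_assoc a, h2, one_mul, C_smul_eq hsm]; exact (hx.smul c).add_mul_sub
    · rw [mul_assoc]; exact h4.add_mul_right_left _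
    · rw [mul_assoc, map_add, map_mul, h6, h7]
      simp [Matrix.mul_apply, Fin.sum_univ_two]
    · rw [h7]; simp [Matrix.vecMul, dotProduct]
  have hl : ∀ c : k, ∀ h, P h → P (xl (algebraMap k _ c * AdjoinRoot.root f) * h) := by
    rintro c h ⟨a, b, p, s, h1, h2, h3, h4, h5, h6, h7⟩
    refine ⟨_, _, _, _, ?_, ?_, h3.moveY ctx (C c), ?_, h5, ?_, ?_⟩
    · rw [C_smul_eq hsm]; exact (hy.2 c).mul h1
    · rw [mul_assoc, ← mul_assoc a, h2, one_mul, C_smul_eq hsm]; exact (hy.smul c).add_mul_sub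
    · rw [mul_add, ← mul_assoc]; exact h4.add_mul_right_right _
    · rw [h6]; simp [Matrix.vecMul, dotProduct]
    · rw [mul_add, map_add, h7, map_mul, map_mul, h6]
      simp [Matrix.mul_apply, Fin.sum_univ_two]
      ring
  have h0 : AdjoinRoot.root f ≠ 0 := by
    rw [← AdjoinRoot.mk_X, Ne, AdjoinRoot.mk_eq_zero]; exact hX
  have hH : H = ⊤ := by
    refine sl2_closure_eq_top hk2 hk3 (AdjoinRoot.powerBasis hf.out.ne_zero) h0 H
      (fun c => ⟨hu c, ?_⟩) (fun c => ⟨hl c, ?_⟩)
    · rw [← stRel_sl2.x_neg, ← map_neg]; exact hu _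
    · rw [← stRel_sl2.y_neg, ← neg_mul, ← map_neg]; exact hl _
  let d : Matrix.SpecialLinearGroup (Fin 2) (AdjoinRoot f) :=
    ⟨!![t, 0; 0, t⁻¹], by simp [Matrix.det_fin_two, ht]⟩
  have hd : d ∈ H := hH ▸ trivial
  obtain ⟨a, b, p, s, h1, h2, h3, h4, h5, h6, h7⟩ := hd.1 1
    ⟨1, 1, 1, 0, ⟨1, G.one_mem, rfl⟩, one_mul _, rel_one, isCoprime_one_left, by simp, by simp, by simp⟩
  rw [mul_one] at h6 h7
  refine ⟨a, b, p, s, h1, h2, h3, h4, h5, h6, ?_⟩
  have : AdjoinRoot.mk f (X * s) = 0 := h7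
  exact (hf.out.prime.dvd_or_dvd (AdjoinRoot.mk_eq_zero.1 this)).resolve_left hX

theorem ts_zero [FiniteDimensional k M] (hk2 : ringChar k ≠ 2) (hx : Nd G x)
    (ctx : Ctx x y (X : k[X])) {p s : k[X]} (ha : InG G a) (hab : a * b = 1) (r : Rel x y a b p s)
    (hc : IsCoprime p (X * s)) (h0 : (X * s * s) • x = 0) {μ : k[X]} (h1 : μ • x ≠ 0)
    (h2 : (X * s) • μ • x = 0) : (X * s) • x = 0 := by
  have hx' := hx.conj ha hab
  have h0' : s • (X * s) • x = 0 := by rw [smul_smul, mul_comm, h0]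
  have e1 : x * (a * x * b) = p • (X * s) • x := by
    rw [r.mul_conj ctx, ← smul_mul_assoc, h0', zero_mul, sub_zero]
  have e2 : (a * x * b) * x = -p • (X * s) • x := by
    rw [r.conj_mul ctx, ← ctx.hy, h0', mul_zero, sub_zero]
  have hw := hx.1.comm hx'.1 (by rw [e2]; ctx_simp ctx) (by
    rw [e1, r.conj ctx]
    have : (X * s * s) • (y * x) = 0 := by rw [← ctx.hy, h0, mul_zero]
    ctx_simp ctx
    calc _ = (-(p * p * X)) • (X * s * s) • x - (p * X * s) • (X * s * s) • (y * x) := by module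
      _ = 0 := by rw [h0, this]; simp)
  rw [e1, e2, neg_smul, sub_neg_eq_add, ← two_smul k] at hw
  have hw' := hw.of_smul (Ring.two_ne_zero hk2)
  have h3 : p • (X * s) • x = 0 := by
    by_contra hne
    have := hx.ker_eq hw' hne (by
      rw [smul_smul, ← one_mul x, ← smul_mul_assoc]; exact ker_mul_ge _ _)
    apply h1
    have h4 := mul_eq_zero_of_ker_le this.le (r := μ • 1) (by
      ctx_simp ctx
      rw [h2, smul_zero])
    rwa [ctx.hx, mul_one] at h4
  obtain ⟨c, d, e⟩ := hc
  calc (X * s) • x = ((c * p + d * (X * s)) * (X * s)) • x := by rw [e, one_mul]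
    _ = c • p • (X * s) • x + (d * X) • (X * s * s) • x := by module
    _ = 0 := by rw [h3, h0]; simp

theorem inj_of_reduced [FiniteDimensional k M] (hk2 : ringChar k ≠ 2) (hk3 : Nat.card k ≠ 3)
    (hx : Nd G x) (hy : Nz G y) (hz : x * y + y * x = z)
    (h1 : ∀ r : Module.End k M, z * (z * r) = 0 → z * r = 0)
    (h2 : ∀ r : Module.End k M, z * r = 0 → y * r = x * r) (h3 : z * x ≠ 0)
    (ih : ∀ y', Nz G y' → LinearMap.ker z < LinearMap.ker (x * y' + y' * x) →
      (x * y' + y' * x) * x = 0 ∨ LinearMap.ker ((x * y' + y' * x) * x) = LinearMap.ker x) :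
    LinearMap.ker (z * x) = LinearMap.ker x := by
  have ctx := ctx_of hsm hx.1 hy hz
  simp only [← X_smul_eq hsm] at h1 h2 h3
  obtain ⟨f, μ, hf, v0, v1⟩ := exists_irr hsm h3
  have := Fact.mk hf
  have hX : ¬ f ∣ X := by
    rintro ⟨c, hc⟩
    apply v0
    rw [smul_comm]
    apply h1
    calc (X : k[X]) • (X : k[X]) • μ • x = (f * c) • (X : k[X]) • μ • x := by rw [← hc]
      _ = c • f • μ • (X : k[X]) • x := by module
      _ = 0 := by rw [v1, smul_zero]
  obtain ⟨t, t0, t1⟩ := exists_sq_ne_one hk2 hk3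
  obtain ⟨a, b, p, s, ha, hab, r, hc, p0, pt, ⟨s', hs⟩⟩ := exists_rel hsm hk2 hk3 hx.1 hy ctx hX
    (algebraMap k _ t) (by simpa using t0)
  have hx' := hx.conj ha hab
  have v2 : s • μ • (X : k[X]) • x = 0 := by rw [hs, mul_comm, mul_smul, v1, smul_zero]
  have k1 : (X * s * s) • x = 0 := by
    have e := r.anticomm ctx
    rcases ih _ hx'.1 (by
      rw [e]
      refine lt_of_le_of_ne ?_ fun e' => v0 ?_
      · have : (-(X * s) ^ 2) • (1 : Module.End k M) = (-(X * s * s)) • (1 : Module.End k M) * z := by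
          rw [← mul_one z, ← X_smul_eq hsm, smul_mul_assoc, one_mul]; module
        rw [this]; exact ker_mul_ge _ _
      · have := mul_eq_zero_of_ker_le e'.ge (r := μ • (X : k[X]) • x) (by
          rw [smul_mul_assoc, one_mul]
          calc _ = (-(X * X * s)) • s • μ • (X : k[X]) • x := by module
            _ = 0 := by rw [v2, smul_zero])
        rw [← X_smul_eq hsm, smul_comm μ] at this
        rw [smul_comm, h1 _ this]) with h | h
    · rw [e, smul_mul_assoc, one_mul] at h
      have := h1 ((s * s) • x) (by rw [← neg_eq_zero, ← h]; module)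
      rw [← this]; module
    · exfalso
      apply v0
      have := mul_eq_zero_of_ker_le h.le (r := μ • (X : k[X]) • 1) (by
        rw [e]
        ctx_simp ctx
        calc _ = (-(X * X * s)) • s • μ • (X : k[X]) • x := by module
          _ = 0 := by rw [v2, smul_zero])
      rwa [ctx.hx, ctx.hx, mul_one] at this
  have k2 := ts_zero hsm hk2 hx ctx ha hab r hc k1 (μ := μ * X) (by rwa [mul_smul])
    (by rw [mul_smul, mul_smul, v2, smul_zero])
  have hu : Nz G (a * x * b - x) :=
    hx'.1.sub hx.1 (by rw [r.conj_mul ctx, k2]; simp) (by rw [r.mul_conj ctx, k2]; simp)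
  have k3 : (X : k[X]) • (a * x * b - x) = (p * p - 1) • (X : k[X]) • x := by
    have e1 : (X * s) • (x * y) = 0 := by rw [← smul_mul_assoc, k2, zero_mul]
    have e2 : (X * s) • (y * x) = 0 := by rw [← ctx.hy, k2, mul_zero]
    have e3 : (X * s * X) • y = 0 := by
      rw [mul_smul, ← ctx.yxy, ← ctx.hy, ← smul_mul_assoc, k2, zero_mul, mul_zero]
    rw [r.conj ctx]
    calc _ = (p * p - 1) • (X : k[X]) • x - p • (X * s) • (x * y) + p • (X * s) • (y * x) -
          s • (X * s * X) • y := by module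
      _ = _ := by rw [e1, e2, e3]; simp
  have hu0 : a * x * b - x ≠ 0 := by
    intro e
    rw [e, smul_zero] at k3
    obtain ⟨c, hc⟩ : f ∣ p - C t := by rw [← AdjoinRoot.mk_eq_mk, pt]; rfl
    have : (t * t - 1) • μ • (X : k[X]) • x = 0 := by
      rw [← C_smul_eq hsm]
      calc _ = μ • (p * p - 1) • (X : k[X]) • x - (p + C t) • (p - C t) • μ • (X : k[X]) • x := by
            simp only [map_sub, map_mul, map_one]; module
        _ = 0 := by rw [← k3, hc, mul_comm f, mul_smul, v1]; simp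
    exact v0 ((smul_eq_zero.1 this).resolve_left (sub_ne_zero.2 t1))
  obtain ⟨q, hq⟩ := exists_zeta hsm (by simpa only [← X_smul_eq hsm] using h1)
  have k4 : a * x * b - x = z * x * (((p * p - 1) * q) • 1) := by
    obtain ⟨p', hp'⟩ : X ∣ p - 1 := by rw [X_dvd_iff, coeff_zero_eq_eval_zero]; simp [p0]
    have hp : p = 1 + X * p' := by rw [← hp']; ring
    set e : Module.End k M := 1 - (q * X) • 1 with he
    have z0 : (X : k[X]) • e = 0 := by
      rw [he, smul_sub, ← hq]; module
    have z1 : ∀ r, (X : k[X]) • (r * e) = (X : k[X]) • r * e := fun r => (smul_mul_assoc _ _ _).symm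
    have z2 : (X : k[X]) • (x * e) = 0 := by rw [← ctx.hx, z0, mul_zero]
    have z3 : (X : k[X]) • (y * e) = 0 := by rw [← ctx.hy, z0, mul_zero]
    have z4 := h2 e z0
    have z5 : (a * x * b - x) * e = 0 := by
      rw [r.conj ctx]
      simp only [sub_mul, add_mul, smul_mul_assoc, mul_assoc, z4, ctx.xx', h2 _ z2]
      calc _ = (p' * (p + 1) - s * s) • (X : k[X]) • (x * e) := by rw [hp]; module
        _ = 0 := by rw [z2, smul_zero]
    have z6 : (a * x * b - x) * ((q * X) • 1) = q • (X : k[X]) • (a * x * b - x) := by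
      rw [r.conj ctx]; ctx_simp ctx; module
    rw [he, mul_sub, mul_one, sub_eq_zero] at z5
    rw [z5, z6, k3, ← X_smul_eq hsm]
    ctx_simp ctx
    module
  refine ker_eq_of_rk_le (ker_mul_ge _ _) ((hx.2.2 _ hu hu0).trans ?_)
  rw [k4]
  exact rk_mul_le_left _ _

end mod

theorem zero_or_inj [FiniteDimensional k M] (hk2 : ringChar k ≠ 2) (hk3 : Nat.card k ≠ 3)
    (hx : Nd G x) (hy : Nz G y) :
    (x * y + y * x) * x = 0 ∨ LinearMap.ker ((x * y + y * x) * x) = LinearMap.ker x := by
  have key : ∀ V : Submodule k M, ∀ y, Nz G y → LinearMap.ker (x * y + y * x) = V →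
      (x * y + y * x) * x = 0 ∨ LinearMap.ker ((x * y + y * x) * x) = LinearMap.ker x := by
    intro V
    induction V using WellFoundedGT.induction with
    | ind V ih =>
    rintro y hy rfl
    have red : ∀ y, Nz G y → ∀ z', z' = -((x * y + y * x) * (x * y + y * x)) →
        (z' * x = 0 ∨ LinearMap.ker (z' * x) = LinearMap.ker x) →
        (x * y + y * x) * x = 0 ∨ LinearMap.ker ((x * y + y * x) * x) = LinearMap.ker x := by
      rintro y hy _ rfl (h | h)
      · left
        have := xyx_eq_zero_of_nilpotent hk2 hx hy ⟨3, by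
          rw [neg_mul, neg_eq_zero] at h
          have h' := congrArg (fun r => r * y + y * r) h
          simp only [pow_succ, pow_zero, one_mul, mul_add, add_mul, mul_assoc, hx.1.sq, hx.1.sq',
            hy.sq, hy.sq', mul_zero, zero_mul, add_zero, zero_add] at h' ⊢
          exact h'⟩
        simp [add_mul, mul_assoc, this, hx.1.sq]
      · right
        refine le_antisymm (le_trans ?_ h.le) (ker_mul_ge _ _)
        rw [← neg_mul, mul_assoc]
        exact ker_mul_ge _ _
    set z := x * y + y * x with hz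
    have hy1 := hx.1.conj hy.one_add hy.add_mul_sub
    have e1 := anticomm_cj hx.1 hy
    set y1 := (1 + y) * x * (1 - y) with hy1def
    by_cases c : LinearMap.ker (z * z) = LinearMap.ker z
    swap
    · refine red y hy _ e1 (ih _ ?_ y1 hy1 rfl)
      rw [e1, LinearMap.ker_neg]
      exact lt_of_le_of_ne (ker_mul_ge _ _) (Ne.symm c)
    by_cases c0 : z * x = 0
    · exact Or.inl c0
    have hy2 := hx.1.conj hy1.one_add hy1.add_mul_sub
    have e2 := anticomm_cj hx.1 hy1
    set y2 := (1 + y1) * x * (1 - y1) with hy2def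
    refine red y hy _ e1 (red y1 hy1 _ e2 (Or.inr ?_))
    have c1 : ∀ r, z * (z * r) = 0 → z * r = 0 := fun r hr =>
      mul_eq_zero_of_ker_le c.le (by rwa [mul_assoc])
    have e3 : x * y2 + y2 * x = -(z * (z * (z * z))) := by
      rw [e2, e1, ← hz]; simp [mul_assoc]
    have c2 : ∀ r, (x * y2 + y2 * x) * r = 0 ↔ z * r = 0 := by
      intro r
      rw [e3, neg_mul, neg_eq_zero]
      simp only [mul_assoc]
      exact ⟨fun h => c1 _ (c1 _ (c1 _ h)), fun h => by simp [h]⟩
    have c3 : LinearMap.ker (x * y2 + y2 * x) = LinearMap.ker z := by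
      ext m
      rw [e3]
      simp only [LinearMap.mem_ker, LinearMap.neg_apply, neg_eq_zero, Module.End.mul_apply]
      have c4 : ∀ m, z (z m) = 0 → z m = 0 := fun m hm => c.le hm
      exact ⟨fun h => c4 _ (c4 _ (c4 _ h)), fun h => by simp [h]⟩
    letI := polyMod (x * y2 + y2 * x)
    haveI := polyTower (x * y2 + y2 * x)
    refine inj_of_reduced (fun _ _ => rfl) hk2 hk3 hx hy2 rfl (fun r hr => ?_) (fun r hr => ?_)
      (fun h => c0 ((c2 x).1 h)) (fun y' hy' hlt => ih _ (c3 ▸ hlt) y' hy' rfl)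
    · rw [c2, e3] at hr
      rw [c2]
      simp only [neg_mul, mul_neg, neg_eq_zero, mul_assoc] at hr
      exact c1 _ (c1 _ (c1 _ (c1 _ hr)))
    · rw [c2] at hr
      have : y2 = x + (-(x + x) - y * x + x * y * x + y * x * y * x + x * y
          - x * y * x * y - y * x * y * x * y) * z := by
        rw [hy2def, hy1def, hz]
        simp only [mul_sub, sub_mul, mul_add, add_mul, mul_assoc, hx.1.sq', hy.sq', hx.1.sq, hy.sq,
          mul_one, one_mul, mul_zero, neg_mul, zero_mul]
        abel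
      rw [this, add_mul, mul_assoc, hr, mul_zero, add_zero]
  exact key _ y hy rfl

end Cfsg.Agent.Lib.Root
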