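import Cfsg.Agent.Lib.Root.Quad2

set_option autoImplicit false

/-! Quadratic pairs: the field attached to an opposite pair and the homomorphism from `SL₂`. -/

namespace Cfsg.Agent.Lib.Root

open Cfsg Polynomial

theorem exists_sl2_hom {K R : Type*} [Field K] [Ring R] (ι : K →ₙ+* R) {E F : R}
    (hE : ∀ a, ι a * E = E * ι a) (hF : ∀ a, ι a * F = F * ι a) (EE : E * E = 0) (FF : F * F = 0)
    (h1 : E * F + F * E = ι 1) (e1 : ι 1 * E = E) (e2 : ι 1 * F = F) :
    ∃ φ : Matrix.SpecialLinearGroup (Fin 2) K →* Rˣ, (∀ t, (φ (xu t) : R) = 1 + ι t * E) ∧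
      (∀ t, (φ (xl t) : R) = 1 + ι t * F) ∧ (φ (-1) : R) = 1 - ι 1 - ι 1 ∧
      (E ≠ 0 → Function.Injective φ) := by
  have hE' : ∀ a r, E * (ι a * r) = ι a * (E * r) := fun a r => by
    rw [← mul_assoc, ← hE, mul_assoc]
  have hF' : ∀ a r, F * (ι a * r) = ι a * (F * r) := fun a r => by
    rw [← mul_assoc, ← hF, mul_assoc]
  have EE' : ∀ r, E * (E * r) = 0 := fun r => by rw [← mul_assoc, EE, zero_mul]
  have FF' : ∀ r, F * (F * r) = 0 := fun r => by rw [← mul_assoc, FF, zero_mul]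
  have EFE : E * (F * E) = E := by
    rw [← h1] at e1; simpa [add_mul, mul_assoc, EE] using e1
  have FEF : F * (E * F) = F := by
    rw [← h1] at e2; simpa [add_mul, mul_assoc, FF] using e2
  have EFE' : ∀ r, E * (F * (E * r)) = E * r := fun r => by rw [← mul_assoc F, ← mul_assoc, EFE]
  have FEF' : ∀ r, F * (E * (F * r)) = F * r := fun r => by rw [← mul_assoc E, ← mul_assoc, FEF]
  let ψ : Matrix (Fin 2) (Fin 2) K → R := fun m =>
    ι (m 0 0) * (E * F) + ι (m 0 1) * E + ι (m 1 0) * F + ι (m 1 1) * (F * E)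
  have ψmul : ∀ m n, ψ (m * n) = ψ m * ψ n := by
    intro m n
    simp only [ψ, Matrix.mul_apply, Fin.sum_univ_two, map_add, map_mul, mul_add, add_mul, mul_assoc,
      hE', hF', EE, FF, EE', FF', EFE, FEF, EFE', FEF', mul_zero]
    abel
  have ψ1 : ψ 1 = ι 1 := by
    simp only [ψ, Matrix.one_apply_eq, Matrix.one_apply_ne (show (0 : Fin 2) ≠ 1 by decide),
      Matrix.one_apply_ne (show (1 : Fin 2) ≠ 0 by decide), map_zero, zero_mul, add_zero]
    rw [← mul_add, h1, ← map_mul, mul_one]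
  let Φ : Matrix.SpecialLinearGroup (Fin 2) K →* R :=
    { toFun := fun g => 1 - ι 1 + ψ g
      map_one' := by simp [ψ1]
      map_mul' := fun g h => by
        have a1 := ψmul 1 (h : Matrix (Fin 2) (Fin 2) K)
        have a2 := ψmul (g : Matrix (Fin 2) (Fin 2) K) 1
        have a3 := ψmul 1 1
        rw [one_mul, ψ1] at a1 a3
        rw [mul_one, ψ1] at a2
        simp only [Matrix.SpecialLinearGroup.coe_mul, ψmul, mul_add, add_mul, sub_mul, mul_sub,
          ← a1, ← a2, ← a3, one_mul, mul_one]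
        abel }
  have h2 : ι 1 * (E * F) + ι 1 * (F * E) = ι 1 := by rw [← mul_add, h1, ← map_mul, mul_one]
  refine ⟨Φ.toHomUnits, fun t => ?_, fun t => ?_, ?_, fun h0 => ?_⟩
  · change 1 - ι 1 + ψ _ = _
    simp only [ψ, coe_xu, Matrix.of_apply, Matrix.cons_val', Matrix.cons_val_zero,
      Matrix.cons_val_one, Matrix.cons_val_fin_one, map_zero, zero_mul, add_zero]
    nth_rewrite 1 [← h2]; abel
  · change 1 - ι 1 + ψ _ = _
    simp only [ψ, coe_xl, Matrix.of_apply, Matrix.cons_val', Matrix.cons_val_zero,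
      Matrix.cons_val_one, Matrix.cons_val_fin_one, map_zero, zero_mul, add_zero]
    nth_rewrite 1 [← h2]; abel
  · change 1 - ι 1 + ψ _ = _
    have : ψ ((-1 : Matrix.SpecialLinearGroup (Fin 2) K) : Matrix (Fin 2) (Fin 2) K) = - ψ 1 := by
      simp [ψ]; abel
    rw [this, ψ1]; abel
  · have inj : ∀ r, ι 1 * r = r → r ≠ 0 → ∀ a, ι a * r = 0 → a = 0 := by
      intro r h1 h0 a ha
      by_contra hne
      apply h0
      rw [← h1, ← inv_mul_cancel₀ hne, map_mul, mul_assoc, ha, mul_zero]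
    have F0 : F ≠ 0 := fun e => h0 (by rw [← EFE, e, zero_mul, mul_zero])
    rw [injective_iff_map_eq_one]
    intro g hg
    have hg' : ψ g = ι 1 := by
      have : 1 - ι 1 + ψ g = 1 := congrArg Units.val hg
      rw [← sub_eq_zero, ← sub_eq_zero.2 this]; abel
    have b1 := congrArg (· * E) hg'
    have b2 := congrArg (· * F) hg'
    simp only [ψ, add_mul, mul_assoc, EE, FF, EFE, FEF, mul_zero, add_zero, zero_add, e1, e2] at b1 b2
    have c1 := congrArg (E * ·) b1
    have c2 := congrArg (F * ·) b2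
    simp only [mul_add, hE', hF', EE, FF, EE', FF', EFE, FEF, mul_zero, add_zero, zero_add] at c1 c2
    have d1 := inj E e1 h0 _ c1
    have d2 := inj F e2 F0 _ c2
    rw [d1, map_zero, zero_mul, add_zero] at b1
    rw [d2, map_zero, zero_mul, zero_add] at b2
    have d3 := inj E e1 h0 (g 0 0 - 1) (by rw [map_sub, sub_mul, b1, e1, sub_self])
    have d4 := inj F e2 F0 (g 1 1 - 1) (by rw [map_sub, sub_mul, b2, e2, sub_self])
    rw [sub_eq_zero] at d3 d4
    ext i j
    fin_cases i <;> fin_cases j <;> simp [d1, d2, d3, d4]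

variable {k : Type*} [Field k] {M : Type*} [AddCommGroup M] [Module k M]
  {G : Subgroup (GLM k M)} {x y z u v w a b : Module.End k M}

theorem exists_field_aux [FiniteDimensional k M] [Module k[X] (Module.End k M)]
    [IsScalarTower k[X] (Module.End k M) (Module.End k M)]
    (hsm : ∀ (p : k[X]) (r : Module.End k M), p • r = aeval z p * r)
    (hk2 : ringChar k ≠ 2) (hk3 : Nat.card k ≠ 3)
    (hx : Nd G x) (hy : Nz G y) (hz : x * y + y * x = z)
    (hinj : LinearMap.ker (z * x) = LinearMap.ker x) :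
    ∃ f : k[X], Irreducible f ∧ ¬ f ∣ X ∧ f • x = 0 ∧ ∀ P : k[X], Nz G (P • x) := by
  have ctx := ctx_of hsm hx.1 hy hz
  have inj : ∀ P : k[X], (X * P) • x = 0 → P • x = 0 := by
    intro P h
    have := mul_eq_zero_of_ker_le hinj.le (r := P • 1) (by
      rw [← X_smul_eq hsm, smul_mul_assoc, ctx.hx, mul_one, smul_smul, h])
    rwa [ctx.hx, mul_one] at this
  obtain ⟨f, μ, hf, v0, v1⟩ := exists_irr hsm hx.2.1
  have := Fact.mk hf
  have hX : ¬ f ∣ X := by
    rintro ⟨c, hc⟩
    refine v0 (inj μ ?_)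
    calc (X * μ) • x = (f * c * μ) • x := by rw [← hc]
      _ = c • f • μ • x := by module
      _ = 0 := by rw [v1, smul_zero]
  have k1 : ∀ P : k[X], Nz G (P • x) → f ∣ P → P • x = 0 := by
    rintro _ hP ⟨c, rfl⟩
    by_contra hne
    have := hx.ker_eq hP hne (by rw [← one_mul x, ← smul_mul_assoc]; exact ker_mul_ge _ _)
    apply v0
    have h4 := mul_eq_zero_of_ker_le this.le (r := μ • 1) (by
      ctx_simp ctx
      rw [mul_comm, mul_smul, v1, smul_zero])
    rwa [ctx.hx, mul_one] at h4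
  have k2 : ∀ a b : Module.End k M, ∀ p s : k[X], InG G a → a * b = 1 → Rel x y a b p s →
      IsCoprime p (X * s) → f ∣ s → s • x = 0 := by
    rintro a b p _ ha hab r hc ⟨s, rfl⟩
    have v2 : (f * s) • μ • x = 0 := by rw [mul_comm, mul_smul, v1, smul_zero]
    refine inj _ (ts_zero hsm hk2 hx ctx ha hab r hc ?_ v0 (by rw [mul_smul, v2, smul_zero]))
    rcases zero_or_inj hk2 hk3 hx (hx.1.conj ha hab) with h | h
    · rw [r.anticomm ctx, smul_mul_assoc, one_mul] at h
      apply inj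
      rw [← neg_eq_zero, ← h]; module
    · exfalso
      apply v0
      have := mul_eq_zero_of_ker_le h.le (r := μ • 1) (by
        rw [r.anticomm ctx]
        ctx_simp ctx
        calc _ = (-(X * X * (f * s))) • (f * s) • μ • x := by module
          _ = 0 := by rw [v2, smul_zero])
      rwa [ctx.hx, mul_one] at this
  let L : Subalgebra k k[X] :=
    { carrier := {Q | ∀ P : k[X], Nz G (P • x) → Nz G ((Q * P) • x)}
      mul_mem' := fun {a b} ha hb P hP => by rw [mul_assoc]; exact ha _ (hb P hP)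
      add_mem' := fun {a b} ha hb P hP => by
        rw [add_mul, add_smul]
        exact (ha P hP).add (hb P hP) (by ctx_simp ctx) (by ctx_simp ctx)
      algebraMap_mem' := fun c P hP => by
        rw [mul_smul, algebraMap_eq, C_smul_eq hsm]
        exact hP.smul c }
  have L1 : ∀ P ∈ L, Nz G (P • x) := fun P hP => by simpa using hP 1 (by simpa using hx.1)
  have L2 : ∀ P : k[X], P • x = 0 → P ∈ L := fun P hP Q _ => by
    rw [mul_comm, mul_smul, hP, smul_zero]; exact nz_zero
  have L3 : L.map (AdjoinRoot.mkₐ f) = ⊤ := by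
    refine subalg_top_of_sq hk2 _ fun t => ?_
    by_cases ht : t = 0
    · simp [ht]
    obtain ⟨a, b, p, s, ha, hab, r, hc, -, pt, hs⟩ := exists_rel hsm hk2 hk3 hx.1 hy ctx hX t ht
    have s0 := k2 a b p s ha hab r hc hs
    refine ⟨p * p, fun P hP => ?_, by rw [← pt, pow_two]; rfl⟩
    convert hP.conj ha hab using 1
    have e1 : s • (x * y) = 0 := by rw [← smul_mul_assoc, s0, zero_mul]
    have e2 : s • (y * x) = 0 := by rw [← ctx.hy, s0, mul_zero]
    have e3 : (s * X) • y = 0 := by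
      rw [mul_smul, ← ctx.yxy, ← ctx.hy, ← smul_mul_assoc, s0, zero_mul, mul_zero]
    rw [r.hg, smul_mul_assoc, r.conj ctx]
    calc _ = (p * p * P) • x - (P * p) • s • (x * y) + (P * p) • s • (y * x) -
        (P * s) • (s * X) • y := by rw [e1, e2, e3]; simp
      _ = _ := by module
  have L4 : ∀ t : AdjoinRoot f, ∃ P ∈ L, AdjoinRoot.mk f P = t := fun t =>
    (L3 ▸ Algebra.mem_top : t ∈ L.map (AdjoinRoot.mkₐ f))
  have h0 : AdjoinRoot.root f ≠ 0 := by
    rw [← AdjoinRoot.mk_X, Ne, AdjoinRoot.mk_eq_zero]; exact hX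
  obtain ⟨l, hl, el⟩ := L4 (-2 / AdjoinRoot.root f)
  obtain ⟨m, hm, em⟩ := L4 (AdjoinRoot.root f)
  have r := ((rel_one.moveY ctx 1).moveX ctx l).moveY ctx 1
  have s1 := k2 _ _ _ _ (by
    simp only [one_smul, mul_one]
    exact hy.one_add.mul ((L1 l hl).one_add.mul hy.one_add)) (by
    simp only [one_smul, mul_one, one_mul]
    rw [mul_assoc, mul_assoc, mul_assoc, ← mul_assoc (1 + y) (1 - y), hy.add_mul_sub, one_mul,
      ← mul_assoc (1 + l • x), (L1 l hl).add_mul_sub, one_mul, hy.add_mul_sub]) r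
    ⟨1 + l * X, -l, by ring⟩ (by
    rw [← AdjoinRoot.mk_eq_zero]
    simp only [map_add, map_mul, map_one, map_zero, el, AdjoinRoot.mk_X]
    field_simp
    ring)
  have s2 := k1 _ (L1 _ (L.add_mem (L.mul_mem hl hm) (L.algebraMap_mem 2))) (by
    rw [← AdjoinRoot.mk_eq_zero]
    simp only [map_add, map_mul, el, em, map_ofNat]
    field_simp
    ring)
  have s3 : (X - m) • x = 0 := by
    have h2 : (2 : k) ≠ 0 := Ring.two_ne_zero hk2
    have : (2 : k) • (X - m) • x = 0 := by
      rw [← C_smul_eq hsm]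
      simp only [map_ofNat] at s2 ⊢
      calc _ = (X : k[X]) • (l * m + 2) • x -
          m • (0 + 1 * 1 + 1 * (1 + l * X * (0 + 1 * 1))) • x := by module
        _ = 0 := by rw [s1, s2]; simp
    exact (smul_eq_zero.1 this).resolve_left h2
  have hL : L = ⊤ := by
    rw [eq_top_iff, ← Polynomial.adjoin_X, Algebra.adjoin_le_iff, Set.singleton_subset_iff]
    simpa using L.add_mem (L2 _ s3) hm
  have L5 : ∀ P : k[X], Nz G (P • x) := fun P => L1 P (hL ▸ trivial)
  exact ⟨f, hf, hX, k1 f (L5 f) dvd_rfl, L5⟩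

theorem exists_field [FiniteDimensional k M] (hk2 : ringChar k ≠ 2) (hk3 : Nat.card k ≠ 3)
    (hx : Nd G x) (hy : Nz G y) (h0 : x * (y * x) ≠ 0) :
    ∃ (f : k[X]) (_ : Fact (Irreducible f)) (ι : AdjoinRoot f →ₙ+* Module.End k M)
      (F : Module.End k M), AdjoinRoot.root f ≠ 0 ∧ (∀ a, ι a * x = x * ι a) ∧
      (∀ a, ι a * F = F * ι a) ∧ (∀ (c : k) a, ι (algebraMap k _ c * a) = c • ι a) ∧
      x * F + F * x = ι 1 ∧ ι 1 * x = x ∧ ι 1 * F = F ∧ Nd G F ∧
      ι (AdjoinRoot.root f) * F = ι 1 * y ∧ ι 1 * y = y * ι 1 ∧ Nd G (ι 1 * y) ∧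
      LinearMap.ker F = LinearMap.ker (ι 1 * y) ∧ LinearMap.range F = LinearMap.range (ι 1 * y) := by
  set z := x * y + y * x with hz
  have hinj : LinearMap.ker (z * x) = LinearMap.ker x := by
    refine (zero_or_inj hk2 hk3 hx hy).resolve_left ?_
    simpa [add_mul, mul_assoc, hx.1.sq] using h0
  letI := polyMod z
  haveI := polyTower z
  have hsm : ∀ (p : k[X]) (r : Module.End k M), p • r = aeval z p * r := fun _ _ => rfl
  obtain ⟨f, hf, hX, f0, hN⟩ := exists_field_aux hsm hk2 hk3 hx hy rfl hinj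
  have ctx := ctx_of hsm hx.1 hy hz.symm
  have inj : ∀ r, z * (x * r) = 0 → x * r = 0 := fun r h =>
    mul_eq_zero_of_ker_le hinj.le (by rwa [mul_assoc])
  obtain ⟨q, hq⟩ := exists_zeta hsm (z := z) fun r hr => by
    have zx : ∀ r, z * (x * r) = x * (z * r) := fun r => by
      rw [← X_smul_eq hsm, ← X_smul_eq hsm, ctx.hx]
    have zy : ∀ r, z * (y * r) = y * (z * r) := fun r => by
      rw [← X_smul_eq hsm, ← X_smul_eq hsm, ctx.hy]
    have a1 : x * r = 0 := inj _ (by rw [zx]; exact inj _ (by rw [zx, hr, mul_zero]))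
    have a2 : x * (y * r) = 0 := inj _ (by
      rw [zx]; exact inj _ (by rw [zx, zy, zy, hr, mul_zero, mul_zero]))
    rw [hz, add_mul, mul_assoc, mul_assoc, a1, a2, mul_zero, add_zero]
  have ex : (q * X) • x = x := by
    have := inj ((q * X - 1) • 1) (by
      rw [← X_smul_eq hsm, ctx.hx, mul_one]
      calc _ = (q * X * X) • x - (X : k[X]) • x := by module
        _ = 0 := by rw [hq, sub_self])
    rwa [ctx.hx, mul_one, sub_smul, one_smul, sub_eq_zero] at this
  have f1 : (f * X) • (1 : Module.End k M) = 0 := by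
    rw [mul_smul, ← ctx.hT, smul_add, ← smul_mul_assoc, ← ctx.hy, f0]; simp
  let ι₀ : AdjoinRoot f → Module.End k M := fun a =>
    ((AdjoinRoot.mk_surjective a).choose * q * X) • 1
  have hι : ∀ P, ι₀ (AdjoinRoot.mk f P) = (P * q * X) • 1 := by
    intro P
    obtain ⟨c, hc⟩ := AdjoinRoot.mk_eq_mk.1 (AdjoinRoot.mk_surjective (AdjoinRoot.mk f P)).choose_spec
    simp only [ι₀]
    rw [sub_eq_iff_eq_add] at hc
    rw [hc]
    calc _ = (c * q) • (f * X) • (1 : Module.End k M) + (P * q * X) • 1 := by module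
      _ = _ := by rw [f1, smul_zero, zero_add]
  let ι : AdjoinRoot f →ₙ+* Module.End k M :=
    { toFun := ι₀
      map_zero' := by rw [← map_zero (AdjoinRoot.mk f), hι]; simp
      map_add' := fun a b => by
        obtain ⟨P, rfl⟩ := AdjoinRoot.mk_surjective a
        obtain ⟨Q, rfl⟩ := AdjoinRoot.mk_surjective b
        rw [← map_add, hι, hι, hι]; module
      map_mul' := fun a b => by
        obtain ⟨P, rfl⟩ := AdjoinRoot.mk_surjective a
        obtain ⟨Q, rfl⟩ := AdjoinRoot.mk_surjective b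
        rw [← map_mul, hι, hι, hι, smul_mul_assoc, one_mul]
        calc _ = (P * Q * q) • (X : k[X]) • (1 : Module.End k M) := by module
          _ = _ := by rw [← hq]; module }
  have hι' : ∀ P, ι (AdjoinRoot.mk f P) = (P * q * X) • 1 := hι
  have hι1 : ι 1 = (q * X) • 1 := by rw [← map_one (AdjoinRoot.mk f), hι', one_mul]
  have r := (rel_one.moveY ctx 1).moveX ctx (-q)
  have ha : InG G ((1 + (-q) • x) * ((1 + (1 : k[X]) • y) * 1)) := by
    simp only [one_smul, mul_one]
    exact (hN _).one_add.mul hy.one_add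
  have hab : ((1 + (-q) • x) * ((1 + (1 : k[X]) • y) * 1)) *
      (1 * (1 - (1 : k[X]) • y) * (1 - (-q) • x)) = 1 := by
    simp only [one_smul, mul_one, one_mul]
    rw [mul_assoc, ← mul_assoc (1 + y) (1 - y), hy.add_mul_sub, one_mul, (hN _).add_mul_sub]
  have hc : ∀ P : k[X], ((1 + (-q) • x) * ((1 + (1 : k[X]) • y) * 1)) * ((-P) • x) *
      (1 * (1 - (1 : k[X]) • y) * (1 - (-q) • x)) = (P * X) • y := by
    intro P
    have p0 : (1 - q * X) • x = 0 := by rw [sub_smul, ex, one_smul, sub_self]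
    have e1 : (1 - q * X) • (x * y) = 0 := by rw [← smul_mul_assoc, p0, zero_mul]
    have e2 : (1 - q * X) • (y * x) = 0 := by rw [← ctx.hy, p0, mul_zero]
    rw [r.hg, smul_mul_assoc, r.conj ctx]
    calc _ = (-P * (1 - q * X)) • (1 - q * X) • x + P • (1 - q * X) • (x * y) -
        P • (1 - q * X) • (y * x) + (P * X) • y := by module
      _ = _ := by rw [p0, e1, e2]; simp
  have hd : ∀ P Q : k[X], (Q * P) • x = x → Nd G ((P * X) • y) := by
    intro P Q h
    rw [← hc]
    refine Nd.conj (hx.of_rk_le (hN _) (fun e => hx.2.1 ?_) ?_) ha hab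
    · rw [← h, mul_smul, ← neg_neg P, neg_smul, e]; simp
    · rw [hsm]; exact rk_mul_le_right _ _
  have ey : ι 1 * y = (q * X) • y := by rw [hι1, smul_mul_assoc, one_mul]
  have F1 : (X : k[X]) • (q * q * X) • y = (q * X) • y := by
    calc _ = q • (q * X * X) • y := by module
      _ = _ := by rw [hq, smul_smul]
  refine ⟨f, ⟨hf⟩, ι, (q * q * X) • y, ?_, fun a => ?_, fun a => ?_, fun c a => ?_, ?_, ?_, ?_,
    hd (q * q) (X * X) ?_, ?_, ?_, ?_, ?_, ?_⟩
  · rw [← AdjoinRoot.mk_X, Ne, AdjoinRoot.mk_eq_zero]; exact hX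
  · obtain ⟨P, rfl⟩ := AdjoinRoot.mk_surjective a
    rw [hι']; ctx_simp ctx
  · obtain ⟨P, rfl⟩ := AdjoinRoot.mk_surjective a
    rw [hι']; ctx_simp ctx; module
  · obtain ⟨P, rfl⟩ := AdjoinRoot.mk_surjective a
    rw [AdjoinRoot.algebraMap_eq, ← AdjoinRoot.mk_C, ← map_mul, hι', hι', ← C_smul_eq hsm]; module
  · rw [hι1]; ctx_simp ctx
    rw [← smul_add, ctx.hT]
    calc _ = q • (q * X * X) • (1 : Module.End k M) := by module
      _ = _ := by rw [hq, smul_smul]
  · rw [hι1, smul_mul_assoc, one_mul, ex]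
  · rw [hι1, smul_mul_assoc, one_mul, mul_smul, F1]; module
  · calc _ = (q * X) • (q * X) • x := by module
      _ = _ := by rw [ex, ex]
  · rw [← AdjoinRoot.mk_X, hι', ey, smul_mul_assoc, one_mul, mul_comm X q, hq, F1]
  · rw [hι1]; ctx_simp ctx
  · rw [ey]; exact hd q X (by rw [mul_comm, ex])
  · rw [ey]
    apply le_antisymm
    · rw [← F1, X_smul_eq hsm]; exact ker_mul_ge _ _
    · rw [mul_assoc, mul_smul q (q * X), hsm q]; exact ker_mul_ge _ _
  · rw [ey]
    apply le_antisymm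
    · have : (q * q * X) • y = (q * X) • y * q • 1 := by ctx_simp ctx; module
      rw [this]; exact LinearMap.range_comp_le_range _ _
    · have : (q * X) • y = (q * q * X) • y * (X : k[X]) • 1 := by rw [← F1]; ctx_simp ctx; module
      rw [this]; exact LinearMap.range_comp_le_range _ _

end Cfsg.Agent.Lib.Root
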