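import Cfsg.Agent.Lib.Root.Quad3

set_option autoImplicit false

/-! Quadratic pairs: the root subgroups `E(σ)`. -/

namespace Cfsg.Agent.Lib.Root

open Cfsg Polynomial LinearMap

variable {k : Type*} [Field k] {M : Type*} [AddCommGroup M] [Module k M]
  {G : Subgroup (GLM k M)} {x y z u v w a b F : Module.End k M}

/-- the unit `1 + x` -/
def un (x : Module.End k M) (h : x * x = 0) : GLM k M :=
  ⟨1 + x, 1 - x, by simp [mul_sub, add_mul, h], by simp [mul_add, sub_mul, h]⟩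

@[simp] theorem coe_un (h : x * x = 0) : (un x h : Module.End k M) = 1 + x := rfl
@[simp] theorem coe_un_inv (h : x * x = 0) : (((un x h)⁻¹ : GLM k M) : Module.End k M) = 1 - x := rfl

theorem InG.mem {g : GLM k M} (h : InG G g) : g ∈ G := by
  obtain ⟨g', h1, h2⟩ := h
  rwa [← Units.ext h2]

theorem mem_quad_iff {σ : GLM k M} :
    σ ∈ quadraticElements G ↔ Nz G ((σ : Module.End k M) - 1) ∧ (σ : Module.End k M) - 1 ≠ 0 := by
  constructor
  · rintro ⟨-, ⟨h1, h2⟩, h3⟩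
    refine ⟨⟨h1, fun c => ⟨un (c • ((σ : Module.End k M) - 1)) (by simp [h1]), h3 ⟨c, rfl⟩, rfl⟩⟩, h2⟩
  · rintro ⟨h1, h2⟩
    refine ⟨InG.mem (by simpa using h1.one_add), ⟨h1.1, h2⟩, ?_⟩
    rintro τ ⟨c, hc⟩
    exact InG.mem (hc ▸ h1.2 c)

theorem mem_min_iff {σ : GLM k M} :
    σ ∈ minimalQuadraticElements G ↔ Nd G ((σ : Module.End k M) - 1) := by
  constructor
  · rintro ⟨h1, h2⟩
    refine ⟨(mem_quad_iff.1 h1).1, (mem_quad_iff.1 h1).2, fun y hy hy0 => ?_⟩
    have := h2 (un y hy.1) (mem_quad_iff.2 (by simpa using ⟨hy, hy0⟩))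
    rwa [commutatorRank, commutatorRank, coe_un, add_sub_cancel_left] at this
  · rintro ⟨h1, h2, h3⟩
    exact ⟨mem_quad_iff.2 ⟨h1, h2⟩, fun τ hτ => h3 _ (mem_quad_iff.1 hτ).1 (mem_quad_iff.1 hτ).2⟩

/-- the space of members of `Nz G` dominated by `x` -/
def ES (G : Subgroup (GLM k M)) (x : Module.End k M) : Submodule k (Module.End k M) where
  carrier := {u | Nz G u ∧ ker x ⊔ range x ≤ ker u ∧ range u ≤ range x}
  zero_mem' := ⟨nz_zero, by simp, by simp⟩
  add_mem' := by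
    rintro u v ⟨h1, h2, h3⟩ ⟨h4, h5, h6⟩
    refine ⟨h1.add h4 ?_ ?_, fun m hm => ?_, ?_⟩
    · ext m; exact h2 (Submodule.mem_sup_right (h6 ⟨m, rfl⟩))
    · ext m; exact h5 (Submodule.mem_sup_right (h3 ⟨m, rfl⟩))
    · have := h2 hm
      have := h5 hm
      simp_all
    · rintro _ ⟨m, rfl⟩
      exact Submodule.add_mem _ (h3 ⟨m, rfl⟩) (h6 ⟨m, rfl⟩)
  smul_mem' := by
    rintro c u ⟨h1, h2, h3⟩
    refine ⟨h1.smul c, fun m hm => ?_, ?_⟩
    · have := h2 hm
      simp_all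
    · rintro _ ⟨m, rfl⟩
      exact Submodule.smul_mem _ c (h3 ⟨m, rfl⟩)

theorem range_le_ker_of_mul (h : a * b = 0) : range b ≤ ker a := by
  rintro _ ⟨m, rfl⟩; exact LinearMap.congr_fun h m

theorem mul_eq_zero_of_range_le (h : range b ≤ ker a) : a * b = 0 := by
  ext m; exact h ⟨m, rfl⟩

theorem range_mul_le (a b : Module.End k M) : range (a * b) ≤ range a :=
  LinearMap.range_comp_le_range b a

theorem mem_ES (hx : x * x = 0) : u ∈ ES G x ↔ Nz G u ∧ ker x ≤ ker u ∧ range u ≤ range x := by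
  change Nz G u ∧ ker x ⊔ range x ≤ ker u ∧ range u ≤ range x ↔ _
  rw [sup_eq_left.2 (range_le_ker_of_mul hx)]

theorem ES.nz (h : u ∈ ES G x) : Nz G u := h.1
theorem ES.ker_le (h : u ∈ ES G x) : ker x ≤ ker u := le_sup_left.trans h.2.1
theorem ES.range_le (h : u ∈ ES G x) : range u ≤ range x := h.2.2
theorem ES.mul (h : u ∈ ES G x) (h' : v ∈ ES G x) : u * v = 0 :=
  mul_eq_zero_of_range_le (h'.2.2.trans (le_sup_right.trans h.2.1))

theorem self_mem_ES (hx : Nz G x) : x ∈ ES G x := (mem_ES hx.1).2 ⟨hx, le_rfl, le_rfl⟩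

theorem ES_congr (h1 : ker x = ker y) (h2 : range x = range y) : ES G x = ES G y := by
  ext u
  change Nz G u ∧ ker x ⊔ range x ≤ ker u ∧ range u ≤ range x ↔
    Nz G u ∧ ker y ⊔ range y ≤ ker u ∧ range u ≤ range y
  rw [h1, h2]

theorem ES_neg : ES G (-x) = ES G x := ES_congr (ker_neg x) (range_neg x)

/-- the group `1 + ES G x` -/
def EG (G : Subgroup (GLM k M)) (x : Module.End k M) : Subgroup (GLM k M) where
  carrier := {g | (g : Module.End k M) - 1 ∈ ES G x}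
  one_mem' := by simp
  mul_mem' := fun {g h} hg hh => by
    have := (ES G x).add_mem hg hh
    have e := ES.mul hg hh
    change ((g * h : GLM k M) : Module.End k M) - 1 ∈ ES G x
    convert this using 1
    rw [← add_zero (_ + _), ← e, Units.val_mul]
    noncomm_ring
  inv_mem' := fun {g} hg => by
    have := (ES G x).neg_mem hg
    have e := ES.mul hg hg
    change ((g⁻¹ : GLM k M) : Module.End k M) - 1 ∈ ES G x
    convert this using 1
    rw [Units.inv_eq_of_mul_eq_one_right (a := 1 - ((g : Module.End k M) - 1))]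
    · simp
    · calc _ = 1 - ((g : Module.End k M) - 1) * ((g : Module.End k M) - 1) := by noncomm_ring
        _ = 1 := by rw [e, sub_zero]

theorem mem_EG {g : GLM k M} : g ∈ EG G x ↔ (g : Module.End k M) - 1 ∈ ES G x := Iff.rfl

theorem un_mem_EG (h : u ∈ ES G x) : un u (ES.nz h).1 ∈ EG G x := by simpa [mem_EG] using h

theorem un_ne_one (h : u * u = 0) (h0 : u ≠ 0) : un u h ≠ 1 := fun e => h0 (by
  simpa using congrArg Units.val e)

theorem EG.exists {g : GLM k M} (h : g ∈ EG G x) : ∃ u, ∃ hu : u ∈ ES G x, g = un u (ES.nz hu).1 :=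
  ⟨_, h, Units.ext (by simp)⟩

theorem EG.exists_ne {g : GLM k M} (h : g ∈ EG G x) (h1 : g ≠ 1) :
    ∃ u, ∃ hu : u ∈ ES G x, u ≠ 0 ∧ g = un u (ES.nz hu).1 :=
  ⟨_, h, fun e => h1 (Units.ext (sub_eq_zero.1 e)), Units.ext (by simp)⟩

theorem EG_le : EG G x ≤ G := fun _ hg => InG.mem (by simpa using (ES.nz hg).one_add)

theorem EG_congr (h : ES G x = ES G y) : EG G x = EG G y := by
  ext g; rw [mem_EG, mem_EG, h]

theorem EG_comm : Comm (EG G x) (EG G x) := by
  intro g hg h hh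
  obtain ⟨u, hu, rfl⟩ := EG.exists hg
  obtain ⟨v, hv, rfl⟩ := EG.exists hh
  apply Units.ext
  simp [mul_add, add_mul, ES.mul hu hv, ES.mul hv hu]
  abel

theorem EG_ne_bot (hx : Nz G x) (h0 : x ≠ 0) : EG G x ≠ ⊥ := fun e =>
  un_ne_one hx.1 h0 (Subgroup.mem_bot.1 (e ▸ un_mem_EG (self_mem_ES hx)))

theorem mem_ES_conj (h : u ∈ ES G x) (ha : InG G a) (hab : a * b = 1) :
    a * u * b ∈ ES G (a * x * b) := by
  have hba := ha.comm hab
  have hba' : ∀ m, b (a m) = m := fun m => LinearMap.congr_fun hba m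
  refine ⟨(ES.nz h).conj ha hab, sup_le (fun m hm => ?_) ?_, ?_⟩
  · have : x (b m) = 0 := by
      rw [← hba' (x (b m))]
      exact (congrArg b hm).trans (map_zero _)
    have : u (b m) = 0 := ES.ker_le h this
    simp [this]
  · rintro _ ⟨m, rfl⟩
    have : u (x (b m)) = 0 := h.2.1 (Submodule.mem_sup_right ⟨_, rfl⟩)
    simp [hba', this]
  · rintro _ ⟨m, rfl⟩
    obtain ⟨m', e⟩ := ES.range_le h ⟨b m, rfl⟩
    exact ⟨a m', by simp [hba', e]⟩

theorem conj_conj (hba : b * a = 1) (u : Module.End k M) : b * (a * u * b) * a = u := by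
  calc _ = (b * a) * u * (b * a) := by simp only [mul_assoc]
    _ = u := by simp [hba]

theorem conjBy_EG {g : GLM k M} (hg : g ∈ G) :
    conjBy (EG G x) g = EG G (g * x * (g⁻¹ : GLM k M)) := by
  ext h
  rw [mem_conjBy, mem_EG, mem_EG]
  constructor
  · intro h1
    convert mem_ES_conj h1 (inG_of_mem hg) (Units.mul_inv g) using 1
    simp [mul_sub, sub_mul, mul_assoc]
  · intro h1
    convert mem_ES_conj h1 (inG_of_mem (G.inv_mem hg)) (Units.inv_mul g) using 1
    · rw [conj_conj (Units.inv_mul g)]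
    · simp [mul_sub, sub_mul, mul_assoc]

variable [FiniteDimensional k M]

theorem finrank_ES_conj (ha : InG G a) (hab : a * b = 1) :
    Module.finrank k (ES G (a * x * b)) = Module.finrank k (ES G x) := by
  have key : ∀ {a b x : Module.End k M}, InG G a → a * b = 1 →
      Module.finrank k (ES G x) ≤ Module.finrank k (ES G (a * x * b)) := by
    intro a b x ha hab
    refine LinearMap.finrank_le_finrank_of_injective
      (f := ((mulRight k b) ∘ₗ (mulLeft k a)).restrict fun u hu => mem_ES_conj hu ha hab) ?_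
    intro u v h
    have := congrArg (fun r : ES G (a * x * b) => b * (r : Module.End k M) * a) h
    change b * (a * u * b) * a = b * (a * v * b) * a at this
    simpa [conj_conj (ha.comm hab)] using this
  refine le_antisymm ?_ (key ha hab)
  have := key (x := a * x * b) (ha.inv hab) (ha.comm hab)
  rwa [conj_conj (ha.comm hab)] at this

theorem Nd.of_mem_ES (hx : Nd G x) (h : u ∈ ES G x) (h0 : u ≠ 0) : Nd G u :=
  hx.of_rk_le (ES.nz h) h0 (rk_le_of_ker_le (ES.ker_le h))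

theorem Nd.ker_of_mem_ES (hx : Nd G x) (h : u ∈ ES G x) (h0 : u ≠ 0) : ker u = ker x :=
  hx.ker_eq (ES.nz h) h0 (ES.ker_le h)

theorem Nd.range_of_mem_ES (hx : Nd G x) (h : u ∈ ES G x) (h0 : u ≠ 0) : range u = range x :=
  hx.range_eq (ES.nz h) h0 (ES.range_le h)

theorem Nd.ES_eq (hx : Nd G x) (h : u ∈ ES G x) (h0 : u ≠ 0) : ES G u = ES G x :=
  ES_congr (hx.ker_of_mem_ES h h0) (hx.range_of_mem_ES h h0)

theorem coe_EG {σ : GLM k M} (h : σ ∈ minimalQuadraticElements G) :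
    (EG G ((σ : Module.End k M) - 1) : Set (GLM k M)) = sameActionClass G σ ∪ {1} := by
  have hx := mem_min_iff.1 h
  ext τ
  constructor
  · intro hτ
    by_cases e : τ = 1
    · exact Or.inr e
    have h0 : (τ : Module.End k M) - 1 ≠ 0 := fun e' => e (Units.ext (sub_eq_zero.1 e'))
    exact Or.inl ⟨mem_min_iff.2 (hx.of_mem_ES hτ h0), hx.ker_of_mem_ES hτ h0,
      hx.range_of_mem_ES hτ h0⟩
  · rintro (⟨h1, h2, h3⟩ | rfl)
    · exact (mem_ES hx.1.1).2 ⟨(mem_min_iff.1 h1).1, h2.ge, h3.le⟩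
    · exact Subgroup.one_mem _

theorem sameAction_eq {σ : GLM k M} (h : σ ∈ minimalQuadraticElements G) :
    sameActionSubgroup G σ = EG G ((σ : Module.End k M) - 1) := by
  apply le_antisymm
  · rw [sameActionSubgroup, Subgroup.closure_le, coe_EG h]; exact Set.subset_union_left
  · intro τ hτ
    have : τ ∈ sameActionClass G σ ∪ {1} := coe_EG h ▸ hτ
    rcases this with h1 | rfl
    · exact Subgroup.subset_closure h1
    · exact Subgroup.one_mem _

theorem mem_roots_iff {A : Subgroup (GLM k M)} :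
    A ∈ quadraticRootSubgroups G ↔ ∃ x, Nd G x ∧ A = EG G x := by
  constructor
  · rintro ⟨σ, h, rfl⟩
    exact ⟨_, mem_min_iff.1 h, sameAction_eq h⟩
  · rintro ⟨x, hx, rfl⟩
    have h : un x hx.1.1 ∈ minimalQuadraticElements G := mem_min_iff.2 (by simpa using hx)
    exact ⟨_, h, by rw [sameAction_eq h]; simp⟩

theorem roots_conj {A : Subgroup (GLM k M)} (hA : A ∈ quadraticRootSubgroups G) {g : GLM k M}
    (hg : g ∈ G) : conjBy A g ∈ quadraticRootSubgroups G := by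
  obtain ⟨x, hx, rfl⟩ := mem_roots_iff.1 hA
  exact mem_roots_iff.2 ⟨_, hx.conj (inG_of_mem hg) (Units.mul_inv g), conjBy_EG hg⟩

/-- `x` and `y` are opposite -/
def Op (x y : Module.End k M) : Prop := x * (y * x) ≠ 0

section char

variable (hk2 : ringChar k ≠ 2) (hk3 : Nat.card k ≠ 3)
include hk2

theorem Op.symm (h : Op x y) (hx : Nd G x) (hy : Nz G y) : Op y x := by
  intro e
  refine h (xyx_eq_zero_of_nilpotent hk2 hx hy ⟨2, ?_⟩)
  have e' : ∀ r, y * (x * (y * r)) = 0 := fun r => by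
    simpa only [mul_assoc, zero_mul] using congrArg (· * r) e
  simp [pow_two, mul_add, add_mul, mul_assoc, hx.1.sq', hy.sq', e, e']

include hk3

theorem Op.disjoint (h : Op x y) (hx : Nd G x) (hy : Nz G y) : Disjoint (range x) (ker y) := by
  have := (zero_or_inj hk2 hk3 hx hy).resolve_left (by
    simpa [add_mul, mul_assoc, hx.1.sq, Op] using h)
  rw [Submodule.disjoint_def]
  rintro _ ⟨m, rfl⟩ hm
  refine this.le (show _ = 0 from ?_)
  have h2 : x (x m) = 0 := LinearMap.congr_fun hx.1.1 m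
  have h3 : y (x m) = 0 := hm
  simp [h2, h3]

theorem Op.of_mem_ES (h : Op x y) (hx : Nd G x) (hy : Nd G y) (hu : u ∈ ES G x) (u0 : u ≠ 0)
    (hv : v ∈ ES G y) (v0 : v ≠ 0) : Op u v := by
  intro e
  have d1 := Submodule.disjoint_def.1 (h.disjoint hk2 hk3 hx hy.1)
  have d2 := Submodule.disjoint_def.1 ((h.symm hk2 hx hy.1).disjoint hk2 hk3 hy hx.1)
  apply u0
  ext m
  refine d1 _ (ES.range_le hu ⟨m, rfl⟩) ?_
  rw [← hy.ker_of_mem_ES hv v0]
  refine d2 _ (ES.range_le hv ⟨_, rfl⟩) ?_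
  rw [← hx.ker_of_mem_ES hu u0]
  exact LinearMap.congr_fun e m

theorem exists_field' (hx : Nd G x) (hy : Nd G y) (h0 : Op x y) :
    ∃ (f : k[X]) (_ : Fact (Irreducible f)) (ι : AdjoinRoot f →ₙ+* Module.End k M)
      (F : Module.End k M), AdjoinRoot.root f ≠ 0 ∧ (∀ a, ι a * x = x * ι a) ∧
      (∀ a, ι a * F = F * ι a) ∧ (∀ (c : k) a, ι (algebraMap k _ c * a) = c • ι a) ∧
      x * F + F * x = ι 1 ∧ ι 1 * x = x ∧ ι 1 * F = F ∧ F ∈ ES G y ∧
      ι (AdjoinRoot.root f) * F = y := by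
  obtain ⟨f, hf, ι, F, h1, h2, h3, h4, h5, h6, h7, h8, h9, h10, h11, h12, h13⟩ :=
    exists_field hk2 hk3 hx hy.1 h0
  have e : ι 1 * y = y := by
    have := mul_eq_zero_of_ker_le (hy.ker_eq h11.1 h11.2.1 (ker_mul_ge _ _)).le (r := 1 - ι 1) (by
      rw [h10, mul_assoc, mul_sub, ← map_mul]; simp)
    rw [mul_sub, mul_one, sub_eq_zero] at this
    rw [h10, ← this]
  rw [e] at h9 h12 h13
  exact ⟨f, hf, ι, F, h1, h2, h3, h4, h5, h6, h7, (mem_ES hy.1.1).2 ⟨h8.1, h12.ge, h13.le⟩, h9⟩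

theorem exists_pair (hx : Nd G x) (hy : Nd G y) (h0 : Op x y) :
    ∃ F ∈ ES G y, x * (F * x) = x ∧ F * (x * F) = F := by
  obtain ⟨f, hf, ι, F, -, -, -, -, h5, h6, h7, h8, -⟩ := exists_field' hk2 hk3 hx hy h0
  rw [← h5] at h6 h7
  exact ⟨F, h8, by simpa [add_mul, mul_assoc, hx.1.sq] using h6,
    by simpa [add_mul, mul_assoc, (ES.nz h8).sq] using h7⟩

omit hk2 hk3 [FiniteDimensional k M] in
theorem pair_conj (h1 : x * (F * x) = x) (h2 : F * (x * F) = F) :
    (1 + F) * x * (1 - F) = -((1 + x) * F * (1 - x)) := by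
  simp only [mul_sub, sub_mul, mul_add, add_mul, mul_assoc, h1, h2, mul_one, one_mul]
  abel

omit hk2 hk3 in
theorem partner_of_pair (hx : Nd G x) (hy : Nd G y) (hu : u ∈ ES G x) (u0 : u ≠ 0)
    (hF : F ∈ ES G y) (h1 : u * (F * u) = u) (h2 : F * (u * F) = F) :
    Partner (EG G x) (EG G y) (un u (ES.nz hu).1) (un F (ES.nz hF).1) := by
  have F0 : F ≠ 0 := fun e => u0 (by rw [← h1, e, zero_mul, mul_zero])
  refine ⟨un_mem_EG hu, un_mem_EG hF, ?_⟩
  rw [← EG_congr (hx.ES_eq hu u0), ← EG_congr (hy.ES_eq hF F0), conjBy_EG (EG_le (un_mem_EG hF)),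
    conjBy_EG (EG_le (un_mem_EG hu))]
  simp only [coe_un, coe_un_inv]
  rw [pair_conj h1 h2, EG_congr ES_neg]

theorem Op.finrank_eq (h : Op x y) (hx : Nd G x) (hy : Nd G y) :
    Module.finrank k (ES G x) = Module.finrank k (ES G y) := by
  obtain ⟨F, hF, h1, h2⟩ := exists_pair hk2 hk3 hx hy h
  have F0 : F ≠ 0 := fun e => hx.2.1 (by rw [← h1, e, zero_mul, mul_zero])
  rw [← hy.ES_eq hF F0, ← finrank_ES_conj (x := x) (ES.nz hF).one_add (ES.nz hF).add_mul_sub,
    ← finrank_ES_conj (x := F) hx.1.one_add hx.1.add_mul_sub, pair_conj h1 h2, ES_neg]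

theorem Op.special (h : Op x y) (hx : Nd G x) (hy : Nd G y) :
    IsSpecialRankOnePair (EG G x) (EG G y) := by
  have key : ∀ {x y : Module.End k M}, Op x y → Nd G x → Nd G y → ∀ a ∈ EG G x, a ≠ 1 →
      ∃ b, b ≠ 1 ∧ Partner (EG G x) (EG G y) a b ∧ Partner (EG G x) (EG G y) a⁻¹ b⁻¹ := by
    intro x y h hx hy a ha ha1
    obtain ⟨u, hu, u0, rfl⟩ := EG.exists_ne ha ha1
    obtain ⟨F, hF, h1, h2⟩ := exists_pair hk2 hk3 (hx.of_mem_ES hu u0) hy
      (h.of_mem_ES hk2 hk3 hx hy hu u0 (self_mem_ES hy.1) hy.2.1)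
    have F0 : F ≠ 0 := fun e => u0 (by rw [← h1, e, zero_mul, mul_zero])
    refine ⟨_, un_ne_one _ F0, partner_of_pair hx hy hu u0 hF h1 h2, ?_⟩
    convert partner_of_pair hx hy (Submodule.neg_mem _ hu) (neg_ne_zero.2 u0)
      (Submodule.neg_mem _ hF) (by simp [h1]) (by simp [h2]) using 1 <;>
    exact Units.ext (by simp [sub_eq_add_neg])
  have hr : IsRankOnePair (EG G x) (EG G y) := by
    refine r1_of_exists (fun e => h ?_) (isNilpotent_of_isMulCommutative (comm_self_iff.1 EG_comm))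
      (isNilpotent_of_isMulCommutative (comm_self_iff.1 EG_comm)) (fun a ha ha1 => ?_)
      (fun a ha ha1 => ?_)
    · have : x ∈ ES G y := by
        have := un_mem_EG (self_mem_ES hx.1)
        rw [e] at this
        simpa [mem_EG] using this
      rw [ES.mul (self_mem_ES hy.1) this, mul_zero]
    · obtain ⟨b, b1, p, -⟩ := key h hx hy a ha ha1
      exact ⟨b, p.2.1, b1, p.2.2⟩
    · obtain ⟨b, b1, p, -⟩ := key (h.symm hk2 hx hy.1) hy hx a ha ha1
      exact ⟨b, p.2.1, b1, p.2.2.symm⟩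
  refine special_of_inv hr fun a b p => ?_
  obtain ⟨b', -, p1, p2⟩ := key h hx hy a p.1 (p.ne_one hr)
  rwa [p.uniq hr p1]

theorem not_op_mul (h : ¬ Op x y) (hx : Nd G x) (hy : Nd G y) (hu : u ∈ ES G x) (hv : v ∈ ES G y)
    (hw : w ∈ ES G x) : u * (v * w) = 0 := by
  by_cases v0 : v = 0
  · simp [v0]
  have h1 : x * (v * x) = 0 := by
    by_contra h1
    refine h (Op.of_mem_ES hk2 hk3 h1 hx (hy.of_mem_ES hv v0) (self_mem_ES hx.1) hx.2.1 ?_ hy.2.1)
    rw [hy.ES_eq hv v0]; exact self_mem_ES hy.1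
  ext m
  obtain ⟨m', e⟩ := ES.range_le hw ⟨m, rfl⟩
  refine ES.ker_le hu (show x (v (w m)) = 0 from ?_)
  rw [← e]
  exact LinearMap.congr_fun h1 m'

end char

end Cfsg.Agent.Lib.Root
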