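import Cfsg.Agent.Lib.Root.Sub3

set_option autoImplicit false

/-! Abstract root subgroups: non-degenerate classes, normal subgroups. -/

namespace Cfsg.Agent.Lib.Root

open Cfsg

variable {G : Type*} [Group G] {S : Set (Subgroup G)} {A B C D : Subgroup G}

theorem ni_of_nondeg (hS : IsRootSubgroupClass S) (hnd : IsNondegenerateRootSet S) :
    ∀ A ∈ S, NI S A := by
  obtain ⟨-, ⟨A, hA, B, hB, h⟩, -⟩ := hnd
  exact ni_all_of_class hS hA ⟨B, hB, h⟩

theorem exists_line_psi (hS : IsRootSubgroupClass S) (hnd : ¬ IsDegenerateRootSet S)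
    (hA : A ∈ S) (hB : B ∈ S) (hr : IsRankOnePair A B) :
    ∃ Q ∈ linePartners S A, Psi S Q B ∧ Psi S A ⁅Q, B⁆ ∧ ⁅A, ⁅Q, B⁆⁆ = Q := by
  have hN := ni_all_of_class hS hA ⟨B, hB, hr⟩
  simp only [IsDegenerateRootSet, not_forall, not_not] at hnd
  obtain ⟨P, hP, Q, hQ, h⟩ := hnd
  obtain ⟨C, hC⟩ := exists_line_of_psi hS hN hP (psi_iff.2 h) hA
  exact exists_line_psi_of_line hS.1 hA hC hB hr

theorem not_deg_of_nondeg (hnd : IsNondegenerateRootSet S) : ¬ IsDegenerateRootSet S := by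
  obtain ⟨-, -, P, hP, Q, hQ, h⟩ := hnd
  exact fun hd => hd P hP Q hQ h

theorem e_connected (hS : IsRootSubgroupClass S) (hnd : IsNondegenerateRootSet S) :
    IsConnectedFamily (EAdj S S) S := by
  have hN := ni_of_nondeg hS hnd
  intro A hA B hB
  have h := connected_of_class hS hA (hN A hA) A hA B hB
  clear hB
  induction h with
  | refl => exact Relation.ReflTransGen.refl
  | @tail B C _ h ih =>
    obtain ⟨Q, hQ, h1, -, -⟩ := exists_line_psi hS (not_deg_of_nondeg hnd) h.1 h.2.1 h.2.2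
    have hQS := line_mem hQ
    have l1 := h1.line hS.1 hQS (hN Q hQS)
    have l2 := h1.symm.line hS.1 h.2.1 (hN C h.2.1)
    rw [Subgroup.commutator_comm] at l2
    exact ((ih.tail ⟨h.1, hQS, hQ⟩).tail ⟨hQS, h1.mem, l1⟩).tail
      ⟨h1.mem, h.2.1, line_symm h.2.1 l2⟩

theorem eq_top_of_lines_le (hS : IsRootSubgroupClass S) (hnd : IsNondegenerateRootSet S)
    (hA : A ∈ S) (hB : B ∈ S) (hr : IsRankOnePair A B) {U : Subgroup G}
    (hU : ∀ C ∈ linePartners S A, C ≤ U) (hBU : B ≤ U) : U = ⊤ := by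
  have hN := ni_of_nondeg hS hnd
  have k1 : ∀ C ∈ linePartners S A, ∃ u ∈ U, C = conjBy A u := by
    intro C hC
    obtain ⟨Q, hQ, hle, q1, q2, q3, q4, q5⟩ := line_lemma' hS.1 hA hC hB hr
    have hl := q2.line hS.1 hA (hN A hA)
    rw [q3] at hl
    have hE : ⁅Q, B⁆ ≤ U := (Subgroup.commutator_le_sup _ _).trans (sup_le (hU Q hl) hBU)
    by_cases e : C ≠ Q
    · obtain ⟨e, he, h⟩ := (q5 C (line_mem hC) le_sup_right e).1
      exact ⟨e, hE he, h⟩
    push Not at e
    subst e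
    obtain ⟨D, hD, hrD⟩ := hN C hQ
    obtain ⟨Q', hQ', hle', r1, r2, r3, -⟩ := line_lemma' hS.1 hQ (line_symm hA hC) hD hrD
    rw [sup_comm] at hle'
    obtain ⟨e, he, rfl⟩ := (q5 Q' hQ' hle' (r3 ▸ (r2.ne_comm hS.1).symm)).1
    have s1 := r1.conj hS.1 e⁻¹
    have s2 := r2.conj hS.1 e⁻¹
    have s3 := congrArg (conjBy · e⁻¹) r3
    simp only [conjBy_commutator, conjBy_inv_conjBy, q1.cA.conjBy_eq (Subgroup.inv_mem _ he)]
      at s1 s2 s3
    obtain ⟨d, hd, hd1⟩ := exists_ne_one hS.1 s1.mem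
    have hdU := hU _ (s1.line hS.1 hA (hN A hA)) hd
    obtain ⟨e', he', h⟩ := (q5 _ (hS.1.conj_mem C hQ d) (by
      have := conjBy_le_sup_commutator (A := C) hd
      rwa [s3, sup_comm] at this) (s2.conj_ne hS.1 (hN C hQ) hd hd1)).1
    exact ⟨d⁻¹ * e', U.mul_mem (U.inv_mem hdU) (hE he'), (conjBy_eq_conjBy_iff.1 h.symm).symm⟩
  have k2 : ∀ C ∈ S, ∃ u ∈ U, C = conjBy A u := by
    intro C hC
    have h := e_connected hS hnd A hA C hC
    clear hC
    induction h with
    | refl => exact ⟨1, U.one_mem, by simp⟩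
    | @tail B C _ h ih =>
      obtain ⟨u, hu, rfl⟩ := ih
      have := line_conj hS.1 h.2.2 u⁻¹
      rw [conjBy_inv_conjBy] at this
      obtain ⟨v, hv, e⟩ := k1 _ this
      exact ⟨u * v, U.mul_mem hu hv, by rw [← conjBy_conjBy, ← e, conjBy_conjBy_inv]⟩
  have hAU : A ≤ U := by
    obtain ⟨u, hu, e⟩ := k2 B hB
    rw [eq_comm, conjBy_eq_iff] at e
    exact e ▸ conjBy_le_of_mem hBU (U.inv_mem hu)
  rw [eq_top_iff, ← hS.1.generates]
  refine iSup₂_le fun C hC => ?_
  obtain ⟨u, hu, rfl⟩ := k2 C hC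
  exact conjBy_le_of_mem hAU hu

theorem conjBy_normal (N : Subgroup G) [N.Normal] (g : G) : conjBy N g = N :=
  mem_normalizer_iff_conjBy.1 (by rw [Subgroup.normalizer_eq_top]; trivial)

theorem eq_top_of_member_le (hS : IsRootSubgroupClass S) (hA : A ∈ S) {N : Subgroup G} [N.Normal]
    (h : A ≤ N) : N = ⊤ := by
  rw [eq_top_iff, ← hS.1.generates]
  refine iSup₂_le fun C hC => ?_
  obtain ⟨g, rfl⟩ := hS.2.2 A hA C hC
  exact conjBy_normal N g ▸ conjBy_mono h g

theorem commutator_conj_le_normal (h : Comm A B) {N : Subgroup G} [hN : N.Normal] {n : G}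
    (hn : n ∈ N) : ⁅A, conjBy B n⁆ ≤ N := by
  rw [Subgroup.commutator_le]
  intro a ha b hb
  obtain ⟨b, hb', rfl⟩ := mem_conjBy'.1 hb
  rw [← QuotientGroup.eq_one_iff, commutatorElement_def]
  have h1 : (n : G ⧸ N) = 1 := (QuotientGroup.eq_one_iff n).2 hn
  have h2 : ((a : G ⧸ N) * b) = b * a := by
    rw [← QuotientGroup.mk_mul, h a ha b hb', QuotientGroup.mk_mul]
  simp only [QuotientGroup.mk_mul, QuotientGroup.mk_inv, h1, one_mul, inv_one, mul_one, h2]
  group

/-- normal subgroups of a group generated by a class of root subgroups -/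
theorem normal_dichotomy (hS : IsRootSubgroupClass S)
    (hp : IsDegenerateRootSet S → ∀ A ∈ S, ∀ B ∈ S, IsRankOnePair A B → ⁅A ⊔ B, A ⊔ B⁆ = A ⊔ B)
    (N : Subgroup G) [hN : N.Normal] :
    N = ⊤ ∨ ∀ A ∈ S, ∀ n ∈ N, CSub S A (conjBy A n) := by
  by_cases h : N = ⊤
  · exact Or.inl h
  right
  have k0 : ∀ A ∈ S, ¬ A ≤ N := fun A hA hle => h (eq_top_of_member_le hS hA hle)
  have k1 : ∀ A ∈ S, ∀ n ∈ N, Comm A (conjBy A n) := by
    intro A hA n hn
    have hle := commutator_conj_le_normal (self_comm hS.1 hA) hn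
    rcases tri hS.1 hA (hS.1.conj_mem A hA n) with h1 | h1 | h1
    · exact h1
    · exfalso
      by_cases hd : IsDegenerateRootSet S
      · have h2 := hp hd A hA _ (hS.1.conj_mem A hA n) h1
        refine k0 A hA (le_sup_left.trans (h2.ge.trans ?_))
        have h3 : A ⊔ conjBy A n ≤ N ⊔ A :=
          sup_le le_sup_right (conjBy_le_of_mem le_sup_right (Subgroup.mem_sup_left hn))
        refine (Subgroup.commutator_mono h3 h3).trans ?_
        rw [Subgroup.commutator_le]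
        intro x hx y hy
        obtain ⟨n1, hn1, a1, ha1, rfl⟩ := (mem_sup_of_norm fun a _ => conjBy_normal N a).1 hx
        obtain ⟨n2, hn2, a2, ha2, rfl⟩ := (mem_sup_of_norm fun a _ => conjBy_normal N a).1 hy
        rw [← QuotientGroup.eq_one_iff, commutatorElement_def]
        have h1 : (n1 : G ⧸ N) = 1 := (QuotientGroup.eq_one_iff _).2 hn1
        have h1' : (n2 : G ⧸ N) = 1 := (QuotientGroup.eq_one_iff _).2 hn2
        have h2 : ((a1 : G ⧸ N) * a2) = a2 * a1 := by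
          rw [← QuotientGroup.mk_mul, self_comm hS.1 hA a1 ha1 a2 ha2, QuotientGroup.mk_mul]
        simp only [QuotientGroup.mk_mul, QuotientGroup.mk_inv, h1, h1', one_mul, h2]
        group
      · obtain ⟨Q, hQ, h2, -⟩ := exists_line_psi hS hd hA (hS.1.conj_mem A hA n) h1
        exact k0 _ h2.mem (commutator_conj_le_normal (line_comm hQ).symm hn)
    · exact absurd hle (k0 _ h1.mem)
  intro A hA n hn C hC hc
  have hle := commutator_conj_le_normal hc hn
  rcases tri hS.1 hC (hS.1.conj_mem A hA n) with h1 | h1 | h1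
  · exact h1
  · exfalso
    rcases r1_normal_dichotomy h1 (N := N) (fun x _ => conjBy_normal N x) with ⟨m, hm, -, e⟩ | h2
    · exact r1_not_comm h1 (e ▸ k1 C hC m hm)
    · exact r1_not_comm_commutator h1 fun x hx c hc =>
        h2 x (hle hx) (Subgroup.commutator_le_sup _ _ hx) c (Subgroup.mem_sup_left hc)
  · exact absurd hle (k0 _ h1.mem)

theorem le_center_of_normalizes (hS : IsRootSubgroupSet S) (hNI : ∀ A ∈ S, NI S A)
    (N : Subgroup G) [hN : N.Normal] (h : ∀ A ∈ S, ∀ n ∈ N, conjBy A n = A) :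
    N ≤ Subgroup.center G := by
  intro n hn
  refine mem_center_of_comm hS fun A hA a ha => ?_
  obtain ⟨B, hB, hr⟩ := hNI A hA
  have h1 : n * a * n⁻¹ * a⁻¹ ∈ A :=
    A.mul_mem (h A hA n hn ▸ conj_mem_conjBy ha n) (A.inv_mem ha)
  have h2 : n * a * n⁻¹ * a⁻¹ ∈ N := by
    have := N.mul_mem hn (hN.conj_mem _ (N.inv_mem hn) a)
    simpa only [mul_assoc] using this
  have := r1_norm hr h1 (h B hB _ h2)
  calc n * a = (n * a * n⁻¹ * a⁻¹) * (a * n) := by group
    _ = _ := by rw [this, one_mul]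

theorem perfect_of_class (hS : IsRootSubgroupClass S) (hA : A ∈ S) (hB : B ∈ S)
    (hr : IsRankOnePair A B)
    (hp : IsDegenerateRootSet S → ∀ A ∈ S, ∀ B ∈ S, IsRankOnePair A B → ⁅A ⊔ B, A ⊔ B⁆ = A ⊔ B) :
    commutator G = ⊤ := by
  by_cases hd : IsDegenerateRootSet S
  · refine eq_top_of_member_le hS hA (le_sup_left.trans ((hp hd A hA B hB hr).ge.trans ?_))
    exact Subgroup.commutator_mono le_top le_top
  · simp only [IsDegenerateRootSet, not_forall, not_not] at hd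
    obtain ⟨P, hP, Q, hQ, h⟩ := hd
    exact eq_top_of_member_le hS h.1 (Subgroup.commutator_mono le_top le_top)

end Cfsg.Agent.Lib.Root
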