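import Cfsg.Agent.Lib.Root.Quad4
import Cfsg.Agent.Lib.Root.Sub4

set_option autoImplicit false

/-! Quadratic pairs: non-opposite pairs of root subgroups. -/

namespace Cfsg.Agent.Lib.Root

open Cfsg Polynomial LinearMap

variable {k : Type*} [Field k] {M : Type*} [AddCommGroup M] [Module k M]
  {G : Subgroup (GLM k M)} {x y z u v w a b F : Module.End k M}

/-- the flag attached to a non-opposite pair -/
noncomputable def flag3 (x y : Module.End k M) : ℕ → Submodule k M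
  | 0 => ⊤
  | 1 => range x ⊔ range y
  | 2 => (range x ⊓ ker y) ⊔ (range y ⊓ ker x)
  | _ + 3 => ⊥

theorem flag3_anti : Antitone (flag3 x y) := by
  refine antitone_nat_of_succ_le fun n => ?_
  match n with
  | 0 => exact le_top
  | 1 => exact sup_le_sup inf_le_left inf_le_left
  | 2 => exact bot_le
  | _ + 3 => exact le_rfl

theorem flag3_symm : flag3 x y = flag3 y x := by
  funext n
  match n with
  | 0 => rfl
  | 1 => exact sup_comm _ _
  | 2 => exact sup_comm _ _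
  | _ + 3 => rfl

theorem low_flag3 (hu : u ∈ ES G x) (h : y * (u * y) = 0) : Low (flag3 x y) 1 u := by
  intro n m hm
  have k1 : ∀ m ∈ range x, u m = 0 := fun m hm => hu.2.1 (Submodule.mem_sup_right hm)
  match n, hm with
  | 0, _ => exact Submodule.mem_sup_left (ES.range_le hu ⟨m, rfl⟩)
  | 1, hm =>
    obtain ⟨m1, h1, _, ⟨m2, rfl⟩, rfl⟩ := Submodule.mem_sup.1 hm
    rw [map_add, k1 m1 h1, zero_add]
    exact Submodule.mem_sup_left ⟨ES.range_le hu ⟨_, rfl⟩, LinearMap.congr_fun h m2⟩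
  | 2, hm =>
    obtain ⟨m1, h1, m2, h2, rfl⟩ := Submodule.mem_sup.1 hm
    rw [map_add, k1 m1 h1.1, zero_add]
    exact ES.ker_le hu h2.2
  | n + 3, hm =>
    rw [(Submodule.mem_bot k).1 hm, map_zero]
    exact Submodule.zero_mem _

theorem stabF_eq_bot {F : ℕ → Submodule k M} {hF : Antitone F} {n : ℕ} (h0 : F 0 = ⊤)
    (hn : F n = ⊥) : stabF F hF n = ⊥ := by
  rw [eq_bot_iff]
  intro g hg
  rw [Subgroup.mem_bot]
  ext m
  have := hg.1 0 m (h0 ▸ trivial)
  rw [zero_add, hn, Submodule.mem_bot] at this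
  simpa [sub_eq_zero] using this

theorem commutator_un (hu : u * u = 0) (hv : v * v = 0) (e1 : u * (v * u) = 0) (e2 : v * (u * v) = 0) :
    ((un u hu * un v hv * (un u hu)⁻¹ * (un v hv)⁻¹ : GLM k M) : Module.End k M) - 1 =
      u * v - v * u := by
  have e1' : ∀ r, u * (v * (u * r)) = 0 := fun r => by rw [← mul_assoc v, ← mul_assoc, e1, zero_mul]
  have hu' : ∀ r, u * (u * r) = 0 := fun r => by rw [← mul_assoc, hu, zero_mul]
  simp only [Units.val_mul, coe_un, coe_un_inv, mul_sub, sub_mul, mul_add, add_mul, mul_assoc, hu,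
    hv, hu', e1', e1, e2, mul_one, one_mul, mul_zero, zero_mul]
  abel

theorem fixed_EG_sup (hx : Nz G x) (hy : Nz G y) :
    fixedSubmodule (EG G x ⊔ EG G y) = ker x ⊓ ker y := by
  apply le_antisymm
  · refine le_inf (iInf₂_le_of_le _ (Subgroup.mem_sup_left (un_mem_EG (self_mem_ES hx))) ?_)
      (iInf₂_le_of_le _ (Subgroup.mem_sup_right (un_mem_EG (self_mem_ES hy))) ?_) <;> simp
  · let Y : Subgroup (GLM k M) :=
      { carrier := {g | ∀ m ∈ ker x ⊓ ker y, (g : Module.End k M) m = m}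
        one_mem' := fun _ _ => rfl
        mul_mem' := fun {g h} hg hh m hm => by
          rw [Units.val_mul, Module.End.mul_apply, hh m hm, hg m hm]
        inv_mem' := fun {g} hg m hm => by
          conv_lhs => rw [← hg m hm]
          rw [← Module.End.mul_apply, Units.inv_mul]; rfl }
    have : EG G x ⊔ EG G y ≤ Y := sup_le
      (fun g hg m hm => by simpa [sub_eq_zero] using ES.ker_le hg hm.1)
      (fun g hg m hm => by simpa [sub_eq_zero] using ES.ker_le hg hm.2)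
    exact le_iInf₂ fun g hg m hm => by simpa [sub_eq_zero] using this hg m hm

theorem comm_EG_sup (hx : Nz G x) (hy : Nz G y) :
    commutatorSubmodule (EG G x ⊔ EG G y) = range x ⊔ range y := by
  apply le_antisymm
  · let Y : Subgroup (GLM k M) :=
      { carrier := {g | ∀ m, (g : Module.End k M) m - m ∈ range x ⊔ range y}
        one_mem' := fun _ => by simp
        mul_mem' := fun {g h} hg hh m => by
          simpa using Submodule.add_mem _ (hg ((h : Module.End k M) m)) (hh m)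
        inv_mem' := fun {g} hg m => by
          have := Submodule.neg_mem _ (hg (((g⁻¹ : GLM k M) : Module.End k M) m))
          rw [← Module.End.mul_apply, Units.mul_inv] at this
          simpa using this }
    have : EG G x ⊔ EG G y ≤ Y := sup_le
      (fun g hg m => Submodule.mem_sup_left (ES.range_le hg ⟨m, rfl⟩))
      (fun g hg m => Submodule.mem_sup_right (ES.range_le hg ⟨m, rfl⟩))
    refine iSup₂_le fun g hg => ?_
    rintro _ ⟨m, rfl⟩
    exact this hg m
  · refine sup_le (le_iSup₂_of_le _ (Subgroup.mem_sup_left (un_mem_EG (self_mem_ES hx))) ?_)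
      (le_iSup₂_of_le _ (Subgroup.mem_sup_right (un_mem_EG (self_mem_ES hy))) ?_) <;> simp

theorem fixed_EG (hx : Nz G x) : fixedSubmodule (EG G x) = ker x := by
  simpa using fixed_EG_sup hx hx

theorem comm_EG (hx : Nz G x) : commutatorSubmodule (EG G x) = range x := by
  simpa using comm_EG_sup hx hx

theorem comm_EG_iff : Comm (EG G x) (EG G y) ↔ ∀ u ∈ ES G x, ∀ v ∈ ES G y, u * v = v * u := by
  constructor
  · intro h u hu v hv
    have := congrArg Units.val (h _ (un_mem_EG hu) _ (un_mem_EG hv))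
    simp only [Units.val_mul, coe_un, mul_add, add_mul, mul_one, one_mul] at this
    rw [← sub_eq_zero, ← sub_eq_zero.2 this]; abel
  · intro h g hg g' hg'
    obtain ⟨u, hu, rfl⟩ := EG.exists hg
    obtain ⟨v, hv, rfl⟩ := EG.exists hg'
    apply Units.ext
    simp only [Units.val_mul, coe_un, mul_add, add_mul, mul_one, one_mul, h u hu v hv]
    abel

variable [FiniteDimensional k M]

theorem rk_mul_add (a b : Module.End k M) :
    rk (a * b) + Module.finrank k (range b ⊓ ker a : Submodule k M) = rk b := by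
  have := LinearMap.finrank_range_add_finrank_ker (a.domRestrict (range b))
  rw [range_domRestrict, ker_domRestrict, ← Submodule.finrank_map_subtype_eq (range b),
    Submodule.map_comap_subtype, ← LinearMap.range_comp] at this
  exact this

theorem comm_struct (hx : Nd G x) (hy : Nd G y) (e1 : x * (y * x) = 0) (e2 : y * (x * y) = 0)
    (h0 : x * y - y * x ≠ 0) :
    Nd G (x * y - y * x) ∧ range (x * y - y * x) = flag3 x y 2 ∧
      ker (x * y - y * x) = (range x ⊔ ker y) ⊓ (range y ⊔ ker x) ∧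
      Disjoint (range x ⊓ ker y) (range y ⊓ ker x) := by
  have hw := hx.1.comm hy.1 e1 e2
  have a1 : range (x * y) ≤ range x ⊓ ker y := le_inf (range_mul_le _ _) (range_le_ker_of_mul e2)
  have a2 : range (y * x) ≤ range y ⊓ ker x := le_inf (range_mul_le _ _) (range_le_ker_of_mul e1)
  have a3 : range (x * y - y * x) ≤ range (x * y) ⊔ range (y * x) := by
    rintro _ ⟨m, rfl⟩
    exact Submodule.sub_mem _ (Submodule.mem_sup_left ⟨m, rfl⟩) (Submodule.mem_sup_right ⟨m, rfl⟩)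
  have a4 := a3.trans (sup_le_sup a1 a2)
  have b1 := rk_mul_add x y
  have b2 := rk_mul_add y x
  have b3 := hx.rk_eq hy
  have b4 := hx.2.2 _ hw h0
  have b5 := Submodule.finrank_mono a1
  have b6 := Submodule.finrank_mono a2
  have b7 := Submodule.finrank_mono a3
  have b8 := Submodule.finrank_mono a4
  have b9 := Submodule.finrank_sup_add_finrank_inf_eq (range (x * y)) (range (y * x))
  have b10 := Submodule.finrank_sup_add_finrank_inf_eq (range x ⊓ ker y) (range y ⊓ ker x)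
  unfold rk at b1 b2 b3 b4
  have c1 : range (x * y) = range x ⊓ ker y := Submodule.eq_of_le_of_finrank_le a1 (by omega)
  have c2 : range (y * x) = range y ⊓ ker x := Submodule.eq_of_le_of_finrank_le a2 (by omega)
  have c3 : Disjoint (range x ⊓ ker y) (range y ⊓ ker x) := by
    rw [disjoint_iff, ← Submodule.finrank_eq_zero]
    rw [c1, c2] at *
    omega
  refine ⟨hx.of_rk_le hw h0 (by unfold rk; omega), Submodule.eq_of_le_of_finrank_le a4 (by
    change Module.finrank k ((range x ⊓ ker y) ⊔ (range y ⊓ ker x) : Submodule k M) ≤ _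
    rw [c1, c2] at *
    omega), ?_, c3⟩
  have key : ∀ {x y : Module.End k M}, range (y * x) = range y ⊓ ker x → ∀ m, x (y m) = 0 →
      m ∈ range x ⊔ ker y := by
    intro x y c m hm
    obtain ⟨m', e⟩ : y m ∈ range (y * x) := c ▸ ⟨⟨m, rfl⟩, hm⟩
    exact Submodule.mem_sup.2 ⟨x m', ⟨m', rfl⟩, m - x m', by
      rw [mem_ker, map_sub, ← e]; simp, by simp⟩
  have key2 : ∀ {x y : Module.End k M}, x * (y * x) = 0 → ∀ m ∈ range x ⊔ ker y, x (y m) = 0 := by
    intro x y c m hm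
    obtain ⟨_, ⟨m1, rfl⟩, m2, h2, rfl⟩ := Submodule.mem_sup.1 hm
    rw [map_add, h2, add_zero]
    exact LinearMap.congr_fun c m1
  ext m
  constructor
  · intro hm
    have e : x (y m) = y (x m) := sub_eq_zero.1 hm
    have : x (y m) = 0 := Submodule.disjoint_def.1 c3 _ (a1 ⟨m, rfl⟩) (e ▸ a2 ⟨m, rfl⟩)
    exact ⟨key c2 m this, key c1 m (e ▸ this)⟩
  · intro hm
    change x (y m) - y (x m) = 0
    rw [key2 e1 m hm.1, key2 e2 m hm.2, sub_zero]

section char

variable (hk2 : ringChar k ≠ 2) (hk3 : Nat.card k ≠ 3)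
include hk2 hk3

theorem sup_le_stabF (h : ¬ Op x y) (hx : Nd G x) (hy : Nd G y) :
    EG G x ⊔ EG G y ≤ stabF (flag3 x y) flag3_anti 1 := by
  have h' : ¬ Op y x := fun e => h (e.symm hk2 hy hx.1)
  refine sup_le (le_stabF fun g hg => low_flag3 hg ?_) (le_stabF fun g hg => ?_)
  · exact not_op_mul hk2 hk3 h' hy hx (self_mem_ES hy.1) hg (self_mem_ES hy.1)
  · rw [flag3_symm]
    exact low_flag3 hg (not_op_mul hk2 hk3 h hx hy (self_mem_ES hx.1) hg (self_mem_ES hx.1))

theorem unip_of_not_op (h : ¬ Op x y) (hx : Nd G x) (hy : Nd G y) :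
    IsUnipotentOn (EG G x ⊔ EG G y) :=
  unip_mono (unip_stabF flag3_anti (n := 3) rfl rfl) (sup_le_stabF hk2 hk3 h hx hy)

theorem class_two_of_not_op (h : ¬ Op x y) (hx : Nd G x) (hy : Nd G y) :
    ⁅⁅EG G x ⊔ EG G y, EG G x ⊔ EG G y⁆, EG G x ⊔ EG G y⁆ = ⊥ := by
  have h1 := sup_le_stabF hk2 hk3 h hx hy
  have h2 : ⁅EG G x ⊔ EG G y, EG G x ⊔ EG G y⁆ ≤ stabF (flag3 x y) flag3_anti 2 :=
    Subgroup.commutator_le.2 fun g hg g' hg' => stabF_comm (h1 hg) (h1 hg')
  rw [eq_bot_iff, ← stabF_eq_bot (F := flag3 x y) (hF := flag3_anti) (n := 3) rfl rfl]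
  exact Subgroup.commutator_le.2 fun g hg g' hg' => stabF_comm (h2 hg) (h1 hg')

theorem exists_op (hG : NoUnip G) (hx : Nd G x) : ∃ y, Nd G y ∧ Op x y := by
  by_contra hn
  push Not at hn
  let W : Set (Subgroup (GLM k M)) := {A | ∃ u, Nd G u ∧ (∀ y, Nd G y → ¬ Op u y) ∧ A = EG G u}
  have h1 : ∀ A ∈ W, A ≤ G := by rintro _ ⟨u, -, -, rfl⟩; exact EG_le
  have h2 : ∀ A ∈ W, ∀ g ∈ G, conjBy A g ∈ W := by
    rintro _ ⟨u, hu, h, rfl⟩ g hg
    refine ⟨_, hu.conj (inG_of_mem hg) (Units.mul_inv g), fun y hy e => ?_, conjBy_EG hg⟩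
    refine h _ (hy.conj (inG_of_mem (G.inv_mem hg)) (Units.inv_mul g)) fun e' => e ?_
    have := congrArg (fun r => (g : Module.End k M) * r * (g⁻¹ : GLM k M)) e'
    simpa [mul_assoc] using this
  have := hG _ (iSup₂_le h1) (conjBy_iSup_eq h2) (unip_of_pairwise h1 (by
    rintro _ ⟨u, hu, h, rfl⟩ _ ⟨v, hv, -, rfl⟩
    exact unip_of_not_op hk2 hk3 (h v hv) hu hv) h2)
  exact EG_ne_bot hx.1 hx.2.1 (eq_bot_iff.2 (this ▸ le_iSup₂_of_le _ ⟨x, hx, hn, rfl⟩ le_rfl))

theorem finrank_comm (hG : NoUnip G) (hx : Nd G x) (hy : Nd G y) (e2 : y * (x * y) = 0)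
    (hw : Nd G (x * y - y * x)) :
    Module.finrank k (ES G (x * y - y * x)) = Module.finrank k (ES G x) := by
  obtain ⟨d, hd, h⟩ := exists_op hk2 hk3 hG hw
  have h' := h.symm hk2 hw hd.1
  rw [h.finrank_eq hk2 hk3 hw hd]
  by_cases c : Op d x
  · exact c.finrank_eq hk2 hk3 hd hx
  have hx' := hx.conj hy.1.one_sub hy.1.sub_mul_add
  rw [← finrank_ES_conj (x := x) hy.1.one_sub hy.1.sub_mul_add]
  refine Op.finrank_eq hk2 hk3 (fun e => h' ?_) hd hx'
  have : x * y - y * x = (1 - y) * x * (1 + y) - x := by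
    simp only [mul_sub, sub_mul, mul_add, add_mul, mul_assoc, e2, mul_one, one_mul]; abel
  rw [this, sub_mul, mul_sub, e, not_not.1 c, sub_zero]

theorem psi_struct (hG : NoUnip G) (h : ¬ Op x y) (hx : Nd G x) (hy : Nd G y)
    (hc : ¬ Comm (EG G x) (EG G y)) :
    ∃ w, Nd G w ∧ range w = flag3 x y 2 ∧ ker w = (range x ⊔ ker y) ⊓ (range y ⊔ ker x) ∧
      ⁅EG G x, EG G y⁆ = EG G w ∧
      (∀ a ∈ EG G x, ∀ b ∈ EG G y, a * b = b * a → a = 1 ∨ b = 1) ∧
      (∀ a ∈ EG G x, a ≠ 1 → ∀ c ∈ EG G w, ∃ b ∈ EG G y, c = a * b * a⁻¹ * b⁻¹) ∧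
      (∀ b ∈ EG G y, b ≠ 1 → ∀ c ∈ EG G w, ∃ a ∈ EG G x, c = a * b * a⁻¹ * b⁻¹) := by
  have h' : ¬ Op y x := fun e => h (e.symm hk2 hy hx.1)
  have m1 : ∀ u ∈ ES G x, ∀ v ∈ ES G y, u * (v * u) = 0 := fun u hu v hv =>
    not_op_mul hk2 hk3 h hx hy hu hv hu
  have m2 : ∀ u ∈ ES G x, ∀ v ∈ ES G y, v * (u * v) = 0 := fun u hu v hv =>
    not_op_mul hk2 hk3 h' hy hx hv hu hv
  have st : ∀ u ∈ ES G x, ∀ v ∈ ES G y, u * v - v * u ≠ 0 → Nd G (u * v - v * u) ∧
      range (u * v - v * u) = flag3 x y 2 ∧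
      ker (u * v - v * u) = (range x ⊔ ker y) ⊓ (range y ⊔ ker x) ∧
      Disjoint (range x ⊓ ker y) (range y ⊓ ker x) := by
    intro u hu v hv h0
    have u0 : u ≠ 0 := fun e => h0 (by simp [e])
    have v0 : v ≠ 0 := fun e => h0 (by simp [e])
    have := comm_struct (hx.of_mem_ES hu u0) (hy.of_mem_ES hv v0) (m1 u hu v hv) (m2 u hu v hv) h0
    simpa only [flag3, hx.ker_of_mem_ES hu u0, hx.range_of_mem_ES hu u0, hy.ker_of_mem_ES hv v0,
      hy.range_of_mem_ES hv v0] using this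
  rw [comm_EG_iff] at hc
  push Not at hc
  obtain ⟨u₀, hu₀, v₀, hv₀, h0⟩ := hc
  obtain ⟨hw, w1, w2, w3⟩ := st u₀ hu₀ v₀ hv₀ (sub_ne_zero.2 h0)
  have mem : ∀ u ∈ ES G x, ∀ v ∈ ES G y, u * v - v * u ∈ ES G (u₀ * v₀ - v₀ * u₀) := by
    intro u hu v hv
    by_cases e : u * v - v * u = 0
    · rw [e]; exact Submodule.zero_mem _
    obtain ⟨a1, a2, a3, -⟩ := st u hu v hv e
    exact (mem_ES hw.1.1).2 ⟨a1.1, by rw [a3, w2], by rw [a2, w1]⟩
  have ne : ∀ u ∈ ES G x, ∀ v ∈ ES G y, u * v = v * u → u = 0 ∨ v = 0 := by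
    intro u hu v hv e
    by_contra hn
    push Not at hn
    have z1 : u * v = 0 := by
      ext m
      refine Submodule.disjoint_def.1 w3 _ ⟨ES.range_le hu ⟨_, rfl⟩, ?_⟩ ⟨?_, ?_⟩
      · rw [← hy.ker_of_mem_ES hv hn.2]; exact LinearMap.congr_fun (m2 u hu v hv) m
      · rw [e]; exact ES.range_le hv ⟨_, rfl⟩
      · rw [← hx.ker_of_mem_ES hu hn.1, e]; exact LinearMap.congr_fun (m1 u hu v hv) m
    have z2 := range_le_ker_of_mul (e ▸ z1)
    have z3 := range_le_ker_of_mul z1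
    rw [hx.range_of_mem_ES hu hn.1, hy.ker_of_mem_ES hv hn.2] at z2
    rw [hy.range_of_mem_ES hv hn.2, hx.ker_of_mem_ES hu hn.1] at z3
    apply h0
    rw [mul_eq_zero_of_range_le (((ES.range_le hv₀).trans z3).trans (ES.ker_le hu₀)),
      mul_eq_zero_of_range_le (((ES.range_le hu₀).trans z2).trans (ES.ker_le hv₀))]
  have u0 : u₀ ≠ 0 := fun e => h0 (by simp [e])
  have v0 : v₀ ≠ 0 := fun e => h0 (by simp [e])
  have f1 := finrank_comm hk2 hk3 hG (hx.of_mem_ES hu₀ u0) (hy.of_mem_ES hv₀ v0) (m2 _ hu₀ _ hv₀) hw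
  have f2 := finrank_comm hk2 hk3 hG (hy.of_mem_ES hv₀ v0) (hx.of_mem_ES hu₀ u0) (m1 _ hu₀ _ hv₀)
    (by simpa using hw.neg)
  rw [hx.ES_eq hu₀ u0] at f1
  rw [hy.ES_eq hv₀ v0, ← neg_sub, ES_neg] at f2
  have s1 : ∀ u ∈ ES G x, u ≠ 0 → ∀ c ∈ ES G (u₀ * v₀ - v₀ * u₀), ∃ v ∈ ES G y, c = u * v - v * u := by
    intro u hu u0 c hc
    let φ : ES G y →ₗ[k] ES G (u₀ * v₀ - v₀ * u₀) :=
      (mulLeft k u - mulRight k u).restrict fun v hv => mem u hu v hv
    have : Function.Surjective φ := by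
      rw [← LinearMap.injective_iff_surjective_of_finrank_eq_finrank f2.symm, injective_iff_map_eq_zero]
      intro v hv
      exact Subtype.ext ((ne u hu v v.2 (sub_eq_zero.1 (congrArg Subtype.val hv))).resolve_left u0)
    obtain ⟨v, e⟩ := this ⟨c, hc⟩
    exact ⟨v, v.2, (congrArg Subtype.val e).symm⟩
  have s2 : ∀ v ∈ ES G y, v ≠ 0 → ∀ c ∈ ES G (u₀ * v₀ - v₀ * u₀), ∃ u ∈ ES G x, c = u * v - v * u := by
    intro v hv v0 c hc
    let φ : ES G x →ₗ[k] ES G (u₀ * v₀ - v₀ * u₀) :=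
      (mulRight k v - mulLeft k v).restrict fun u hu => mem u hu v hv
    have : Function.Surjective φ := by
      rw [← LinearMap.injective_iff_surjective_of_finrank_eq_finrank f1.symm, injective_iff_map_eq_zero]
      intro u hu
      exact Subtype.ext ((ne u u.2 v hv (sub_eq_zero.1 (congrArg Subtype.val hu))).resolve_right v0)
    obtain ⟨u, e⟩ := this ⟨c, hc⟩
    exact ⟨u, u.2, (congrArg Subtype.val e).symm⟩
  have t1 : ∀ a ∈ EG G x, a ≠ 1 → ∀ c ∈ EG G (u₀ * v₀ - v₀ * u₀),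
      ∃ b ∈ EG G y, c = a * b * a⁻¹ * b⁻¹ := by
    intro a ha a1 c hc
    obtain ⟨u, hu, u0, rfl⟩ := EG.exists_ne ha a1
    obtain ⟨v, hv, e⟩ := s1 u hu u0 _ hc
    refine ⟨_, un_mem_EG hv, Units.ext (sub_left_injective (b := 1) ?_)⟩
    exact e.trans (commutator_un _ _ (m1 u hu v hv) (m2 u hu v hv)).symm
  refine ⟨_, hw, w1, w2, le_antisymm (Subgroup.commutator_le.2 fun a ha b hb => ?_) fun c hc => ?_,
    fun a ha b hb e => ?_, t1, fun b hb b1 c hc => ?_⟩
  · obtain ⟨u, hu, rfl⟩ := EG.exists ha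
    obtain ⟨v, hv, rfl⟩ := EG.exists hb
    rw [mem_EG, commutatorElement_def, commutator_un _ _ (m1 u hu v hv) (m2 u hu v hv)]
    exact mem u hu v hv
  · obtain ⟨b, hb, rfl⟩ := t1 _ (un_mem_EG hu₀) (un_ne_one _ u0) c hc
    exact comm_mem (un_mem_EG hu₀) hb
  · obtain ⟨u, hu, rfl⟩ := EG.exists ha
    obtain ⟨v, hv, rfl⟩ := EG.exists hb
    have := commutator_un (ES.nz hu).1 (ES.nz hv).1 (m1 u hu v hv) (m2 u hu v hv)
    rw [e, mul_inv_cancel_right, mul_inv_cancel, Units.val_one, sub_self, eq_comm, sub_eq_zero] at this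
    refine (ne u hu v hv this).imp (fun e => Units.ext ?_) (fun e => Units.ext ?_) <;> simp [e]
  · obtain ⟨v, hv, v0, rfl⟩ := EG.exists_ne hb b1
    obtain ⟨u, hu, e⟩ := s2 v hv v0 _ hc
    refine ⟨_, un_mem_EG hu, Units.ext (sub_left_injective (b := 1) ?_)⟩
    exact e.trans (commutator_un _ _ (m1 u hu v hv) (m2 u hu v hv)).symm

theorem psi_of_not_op (hG : NoUnip G) (h : ¬ Op x y) (hx : Nd G x) (hy : Nd G y)
    (hc : ¬ Comm (EG G x) (EG G y)) : Psi (quadraticRootSubgroups G) (EG G x) (EG G y) := by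
  obtain ⟨w, hw, -, -, e, -, s1, s2⟩ := psi_struct hk2 hk3 hG h hx hy hc
  have h2 := comm_iff.2 (class_two_of_not_op hk2 hk3 h hx hy)
  have h3 : ⁅EG G x, EG G y⁆ ≤ ⁅EG G x ⊔ EG G y, EG G x ⊔ EG G y⁆ :=
    Subgroup.commutator_mono le_sup_left le_sup_right
  exact ⟨mem_roots_iff.2 ⟨w, hw, e⟩, h2.mono h3 le_sup_left, h2.mono h3 le_sup_right, e ▸ s1, e ▸ s2⟩

theorem Op.not_unip (h : Op x y) (hx : Nd G x) (hy : Nd G y) :
    ¬ IsUnipotentOn (EG G x ⊔ EG G y) := by
  intro hu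
  obtain ⟨n, hn⟩ := unip_iff.1 hu
  obtain ⟨F, hF, h1, -⟩ := exists_pair hk2 hk3 hx hy h
  have : ∀ n, range x ≤ ser (EG G x ⊔ EG G y) n := by
    intro n
    induction n with
    | zero => exact le_top
    | succ n ih =>
      rintro _ ⟨m, rfl⟩
      have := mem_ser_succ (Subgroup.mem_sup_left (un_mem_EG (self_mem_ES hx.1)))
        (mem_ser_succ (Subgroup.mem_sup_right (un_mem_EG hF)) (ih ⟨m, rfl⟩))
      rw [coe_un, coe_un, add_sub_cancel_left, add_sub_cancel_left] at this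
      rw [show x (F (x m)) = x m from LinearMap.congr_fun h1 m] at this
      exact ser_anti (Nat.le_succ _) this
  exact hx.2.1 (range_eq_bot.1 (eq_bot_iff.2 (hn ▸ this n)))

theorem sup_subset_core (hG : NoUnip G) (h : ¬ Op x y) (hx : Nd G x) (hy : Nd G y)
    (hc : ¬ Comm (EG G x) (EG G y)) :
    ((EG G x ⊔ EG G y : Subgroup (GLM k M)) : Set (GLM k M)) ⊆
      quadraticUnipotentCore G ⁅EG G x, EG G y⁆ := by
  have hp := psi_of_not_op hk2 hk3 hG h hx hy hc
  obtain ⟨w, hw, w1, w2, e, -⟩ := psi_struct hk2 hk3 hG h hx hy hc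
  have h' : ¬ Op y x := fun e => h (e.symm hk2 hy hx.1)
  let F : ℕ → Submodule k M := fun n => match n with
    | 0 => ⊤
    | 1 => ker w
    | 2 => range w
    | _ + 3 => ⊥
  have hF : Antitone F := by
    refine antitone_nat_of_succ_le fun n => ?_
    match n with
    | 0 => exact le_top
    | 1 => exact range_le_ker_of_mul hw.1.1
    | 2 => exact bot_le
    | _ + 3 => exact le_rfl
  have key : ∀ {x y : Module.End k M}, ¬ Op y x → Nd G x → Nd G y → range w = flag3 x y 2 →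
      ker w = (range x ⊔ ker y) ⊓ (range y ⊔ ker x) → EG G x ≤ stabF F hF 1 := by
    intro x y h hx hy w1 w2
    refine le_stabF fun g hg n m hm => ?_
    have hl := low_flag3 hg
      (not_op_mul hk2 hk3 h hy hx (self_mem_ES hy.1) hg (self_mem_ES hy.1))
    match n, hm with
    | 0, _ =>
      change _ ∈ ker w
      rw [w2]
      exact ⟨Submodule.mem_sup_left (ES.range_le hg ⟨m, rfl⟩), Submodule.mem_sup_right
        (range_le_ker_of_mul hx.1.1 (ES.range_le hg ⟨m, rfl⟩))⟩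
    | 1, hm =>
      change m ∈ ker w at hm
      change _ ∈ range w
      rw [w2] at hm
      obtain ⟨m1, h1, m2, h2, rfl⟩ := Submodule.mem_sup.1 hm.2
      rw [map_add, ES.ker_le hg h2, add_zero, w1]
      exact hl 1 m1 (Submodule.mem_sup_right h1)
    | 2, hm =>
      change m ∈ range w at hm
      rw [w1] at hm
      exact hl 2 m hm
    | n + 3, hm =>
      rw [(Submodule.mem_bot k).1 hm, map_zero]
      exact Submodule.zero_mem _
  have hs : EG G x ⊔ EG G y ≤ stabF F hF 1 :=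
    sup_le (key h' hx hy w1 w2) (key h hy hx (by rw [w1, flag3_symm]) (by rw [w2, inf_comm]))
  intro g hg
  refine ⟨sup_le EG_le EG_le hg, mem_normalizer_iff_conjBy.2 ((hp.cA.sup_right hp.cB).conjBy_eq' hg),
    ?_, ?_, ?_⟩
  · rw [e, fixed_EG hw.1]
    exact fun m => (hs hg).1 0 m trivial
  · rw [e, fixed_EG hw.1, comm_EG hw.1]
    exact fun m hm => (hs hg).1 1 m hm
  · rw [e, comm_EG hw.1]
    exact fun m hm => sub_eq_zero.1 ((hs hg).1 2 m hm)

theorem quad_tri (hG : NoUnip G) {A B : Subgroup (GLM k M)} (hA : A ∈ quadraticRootSubgroups G)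
    (hB : B ∈ quadraticRootSubgroups G) :
    Comm A B ∨ IsSpecialRankOnePair A B ∨ Psi (quadraticRootSubgroups G) A B := by
  obtain ⟨x, hx, rfl⟩ := mem_roots_iff.1 hA
  obtain ⟨y, hy, rfl⟩ := mem_roots_iff.1 hB
  by_cases h : Op x y
  · exact Or.inr (Or.inl (h.special hk2 hk3 hx hy))
  by_cases hc : Comm (EG G x) (EG G y)
  · exact Or.inl hc
  · exact Or.inr (Or.inr (psi_of_not_op hk2 hk3 hG h hx hy hc))

theorem op_of_r1 (hx : Nd G x) (hy : Nd G y) (h : IsRankOnePair (EG G x) (EG G y)) : Op x y := by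
  by_contra hn
  have h2 := comm_iff.2 (class_two_of_not_op hk2 hk3 hn hx hy)
  exact r1_not_comm_commutator h
    (h2.mono (Subgroup.commutator_mono le_sup_left le_sup_right) le_sup_left)

omit [FiniteDimensional k M] in
theorem three_lt_card : 3 < ENat.card k := by
  cases finite_or_infinite k with
  | inl h =>
    have := five_le_card hk2 hk3
    rw [ENat.card_eq_coe_natCard]
    exact_mod_cast (by omega : 3 < Nat.card k)
  | inr h => rw [ENat.card_eq_top_of_infinite]; exact ENat.coe_lt_top 3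

omit hk2 hk3 [FiniteDimensional k M] in
theorem exists_hom_of_pair (xx : x * x = 0) (FF : F * F = 0) (h1 : x * (F * x) = x)
    (h2 : F * (x * F) = F) :
    ∃ φ : Matrix.SpecialLinearGroup (Fin 2) k →* GLM k M,
      (∀ t, (φ (xu t) : Module.End k M) = 1 + t • x) ∧
      (∀ t, (φ (xl t) : Module.End k M) = 1 + t • F) ∧
      (φ (-1) : Module.End k M) = 1 - (x * F + F * x) - (x * F + F * x) := by
  have xx' : ∀ r, x * (x * r) = 0 := fun r => by rw [← mul_assoc, xx, zero_mul]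
  have FF' : ∀ r, F * (F * r) = 0 := fun r => by rw [← mul_assoc, FF, zero_mul]
  have e1 : (x * F + F * x) * x = x := by simp [add_mul, mul_assoc, xx, h1]
  have e2 : (x * F + F * x) * F = F := by simp [add_mul, mul_assoc, FF, h2]
  have e3 : x * (x * F + F * x) = x := by simp [mul_add, xx', h1]
  have e4 : F * (x * F + F * x) = F := by simp [mul_add, FF', h2]
  let ι : k →ₙ+* Module.End k M :=
    { toFun := fun c => c • (x * F + F * x)
      map_zero' := zero_smul _ _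
      map_add' := fun a b => add_smul _ _ _
      map_mul' := fun a b => by
        rw [smul_mul_assoc, mul_smul_comm, smul_smul, add_mul, mul_assoc, mul_assoc, e3, e4] }
  have hι : ∀ c, ι c = c • (x * F + F * x) := fun _ => rfl
  obtain ⟨φ, a1, a2, a3, -⟩ := exists_sl2_hom ι (E := x) (F := F)
    (fun a => by rw [hι, smul_mul_assoc, mul_smul_comm, e1, e3])
    (fun a => by rw [hι, smul_mul_assoc, mul_smul_comm, e2, e4]) xx FF (by rw [hι, one_smul])
    (by rw [hι, one_smul, e1]) (by rw [hι, one_smul, e2])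
  exact ⟨φ, fun t => by rw [a1, hι, smul_mul_assoc, e1], fun t => by rw [a2, hι, smul_mul_assoc, e2],
    by rw [a3, hι, one_smul]⟩

theorem exists_psl2 {A B : Subgroup (GLM k M)} (hA : A ∈ quadraticRootSubgroups G)
    (hB : B ∈ quadraticRootSubgroups G) (h : IsRankOnePair A B) :
    ∃ A₀ B₀ : Subgroup (GLM k M), A₀ ≤ A ∧ B₀ ≤ B ∧ IsPSL2PairOver k A₀ B₀ := by
  obtain ⟨x, hx, rfl⟩ := mem_roots_iff.1 hA
  obtain ⟨y, hy, rfl⟩ := mem_roots_iff.1 hB
  obtain ⟨F, hF, h1, h2⟩ := exists_pair hk2 hk3 hx hy (op_of_r1 hk2 hk3 hx hy h)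
  obtain ⟨φ, a1, a2, -⟩ := exists_hom_of_pair hx.1.1 (ES.nz hF).1 h1 h2
  have b1 : (upperUnipotentSL2 k).map φ ≤ EG G x := by
    rintro _ ⟨g, hg, rfl⟩
    obtain ⟨t, rfl⟩ := mem_upper.1 hg
    rw [mem_EG, a1, add_sub_cancel_left]
    exact Submodule.smul_mem _ _ (self_mem_ES hx.1)
  have b2 : (lowerUnipotentSL2 k).map φ ≤ EG G y := by
    rintro _ ⟨g, hg, rfl⟩
    obtain ⟨t, rfl⟩ := mem_lower.1 hg
    rw [mem_EG, a2, add_sub_cancel_left]
    exact Submodule.smul_mem _ _ hF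
  refine ⟨_, _, b1, b2, psl2_of_hom φ rfl rfl fun e => hx.2.1 ?_⟩
  have m1 : φ (xu 1) ∈ (upperUnipotentSL2 k).map φ := ⟨_, mem_upper.2 ⟨1, rfl⟩, rfl⟩
  have := congrArg Units.val (r1_eq_one_of_mem h (b1 m1) (b2 (e ▸ m1)))
  simpa [a1] using this

end char

end Cfsg.Agent.Lib.Root
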