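import Cfsg.Agent.Lib.Root.Special

set_option autoImplicit false

/-! Abstract root subgroups: first properties. -/

namespace Cfsg.Agent.Lib.Root

open Cfsg

variable {G : Type*} [Group G] {S : Set (Subgroup G)} {A B C D : Subgroup G}

/-- A convenient form of the commutator case. -/
structure Psi (S : Set (Subgroup G)) (A B : Subgroup G) : Prop where
  mem : ⁅A, B⁆ ∈ S
  cA : Comm ⁅A, B⁆ A
  cB : Comm ⁅A, B⁆ B
  surjL : ∀ a ∈ A, a ≠ 1 → ∀ c ∈ ⁅A, B⁆, ∃ b ∈ B, c = a * b * a⁻¹ * b⁻¹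
  surjR : ∀ b ∈ B, b ≠ 1 → ∀ c ∈ ⁅A, B⁆, ∃ a ∈ A, c = a * b * a⁻¹ * b⁻¹

theorem comm_mem {a b : G} (ha : a ∈ A) (hb : b ∈ B) : a * b * a⁻¹ * b⁻¹ ∈ ⁅A, B⁆ :=
  Subgroup.commutator_mem_commutator ha hb

theorem comm_mem' {a b : G} (ha : a ∈ A) (hb : b ∈ B) : b * a * b⁻¹ * a⁻¹ ∈ ⁅A, B⁆ := by
  rw [Subgroup.commutator_comm]; exact comm_mem hb ha

theorem Psi.symm (h : Psi S A B) : Psi S B A := by
  have e := Subgroup.commutator_comm B A
  refine ⟨e ▸ h.mem, e ▸ h.cB, e ▸ h.cA, fun b hb hb1 c hc => ?_, fun a ha ha1 c hc => ?_⟩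
  · obtain ⟨a, ha, e'⟩ := h.surjR b hb hb1 c⁻¹ (Subgroup.inv_mem _ (e ▸ hc))
    exact ⟨a, ha, by rw [← inv_inv c, e']; group⟩
  · obtain ⟨b, hb, e'⟩ := h.surjL a ha ha1 c⁻¹ (Subgroup.inv_mem _ (e ▸ hc))
    exact ⟨b, hb, by rw [← inv_inv c, e']; group⟩

theorem comm_mul_right_of_central (hB : Comm ⁅A, B⁆ B) {a b b' : G} (ha : a ∈ A) (hb : b ∈ B)
    (hb' : b' ∈ B) :
    a * (b * b') * a⁻¹ * (b * b')⁻¹ = (a * b * a⁻¹ * b⁻¹) * (a * b' * a⁻¹ * b'⁻¹) := by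
  have := hB _ (comm_mem ha hb') b hb
  calc a * (b * b') * a⁻¹ * (b * b')⁻¹
      = (a * b * a⁻¹ * b⁻¹) * (b * (a * b' * a⁻¹ * b'⁻¹)) * b⁻¹ := by group
    _ = _ := by rw [← this]; group

theorem closure_image_comm (hB : Comm ⁅A, B⁆ B) {a : G} (ha : a ∈ A) {c : G}
    (hc : c ∈ Subgroup.closure ((fun b : G => a * b * a⁻¹ * b⁻¹) '' (B : Set G))) :
    ∃ b ∈ B, c = a * b * a⁻¹ * b⁻¹ := by
  induction hc using Subgroup.closure_induction with
  | mem x hx => obtain ⟨b, hb, rfl⟩ := hx; exact ⟨b, hb, rfl⟩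
  | one => exact ⟨1, B.one_mem, by simp⟩
  | mul x y _ _ hx hy =>
    obtain ⟨b, hb, rfl⟩ := hx
    obtain ⟨b', hb', rfl⟩ := hy
    exact ⟨b * b', B.mul_mem hb hb', (comm_mul_right_of_central hB ha hb hb').symm⟩
  | inv x _ hx =>
    obtain ⟨b, hb, rfl⟩ := hx
    refine ⟨b⁻¹, B.inv_mem hb, ?_⟩
    rw [inv_eq_iff_mul_eq_one, ← comm_mul_right_of_central hB ha hb (B.inv_mem hb)]
    simp

theorem closure_image_comm_swap (b : G) :
    Subgroup.closure ((fun a : G => a * b * a⁻¹ * b⁻¹) '' (A : Set G)) =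
      Subgroup.closure ((fun a : G => b * a * b⁻¹ * a⁻¹) '' (A : Set G)) := by
  rw [← Subgroup.closure_inv]
  congr 1
  ext x
  simp only [Set.mem_inv, Set.mem_image]
  constructor
  · rintro ⟨a, ha, e⟩; exact ⟨a, ha, by rw [← inv_inv x, ← e]; group⟩
  · rintro ⟨a, ha, rfl⟩; exact ⟨a, ha, by group⟩

theorem psi_iff : Psi S A B ↔ RootCommutatorCase S A B := by
  constructor
  · intro h
    refine ⟨h.mem, fun c hc x hx => (h.cA.sup_right h.cB) c hc x hx, fun a ha ha1 => ?_,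
      fun b hb hb1 => ?_⟩
    · apply le_antisymm
      · rw [Subgroup.closure_le]; rintro _ ⟨b, hb, rfl⟩; exact comm_mem ha hb
      · intro c hc
        obtain ⟨b, hb, rfl⟩ := h.surjL a ha ha1 c hc
        exact Subgroup.subset_closure ⟨b, hb, rfl⟩
    · apply le_antisymm
      · rw [Subgroup.closure_le]; rintro _ ⟨a, ha, rfl⟩; exact comm_mem ha hb
      · intro c hc
        obtain ⟨a, ha, rfl⟩ := h.surjR b hb hb1 c hc
        exact Subgroup.subset_closure ⟨a, ha, rfl⟩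
  · rintro ⟨h1, h2, h3, h4⟩
    have cA : Comm ⁅A, B⁆ A := fun c hc x hx => h2 c hc x (Subgroup.mem_sup_left hx)
    have cB : Comm ⁅A, B⁆ B := fun c hc x hx => h2 c hc x (Subgroup.mem_sup_right hx)
    refine ⟨h1, cA, cB, fun a ha ha1 c hc => ?_, fun b hb hb1 c hc => ?_⟩
    · rw [← h3 a ha ha1] at hc
      exact closure_image_comm cB ha hc
    · have hc' := Subgroup.inv_mem _ hc
      rw [← h4 b hb hb1, closure_image_comm_swap] at hc'
      obtain ⟨a, ha, e⟩ := closure_image_comm (Subgroup.commutator_comm A B ▸ cA) hb hc'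
      exact ⟨a, ha, by rw [← inv_inv c, e]; group⟩

theorem Psi.conj (hS : IsRootSubgroupSet S) (h : Psi S A B) (g : G) :
    Psi S (conjBy A g) (conjBy B g) := by
  have e := conjBy_commutator A B g
  refine ⟨e ▸ hS.conj_mem _ h.mem g, e ▸ h.cA.conj g, e ▸ h.cB.conj g, fun a ha ha1 c hc => ?_,
    fun b hb hb1 c hc => ?_⟩
  · rw [← e] at hc
    obtain ⟨a, ha', rfl⟩ := mem_conjBy'.1 ha
    obtain ⟨c, hc', rfl⟩ := mem_conjBy'.1 hc
    obtain ⟨b, hb, rfl⟩ := h.surjL a ha' (by rintro rfl; simp at ha1) c hc'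
    exact ⟨_, conj_mem_conjBy hb g, by group⟩
  · rw [← e] at hc
    obtain ⟨b, hb', rfl⟩ := mem_conjBy'.1 hb
    obtain ⟨c, hc', rfl⟩ := mem_conjBy'.1 hc
    obtain ⟨a, ha, rfl⟩ := h.surjR b hb' (by rintro rfl; simp at hb1) c hc'
    exact ⟨_, conj_mem_conjBy ha g, by group⟩

theorem tri (hS : IsRootSubgroupSet S) (hA : A ∈ S) (hB : B ∈ S) :
    Comm A B ∨ IsRankOnePair A B ∨ Psi S A B := by
  rw [comm_iff, psi_iff]; exact hS.pair A hA B hB

theorem self_comm (hS : IsRootSubgroupSet S) (hA : A ∈ S) : Comm A A :=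
  comm_self_iff.2 (hS.commutative A hA)

theorem exists_ne_one (hS : IsRootSubgroupSet S) (hA : A ∈ S) : ∃ a ∈ A, a ≠ 1 :=
  exists_ne_one_of_ne_bot (hS.ne_bot A hA)

theorem Psi.not_comm (hS : IsRootSubgroupSet S) (h : Psi S A B) : ¬ Comm A B := by
  rw [comm_iff]; exact hS.ne_bot _ h.mem

theorem conjBy_le_sup_commutator {b : G} (hb : b ∈ B) : conjBy A b ≤ A ⊔ ⁅A, B⁆ := by
  intro x hx
  obtain ⟨a, ha, rfl⟩ := mem_conjBy'.1 hx
  have : b * a * b⁻¹ = (b * a * b⁻¹ * a⁻¹) * a := by group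
  rw [this]
  exact Subgroup.mul_mem _ (Subgroup.mem_sup_right (comm_mem' ha hb)) (Subgroup.mem_sup_left ha)

theorem Psi.comm_conj (h : Psi S A B) (hA : Comm A A) {b : G} (hb : b ∈ B) :
    Comm (conjBy A b) A :=
  (hA.sup_left h.cA).mono (conjBy_le_sup_commutator hb) le_rfl

theorem Psi.not_r1 (h : Psi S A B) (hA : Comm A A) : ¬ IsRankOnePair A B := by
  intro hr
  obtain ⟨b, hb, hb1⟩ := exists_ne_one_of_ne_bot (r1_ne_bot' hr)
  exact r1_not_comm (r1_right_conj (r1_symm hr) hb hb1) (h.comm_conj hA hb).symm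

theorem r1_of_not_comm_conj (hS : IsRootSubgroupSet S) (hA : A ∈ S) (hB : B ∈ S) {b : G}
    (hb : b ∈ B) (h : ¬ Comm (conjBy A b) A) : IsRankOnePair A B := by
  rcases tri hS hA hB with h1 | h1 | h1
  · rw [h1.conjBy_eq' hb] at h; exact absurd (self_comm hS hA) h
  · exact h1
  · exact absurd (h1.comm_conj (self_comm hS hA) hb) h

theorem r1_of_r1_conj (hS : IsRootSubgroupSet S) (hA : A ∈ S) (hB : B ∈ S) {b : G}
    (hb : b ∈ B) (h : IsRankOnePair A (conjBy A b)) : IsRankOnePair A B :=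
  r1_of_not_comm_conj hS hA hB hb fun hc => r1_not_comm h hc.symm

theorem commutator_conjBy_eq {x : G} (hx : x ∈ A ⊔ B) : conjBy ⁅A, B⁆ x = ⁅A, B⁆ :=
  mem_normalizer_iff_conjBy.1
    (sup_le (Subgroup.normalizer_commutator_ge_left A B) (Subgroup.normalizer_commutator_ge_right A B) hx)

/-- in a rank one pair, `A` is not in the second centre -/
theorem r1_not_comm_commutator (h : IsRankOnePair A B) : ¬ Comm ⁅A, B⁆ A := by
  intro hc
  obtain ⟨b, hb, hb1⟩ := exists_ne_one_of_ne_bot (r1_ne_bot' h)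
  refine r1_not_conj_of_central_comm (r1_right_conj (r1_symm h) hb hb1) rfl fun a ha a' ha' => ?_
  exact hc _ (comm_mem' ha hb) a' ha'

theorem psi_of_mem (hS : IsRootSubgroupSet S) (hA : A ∈ S) (hB : B ∈ S) (hC : ⁅A, B⁆ ∈ S) :
    Psi S A B := by
  rcases tri hS hA hB with h1 | h1 | h1
  · exact absurd (comm_iff.1 h1) (hS.ne_bot _ hC)
  · exfalso
    rcases r1_normal_dichotomy h1 (N := ⁅A, B⁆) (fun x hx => commutator_conjBy_eq hx) with
      ⟨n, hn, -, e⟩ | h2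
    · rcases tri hS hA hC with h3 | h3 | h3
      · exact r1_not_comm_commutator h1 h3.symm
      · obtain ⟨a, ha, ha1⟩ := exists_ne_one hS hA
        exact ha1 (r1_norm h3 ha (commutator_conjBy_eq (Subgroup.mem_sup_left ha)))
      · exact r1_not_comm h1 (e ▸ (h3.comm_conj (self_comm hS hA) hn).symm)
    · exact r1_not_comm_commutator h1 fun c hc a ha =>
        h2 c hc (Subgroup.commutator_le_sup A B hc) a (Subgroup.mem_sup_left ha)
  · exact h1

theorem unip_mem (hS : IsRootSubgroupSet S) (hA : A ∈ S) (hC : C ∈ unipotentSubgroups A B) :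
    C ∈ S := by
  obtain ⟨x, -, rfl⟩ := hC
  exact hS.conj_mem A hA x

theorem mem_unip_of_r1 (h : IsRankOnePair C D) {E : Subgroup G} (hE : E ∈ unipotentSubgroups C D)
    (hA : A ≤ C ⊔ D) (hr : IsRankOnePair A E) : A ∈ unipotentSubgroups C D := by
  obtain ⟨x, hx, e⟩ := r1_exists_swap (r1_symm hr)
  rw [← e]
  exact unip_conj_mem hE (sup_le (unip_le hE) hA hx)

theorem unip_or_central (hS : IsRootSubgroupSet S) (hC : C ∈ S) (h : IsRankOnePair C D)
    (hA : A ∈ S) (hle : A ≤ C ⊔ D) : A ∈ unipotentSubgroups C D ∨ Comm A (C ⊔ D) := by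
  -- a member of `S` inside `C ⊔ D` normalizes or is opposite to every unipotent subgroup
  have k1 : ∀ {A E : Subgroup G}, A ∈ S → A ≤ C ⊔ D → E ∈ unipotentSubgroups C D →
      IsRankOnePair A E ∨ ∀ a ∈ A, conjBy E a = E := by
    intro A E hA hle hE
    by_cases hr : IsRankOnePair A E
    · exact Or.inl hr
    · right
      intro a ha
      refine unip_eq_of_comm h (unip_conj_mem hE (hle ha)) hE ?_
      by_contra hc
      exact hr (r1_symm (r1_of_not_comm_conj hS (unip_mem hS hC hE) hA ha hc))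
  have k2 : ∀ E ∈ unipotentSubgroups C D, IsRankOnePair A E ∨ Comm A E := by
    intro E hE
    rcases k1 hA hle hE with h1 | h1
    · exact Or.inl h1
    rcases tri hS hA (unip_mem hS hC hE) with h2 | h2 | h2
    · exact Or.inr h2
    · exact Or.inl h2
    exfalso
    have hFE : ⁅A, E⁆ ≤ E := Subgroup.le_normalizer_iff_commutator_le_right.1 fun a ha =>
      mem_normalizer_iff_conjBy.2 (h1 a ha)
    obtain ⟨E', hE', hne⟩ : ∃ E' ∈ unipotentSubgroups C D, E ≠ E' := by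
      by_cases e : E = C
      · exact ⟨D, right_mem_unip h, e ▸ h.ne⟩
      · exact ⟨C, left_mem_unip, e⟩
    obtain ⟨f, hf, hf1⟩ := exists_ne_one hS h2.mem
    rcases k1 h2.mem (hFE.trans (unip_le hE)) hE' with h3 | h3
    · have hF := mem_unip_of_r1 h hE' (hFE.trans (unip_le hE)) h3
      have : ⁅A, E⁆ = E := unip_eq_of_norm h hF hE hf hf1 (conjBy_of_mem (hFE hf))
      exact h2.not_comm hS (this ▸ h2.cA).symm
    · exact hne (unip_eq_of_norm h hE hE' (hFE hf) hf1 (h3 f hf))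
  rcases k2 C left_mem_unip with h1 | h1
  · exact Or.inl (mem_unip_of_r1 h left_mem_unip hle h1)
  rcases k2 D (right_mem_unip h) with h2 | h2
  · exact Or.inl (mem_unip_of_r1 h (right_mem_unip h) hle h2)
  · exact Or.inr (h1.sup_right h2)

theorem central_translate (hS : IsRootSubgroupSet S) (hB : B ∈ S)
    (h : IsRankOnePair A B) {z : G} (hzA : ∀ x ∈ A, z * x = x * z) (hzB : ∀ x ∈ B, z * x = x * z)
    {a : G} (ha : a ∈ A) (ha1 : a ≠ 1) (hC : C ∈ S) (hm : z * a ∈ C) : z = 1 := by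
  have e : conjBy B (z * a) = conjBy B a := by
    rw [hzA a ha, ← conjBy_conjBy, conjBy_eq_of_commute hzB]
  have hr : IsRankOnePair B C := r1_of_r1_conj hS hB hC hm (e ▸ r1_right_conj h ha ha1)
  have hm1 : z * a ≠ 1 := by
    intro e'; rw [e', conjBy_one] at e; exact r1_conj_ne h ha ha1 e.symm
  have e2 : C ⊔ B = A ⊔ B := by
    rw [← sup_right_conj (r1_symm hr) hm hm1, e, sup_right_conj h ha ha1]
  have hCu : C ∈ unipotentSubgroups A B :=
    mem_unip_of_r1 h (right_mem_unip h) (e2 ▸ le_sup_left) (r1_symm hr)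
  have : C = A := by
    refine unip_eq_of_norm h hCu left_mem_unip hm hm1 ?_
    rw [← conjBy_conjBy, conjBy_of_mem ha, conjBy_eq_of_commute hzA]
  rw [this] at hm
  have hz : z ∈ A := by simpa using A.mul_mem hm (A.inv_mem ha)
  exact r1_norm h hz (conjBy_eq_of_commute hzB)

/-- `A` has a rank one partner in `S`. -/
def NI (S : Set (Subgroup G)) (A : Subgroup G) : Prop := ∃ B ∈ S, IsRankOnePair A B

theorem ni_of_not_isolated (hA : A ∈ S) (h : ¬ IsIsolatedIn (FAdj S) S A) : NI S A := by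
  by_contra hn
  apply h
  refine ⟨hA, fun B => ⟨fun hB => hn ⟨B, hB.2.1, hB.2.2⟩, fun hB => hn ⟨B, hB.1, r1_symm hB.2.2⟩⟩⟩

theorem not_isolated_of_ni (hA : A ∈ S) (h : NI S A) : ¬ IsIsolatedIn (FAdj S) S A := by
  obtain ⟨B, hB, hr⟩ := h
  exact fun hi => (hi.2 B).1 ⟨hA, hB, hr⟩

theorem NI.conj (hS : IsRootSubgroupSet S) (h : NI S A) (g : G) : NI S (conjBy A g) := by
  obtain ⟨B, hB, hr⟩ := h
  exact ⟨_, hS.conj_mem B hB g, r1_conj hr g⟩

theorem ti (hS : IsRootSubgroupSet S) (hA : NI S A) (hB : B ∈ S) {a : G} (ha : a ∈ A) (hb : a ∈ B)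
    (ha1 : a ≠ 1) : A = B := by
  obtain ⟨D, hD, h⟩ := hA
  have hr : IsRankOnePair D B := r1_of_r1_conj hS hD hB hb (r1_right_conj h ha ha1)
  have e2 : B ⊔ D = A ⊔ D := by
    rw [← sup_right_conj (r1_symm hr) hb ha1, sup_right_conj h ha ha1]
  have hCu : B ∈ unipotentSubgroups A D :=
    mem_unip_of_r1 h (right_mem_unip h) (e2 ▸ le_sup_left) (r1_symm hr)
  exact unip_eq_of_norm h left_mem_unip hCu ha ha1 (conjBy_of_mem hb)

theorem Psi.ne_comm (hS : IsRootSubgroupSet S) (h : Psi S A B) : A ≠ ⁅A, B⁆ := by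
  intro e
  exact h.not_comm hS (e ▸ h.cB)

theorem Psi.eq_one_of_mem (hS : IsRootSubgroupSet S) (h : Psi S A B) (hA : NI S A) {a : G}
    (ha : a ∈ A) (hc : a ∈ ⁅A, B⁆) : a = 1 := by
  by_contra ha1
  exact h.ne_comm hS (ti hS hA h.mem ha hc ha1)

theorem Psi.inj (hS : IsRootSubgroupSet S) (h : Psi S A B) (hAS : A ∈ S) (hA : NI S A) {a b : G}
    (ha : a ∈ A) (ha1 : a ≠ 1) (hb : b ∈ B) (e : a * b = b * a) : b = 1 := by
  by_contra hb1
  have e1 : A = conjBy A b := by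
    refine ti hS hA (hS.conj_mem A hAS b) ha ?_ ha1
    rw [mem_conjBy, mul_assoc, e]; simpa using ha
  obtain ⟨c, hc, hc1⟩ := exists_ne_one hS h.mem
  obtain ⟨a', ha', rfl⟩ := h.surjR b hb hb1 c hc
  refine hc1 (h.eq_one_of_mem hS hA ?_ hc)
  have : b * a'⁻¹ * b⁻¹ ∈ A := e1 ▸ conj_mem_conjBy (A.inv_mem ha') b
  simpa [mul_assoc] using A.mul_mem ha' this

theorem Psi.inj' (hS : IsRootSubgroupSet S) (h : Psi S A B) (hAS : A ∈ S) (hA : NI S A) {a b b' : G}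
    (ha : a ∈ A) (ha1 : a ≠ 1) (hb : b ∈ B) (hb' : b' ∈ B)
    (e : a * b * a⁻¹ * b⁻¹ = a * b' * a⁻¹ * b'⁻¹) : b = b' := by
  have := h.inj hS hAS hA ha ha1 (B.mul_mem (B.inv_mem hb') hb) (by
    calc a * (b'⁻¹ * b) = a * b'⁻¹ * a⁻¹ * (a * b * a⁻¹ * b⁻¹) * b * a := by group
      _ = _ := by rw [e]; group)
  rw [inv_mul_eq_one] at this
  exact this.symm

theorem Psi.cover (h : Psi S A B) {x : G} (hx : x ∈ A ⊔ ⁅A, B⁆) :
    x ∈ ⁅A, B⁆ ∨ ∃ b ∈ B, x ∈ conjBy A b := by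
  obtain ⟨a, ha, c, hc, rfl⟩ := h.cA.symm.mem_sup.1 hx
  by_cases ha1 : a = 1
  · left; rwa [ha1, one_mul]
  · right
    obtain ⟨b, hb, e⟩ := h.surjL a ha ha1 c⁻¹ (Subgroup.inv_mem _ hc)
    refine ⟨b, hb, mem_conjBy'.2 ⟨a, ha, ?_⟩⟩
    rw [← h.cA c hc a ha, ← inv_inv c, e]; group

theorem Psi.members (hS : IsRootSubgroupSet S) (h : Psi S A B) (hAS : A ∈ S) (hA : NI S A)
    (hD : D ∈ S) (hle : D ≤ A ⊔ ⁅A, B⁆) : (∃ b ∈ B, D = conjBy A b) ∨ D = ⁅A, B⁆ := by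
  by_cases h1 : ∃ b ∈ B, D = conjBy A b
  · exact Or.inl h1
  right
  have hDC : D ≤ ⁅A, B⁆ := by
    intro x hx
    rcases h.cover (hle hx) with h2 | ⟨b, hb, h2⟩
    · exact h2
    · by_cases hx1 : x = 1
      · rw [hx1]; exact Subgroup.one_mem _
      · exact absurd ⟨b, hb, (ti hS (hA.conj hS b) hD h2 hx hx1).symm⟩ h1
  obtain ⟨d, hd, hd1⟩ := exists_ne_one hS hD
  obtain ⟨E, hE, hr⟩ := hA
  have nc : ¬ Comm D E := by
    intro hc
    obtain ⟨a, ha, ha1⟩ := exists_ne_one hS hAS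
    obtain ⟨b, hb, e⟩ := h.symm.surjR a ha ha1 d (Subgroup.commutator_comm A B ▸ hDC hd)
    refine hd1 (central_translate hS hE hr (h.cA d (hDC hd)) (hc d hd) ha ha1
      (hS.conj_mem A hAS b) ?_)
    rw [e, inv_mul_cancel_right]
    exact conj_mem_conjBy ha b
  rcases tri hS hE hD with h2 | h2 | h2
  · exact absurd h2.symm nc
  · exact ti hS ⟨E, hE, r1_symm h2⟩ h.mem hd (hDC hd) hd1
  rcases tri hS hE h.mem with h3 | h3 | h3
  · exact absurd (h3.symm.mono hDC le_rfl) nc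
  · exact (ti hS ⟨E, hE, r1_symm h3⟩ hD (hDC hd) hd hd1).symm
  refine le_antisymm hDC fun c hc => ?_
  obtain ⟨e, he, he1⟩ := exists_ne_one hS hE
  obtain ⟨e', he', e1⟩ := h3.surjR d (hDC hd) hd1 _ (comm_mem he hc)
  obtain ⟨d', hd', e2⟩ := h2.surjL e he he1 _ (comm_mem he' hd)
  have := h3.inj' hS hE ⟨A, hAS, r1_symm hr⟩ he he1 hc (hDC hd') (e1.trans e2)
  rwa [this]

theorem Psi.partition (hS : IsRootSubgroupSet S) (h : Psi S A B) (hAS : A ∈ S) (hA : NI S A) :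
    IsSubgroupPartition (A ⊔ ⁅A, B⁆) (membersIn S (A ⊔ ⁅A, B⁆)) := by
  refine ⟨fun C hC => hC.2, fun x hx _ => ?_, fun C hC D hD hne => ?_⟩
  · rcases h.cover hx with h1 | ⟨b, hb, h1⟩
    · exact ⟨_, ⟨h.mem, le_sup_right⟩, h1⟩
    · exact ⟨_, ⟨hS.conj_mem A hAS b, conjBy_le_sup_commutator hb⟩, h1⟩
  · rw [eq_bot_iff]
    rintro x ⟨hxC, hxD⟩
    by_contra hx1
    apply hne
    rcases h.members hS hAS hA hC.1 hC.2 with ⟨b, -, rfl⟩ | rfl
    · exact ti hS (hA.conj hS b) hD.1 hxC hxD hx1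
    rcases h.members hS hAS hA hD.1 hD.2 with ⟨b, -, rfl⟩ | rfl
    · exact (ti hS (hA.conj hS b) hC.1 hxD hxC hx1).symm
    · rfl

theorem line_symm (hA : A ∈ S) (h : B ∈ linePartners S A) : A ∈ linePartners S B := by
  obtain ⟨⟨-, h1, h2⟩, h3⟩ := h
  exact ⟨⟨hA, h1.symm, by rwa [Subgroup.commutator_comm]⟩, by rwa [sup_comm]⟩

theorem Psi.line (hS : IsRootSubgroupSet S) (h : Psi S A B) (hAS : A ∈ S) (hA : NI S A) :
    ⁅A, B⁆ ∈ linePartners S A :=
  ⟨⟨h.mem, (h.ne_comm hS).symm, comm_iff.1 h.cA.symm⟩, h.partition hS hAS hA⟩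

theorem Psi.sup_conj (h : Psi S A B) {b : G} (hb : b ∈ B) (hb1 : b ≠ 1) :
    A ⊔ conjBy A b = A ⊔ ⁅A, B⁆ := by
  refine le_antisymm (sup_le le_sup_left (conjBy_le_sup_commutator hb)) (sup_le le_sup_left ?_)
  intro c hc
  obtain ⟨a, ha, rfl⟩ := h.surjR b hb hb1 c hc
  have : a * b * a⁻¹ * b⁻¹ = a * (b * a⁻¹ * b⁻¹) := by group
  rw [this]
  exact Subgroup.mul_mem _ (Subgroup.mem_sup_left ha)
    (Subgroup.mem_sup_right (conj_mem_conjBy (A.inv_mem ha) b))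

theorem Psi.conj_ne (hS : IsRootSubgroupSet S) (h : Psi S A B) (hA : NI S A) {b : G} (hb : b ∈ B)
    (hb1 : b ≠ 1) : conjBy A b ≠ A := by
  intro e
  have := h.sup_conj hb hb1
  rw [e, sup_idem] at this
  obtain ⟨c, hc, hc1⟩ := exists_ne_one hS h.mem
  exact hc1 (h.eq_one_of_mem hS hA (this ▸ Subgroup.mem_sup_right hc) hc)

theorem Psi.line_conj (hS : IsRootSubgroupSet S) (h : Psi S A B) (hAS : A ∈ S) (hA : NI S A) {b : G}
    (hb : b ∈ B) (hb1 : b ≠ 1) : conjBy A b ∈ linePartners S A :=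
  ⟨⟨hS.conj_mem A hAS b, h.conj_ne hS hA hb hb1, comm_iff.1 (h.comm_conj (self_comm hS hAS) hb).symm⟩,
    by rw [h.sup_conj hb hb1]; exact h.partition hS hAS hA⟩

theorem line_mem (h : B ∈ linePartners S A) : B ∈ S := h.1.1
theorem line_ne (h : B ∈ linePartners S A) : B ≠ A := h.1.2.1
theorem line_comm (h : B ∈ linePartners S A) : Comm A B := comm_iff.2 h.1.2.2

theorem line_cover (h : B ∈ linePartners S A) {x : G} (hx : x ∈ A ⊔ B) (hx1 : x ≠ 1) :
    ∃ D ∈ S, D ≤ A ⊔ B ∧ x ∈ D := by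
  obtain ⟨D, hD, hx⟩ := h.2.2.1 x hx hx1
  exact ⟨D, hD.1, hD.2, hx⟩

theorem line_inf (hA : A ∈ S) (h : B ∈ linePartners S A) {x : G} (hx : x ∈ A) (hx' : x ∈ B) :
    x = 1 := by
  have := h.2.2.2 A ⟨hA, le_sup_left⟩ B ⟨line_mem h, le_sup_right⟩ (line_ne h).symm
  rw [← Subgroup.mem_bot, ← this]
  exact ⟨hx, hx'⟩

theorem line_conj (hS : IsRootSubgroupSet S) (h : B ∈ linePartners S A) (g : G) :
    conjBy B g ∈ linePartners S (conjBy A g) := by
  refine ⟨⟨hS.conj_mem B (line_mem h) g, fun e => line_ne h (conjBy_inj.1 e),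
    comm_iff.1 ((line_comm h).conj g)⟩, fun C hC => hC.2, fun x hx hx1 => ?_, fun C hC D hD hne => ?_⟩
  · rw [← conjBy_sup] at hx ⊢
    obtain ⟨x, hx', rfl⟩ := mem_conjBy'.1 hx
    obtain ⟨D, hD, h1, h2⟩ := line_cover h hx' (by rintro rfl; simp at hx1)
    exact ⟨_, ⟨hS.conj_mem D hD g, conjBy_mono h1 g⟩, conj_mem_conjBy h2 g⟩
  · have k : ∀ C ∈ membersIn S (conjBy A g ⊔ conjBy B g), conjBy C g⁻¹ ∈ membersIn S (A ⊔ B) := by
      intro C hC
      refine ⟨hS.conj_mem C hC.1 _, ?_⟩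
      have := conjBy_mono hC.2 g⁻¹
      rwa [← conjBy_sup, conjBy_inv_conjBy] at this
    have := h.2.2.2 _ (k C hC) _ (k D hD) (fun e => hne (conjBy_inj.1 e))
    rwa [← conjBy_inf, conjBy_eq_bot] at this

/-- elements commuting with all members of `S` are central -/
theorem mem_center_of_comm (hS : IsRootSubgroupSet S) {z : G}
    (h : ∀ A ∈ S, ∀ a ∈ A, z * a = a * z) : z ∈ Subgroup.center G := by
  have : (⨆ A ∈ S, A) ≤ Subgroup.centralizer {z} := by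
    refine iSup₂_le fun A hA a ha => ?_
    rw [Subgroup.mem_centralizer_singleton_iff]; exact (h A hA a ha).symm
  rw [hS.generates] at this
  rw [Subgroup.mem_center_iff]
  intro g
  exact Subgroup.mem_centralizer_singleton_iff.1 (this trivial)

/-- induction over the elements of `G` -/
theorem root_induction (hS : IsRootSubgroupSet S) {P : G → Prop} (h1 : P 1)
    (hm : ∀ A ∈ S, ∀ a ∈ A, P a) (hmul : ∀ x y, P x → P y → P (x * y)) (g : G) : P g := by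
  have : g ∈ ⨆ A ∈ S, A := hS.generates ▸ trivial
  rw [iSup_subtype'] at this
  induction this using Subgroup.iSup_induction' with
  | hp A x hx => exact hm A A.2 x hx
  | h1 => exact h1
  | hmul x y _ _ hx hy => exact hmul x y hx hy

end Cfsg.Agent.Lib.Root
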