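import Cfsg.Agent.Lib.Root.Sub1

set_option autoImplicit false

/-! Abstract root subgroups: lines, connectivity. -/

namespace Cfsg.Agent.Lib.Root

open Cfsg

variable {G : Type*} [Group G] {S : Set (Subgroup G)} {A B C D : Subgroup G}

theorem lem211_psi (hS : IsRootSubgroupSet S) (hA : A ∈ S) (hC : C ∈ S)
    (hr : IsRankOnePair A C) (hAB : Comm A B) (h : Psi S B C) : Psi S A ⁅B, C⁆ := by
  obtain ⟨c, hc, hc1⟩ := exists_ne_one hS hC
  obtain ⟨e, he, he1⟩ := exists_ne_one hS h.mem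
  rcases tri hS hA h.mem with h1 | h1 | h1
  · exfalso
    obtain ⟨b, hb, rfl⟩ := h.surjR c hc hc1 e he
    refine he1 (central_translate hS hA (r1_symm hr) (h.cB _ he) (h1.symm _ he) hc hc1
      (hS.conj_mem C hC b) ?_)
    rw [inv_mul_cancel_right]
    exact conj_mem_conjBy hc b
  · exfalso
    obtain ⟨a, ha, -, e1⟩ := r1_exists' hr (C.inv_mem hc) (by simpa using hc1)
    have h2 := (h.conj hS a).conj hS c
    rw [hAB.conjBy_eq ha, ← e1, conjBy_conjBy_inv] at h2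
    obtain ⟨b, hb, rfl⟩ := h.surjR c hc hc1 e he
    have h3 := (h2.symm.comm_conj (self_comm hS hA) (conj_mem_conjBy (B.inv_mem hb) c)).conj b
    rw [conjBy_conjBy, hAB.conjBy_eq' hb] at h3
    refine r1_not_comm (r1_right_conj (r1_symm h1) he he1) ?_
    convert h3.symm using 2
    group
  · exact h1

theorem lem211_central (hS : IsRootSubgroupSet S) (hA : A ∈ S) (hC : C ∈ S)
    (hr : IsRankOnePair A C) (hAB : Comm A B) (h : Psi S B C) {b : G} (hb : b ∈ B) :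
    ∃ f ∈ ⁅A, ⁅B, C⁆⁆, (∀ x ∈ A, (f * b) * x = x * (f * b)) ∧ (∀ x ∈ C, (f * b) * x = x * (f * b)) := by
  have h1 := lem211_psi hS hA hC hr hAB h
  obtain ⟨c, hc, hc1⟩ := exists_ne_one hS hC
  obtain ⟨a, ha, -, e1⟩ := r1_exists' hr hc hc1
  have h2 := (hAB.conj c).conj a⁻¹
  rw [e1, conjBy_inv_conjBy] at h2
  have he : c * b * c⁻¹ * b⁻¹ ∈ ⁅B, C⁆ := comm_mem' hb hc
  set e := c * b * c⁻¹ * b⁻¹ with hedef
  refine ⟨a⁻¹ * e * a⁻¹⁻¹ * e⁻¹, comm_mem (A.inv_mem ha) he, fun x hx => ?_, fun x hx => ?_⟩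
  · rw [mul_assoc, ← hAB x hx b hb, ← mul_assoc, h1.cA _ (comm_mem (A.inv_mem ha) he) x hx, mul_assoc]
  · have h3 := h2 x hx _ (conj_mem_conjBy (conj_mem_conjBy hb c) a⁻¹)
    have e2 : a⁻¹ * e * a⁻¹⁻¹ * e⁻¹ * b = (a⁻¹ * (c * b * c⁻¹) * a⁻¹⁻¹) * e⁻¹ := by
      calc a⁻¹ * e * a⁻¹⁻¹ * e⁻¹ * b = a⁻¹ * e * a * (e⁻¹ * b) := by group
        _ = a⁻¹ * e * (a * b) * e⁻¹ := by rw [h.cA _ (Subgroup.inv_mem _ he) b hb]; group
        _ = _ := by rw [hAB a ha b hb, hedef]; group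
    rw [e2, mul_assoc, h.cB _ (Subgroup.inv_mem _ he) x hx, ← mul_assoc, ← h3, mul_assoc]

theorem comm_commutator {X : Subgroup G} (h1 : Comm X A) (h2 : Comm X B) : Comm X ⁅A, B⁆ :=
  (h1.sup_right h2).mono le_rfl (Subgroup.commutator_le_sup A B)

theorem lem211_eq (hS : IsRootSubgroupSet S) (hA : A ∈ S) (hB : B ∈ S) (hC : C ∈ S)
    (hr : IsRankOnePair A C) (hAB : Comm A B) (h : Psi S B C)
    (hcov : ∀ a ∈ A, ∀ b ∈ B, a * b ≠ 1 → ∃ D ∈ S, a * b ∈ D) : ⁅A, ⁅B, C⁆⁆ = B := by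
  have h1 := lem211_psi hS hA hC hr hAB h
  have hN : NI S A := ⟨C, hC, hr⟩
  have hle : B ≤ ⁅A, ⁅B, C⁆⁆ := by
    intro b hb
    by_cases hb1 : b = 1
    · rw [hb1]; exact Subgroup.one_mem _
    obtain ⟨f, hf, z1, z2⟩ := lem211_central hS hA hC hr hAB h hb
    obtain ⟨a, ha, ha1⟩ := exists_ne_one hS hA
    have hab : a * b ≠ 1 := by
      intro e
      have : b ∈ A := by rw [eq_inv_of_mul_eq_one_right e]; exact A.inv_mem ha
      have e' := ti hS hN hB this hb hb1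
      exact h.not_r1 (self_comm hS hB) (e' ▸ hr)
    obtain ⟨D, hD, hm⟩ := hcov a ha b hb hab
    obtain ⟨e, he, e1⟩ := h1.surjL a ha ha1 f hf
    have hfB : Comm B ⁅A, ⁅B, C⁆⁆ := comm_commutator hAB.symm h.cA.symm
    have hze : f * b * e = e * (f * b) := by
      rw [mul_assoc, ← h.cA e he b hb, ← mul_assoc, h1.cB f hf e he, mul_assoc]
    have hr' := r1_conj hr e
    rw [h.cB.conjBy_eq he] at hr'
    have := central_translate hS hC hr' (z := f * b) (fun x hx => by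
      obtain ⟨x, hx', rfl⟩ := mem_conjBy'.1 hx
      calc f * b * (e * x * e⁻¹) = (f * b * e) * x * e⁻¹ := by group
        _ = e * (f * b * x) * e⁻¹ := by rw [hze]; group
        _ = e * x * e⁻¹ * (e * (f * b)) * e⁻¹ := by rw [z1 x hx']; group
        _ = _ := by rw [← hze]; group) z2 (conj_mem_conjBy ha e) (by simpa using ha1) hD (by
      have : f * b * (e * a * e⁻¹) = a * b := by
        have e2 : e * a * e⁻¹ = f⁻¹ * a := by rw [e1]; group
        rw [e2, ← hfB b hb f hf, hAB a ha b hb]; group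
      rwa [this])
    rw [eq_inv_of_mul_eq_one_right this]
    exact Subgroup.inv_mem _ hf
  rcases h1.members hS hA hN hB (hle.trans le_sup_right) with ⟨e, he, e1⟩ | e1
  · exfalso
    have hr' := r1_conj hr e
    rw [h.cB.conjBy_eq he, ← e1] at hr'
    exact h.not_r1 (self_comm hS hB) hr'
  · exact e1.symm

theorem line_abelian (hS : IsRootSubgroupSet S) (hA : A ∈ S) (hB : B ∈ linePartners S A) :
    Comm (A ⊔ B) (A ⊔ B) :=
  ((self_comm hS hA).sup_right (line_comm hB)).sup_left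
    ((line_comm hB).symm.sup_right (self_comm hS (line_mem hB)))

theorem line_not_comm (hS : IsRootSubgroupSet S) (hA : A ∈ S) (hB : B ∈ linePartners S A)
    (hD : D ∈ S) (hr : IsRankOnePair A D) {Q : Subgroup G} (hQ : Q ∈ S) (hle : Q ≤ A ⊔ B) :
    ¬ Comm Q D := by
  intro hc
  obtain ⟨q, hq, hq1⟩ := exists_ne_one hS hQ
  obtain ⟨a, ha, ha1⟩ := exists_ne_one hS hA
  have haL : a ∈ A ⊔ B := Subgroup.mem_sup_left ha
  by_cases e : q * a = 1
  · have : q ∈ A := by rw [eq_inv_of_mul_eq_one_left e]; exact A.inv_mem ha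
    exact r1_not_comm ((ti hS ⟨D, hD, hr⟩ hQ this hq hq1) ▸ hr) hc
  obtain ⟨E, hE, -, hm⟩ := line_cover hB (Subgroup.mul_mem _ (hle hq) haL) e
  exact hq1 (central_translate hS hD hr
    (fun x hx => line_abelian hS hA hB q (hle hq) x (Subgroup.mem_sup_left hx)) (hc q hq) ha ha1 hE hm)

theorem line_psi_eq (hS : IsRootSubgroupSet S) (hA : A ∈ S) (hB : B ∈ linePartners S A)
    (hD : D ∈ S) (hr : IsRankOnePair A D) {Q : Subgroup G} (hQ : Q ∈ S) (hle : Q ≤ A ⊔ B)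
    (h : Psi S Q D) : ⁅A, ⁅Q, D⁆⁆ = Q := by
  refine lem211_eq hS hA hQ hD hr ((line_abelian hS hA hB).mono le_sup_left hle) h
    fun a ha q hq h1 => ?_
  obtain ⟨E, hE, -, hm⟩ := line_cover hB (Subgroup.mul_mem _ (Subgroup.mem_sup_left ha) (hle hq)) h1
  exact ⟨E, hE, hm⟩

/-- The line lemma. -/
theorem line_lemma (hS : IsRootSubgroupSet S) (hA : A ∈ S) (hB : B ∈ linePartners S A)
    (hD : D ∈ S) (hr : IsRankOnePair A D) :
    ∃ Q ∈ S, Psi S Q D ∧ Psi S A ⁅Q, D⁆ ∧ ⁅A, ⁅Q, D⁆⁆ = Q ∧ A ⊔ Q = A ⊔ B := by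
  have hBS := line_mem hB
  rcases tri hS hBS hD with h1 | h1 | h1
  · exact absurd h1 (line_not_comm hS hA hB hD hr hBS le_sup_right)
  swap
  · exact ⟨B, hBS, h1, lem211_psi hS hA hD hr (line_comm hB) h1,
      line_psi_eq hS hA hB hD hr hBS le_sup_right h1, rfl⟩
  obtain ⟨d, hd, hd1⟩ := exists_ne_one hS hD
  obtain ⟨a, ha, ha1, e1⟩ := r1_exists' hr hd hd1
  obtain ⟨b, hb, hb1, e2⟩ := r1_exists' h1 hd hd1
  have hc := ((line_comm hB).conj d).conj a⁻¹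
  rw [e1, e2, conjBy_inv_conjBy, conjBy_conjBy] at hc
  have hm : a⁻¹ * b ∈ A ⊔ B :=
    Subgroup.mul_mem _ (Subgroup.mem_sup_left (A.inv_mem ha)) (Subgroup.mem_sup_right hb)
  have hm1 : a⁻¹ * b ≠ 1 := by
    intro e; rw [inv_mul_eq_one] at e
    exact ha1 (line_inf hA hB ha (e ▸ hb))
  obtain ⟨Q, hQ, hle, hq⟩ := line_cover hB hm hm1
  have h2 : Psi S Q D := by
    rcases tri hS hQ hD with h2 | h2 | h2
    · exact absurd h2 (line_not_comm hS hA hB hD hr hQ hle)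
    · exact absurd hc (r1_not_comm (r1_right_conj h2 hq hm1))
    · exact h2
  have h3 := lem211_psi hS hA hD hr ((line_abelian hS hA hB).mono le_sup_left hle) h2
  have h4 := line_psi_eq hS hA hB hD hr hQ hle h2
  refine ⟨Q, hQ, h2, h3, h4, le_antisymm (sup_le le_sup_left hle) (sup_le le_sup_left ?_)⟩
  have hbm : b ∈ A ⊔ ⁅A, ⁅Q, D⁆⁆ := by
    rw [h4, ← mul_inv_cancel_left a b]
    exact Subgroup.mul_mem _ (Subgroup.mem_sup_left ha) (Subgroup.mem_sup_right hq)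
  rcases h3.cover hbm with h5 | ⟨e, he, h5⟩
  · rw [ti hS ⟨D, hD, h1⟩ h3.mem hb h5 hb1, h4]; exact le_sup_right
  · rw [ti hS ⟨D, hD, h1⟩ (hS.conj_mem A hA e) hb h5 hb1]
    have := conjBy_le_sup_commutator (A := A) he
    rwa [h4] at this

/-- The line lemma, packaged: `E` fixes `Q` and `D`, and is transitive on the other members. -/
theorem line_lemma' (hS : IsRootSubgroupSet S) (hA : A ∈ S) (hB : B ∈ linePartners S A)
    (hD : D ∈ S) (hr : IsRankOnePair A D) :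
    ∃ Q ∈ S, Q ≤ A ⊔ B ∧ Psi S Q D ∧ Psi S A ⁅Q, D⁆ ∧ ⁅A, ⁅Q, D⁆⁆ = Q ∧ A ⊔ Q = A ⊔ B ∧
      ∀ P ∈ S, P ≤ A ⊔ B → P ≠ Q → (∃ e ∈ ⁅Q, D⁆, P = conjBy A e) ∧ IsRankOnePair P D := by
  obtain ⟨Q, hQ, h1, h2, h3, h4⟩ := line_lemma hS hA hB hD hr
  refine ⟨Q, hQ, h4 ▸ le_sup_right, h1, h2, h3, h4, fun P hP hle hne => ?_⟩
  rcases h2.members hS hA ⟨D, hD, hr⟩ hP (by rwa [h3, h4]) with ⟨e, he, rfl⟩ | e
  · refine ⟨⟨e, he, rfl⟩, ?_⟩
    have := r1_conj hr e
    rwa [h1.cB.conjBy_eq he] at this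
  · exact absurd (e.trans h3) hne

theorem fadj_symm {A B : Subgroup G} (h : FAdj S A B) : FAdj S B A := ⟨h.2.1, h.1, r1_symm h.2.2⟩

/-- reachability in the graph of rank one pairs -/
abbrev FReach (S : Set (Subgroup G)) : Subgroup G → Subgroup G → Prop :=
  Relation.ReflTransGen (FAdj S)

theorem freach_symm {A B : Subgroup G} (h : FReach S A B) : FReach S B A := by
  induction h with
  | refl => exact Relation.ReflTransGen.refl
  | tail _ h ih => exact Relation.ReflTransGen.head (fadj_symm h) ih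

theorem freach_two (hA : A ∈ S) (hB : B ∈ S) (hD : D ∈ S) (h1 : IsRankOnePair A D)
    (h2 : IsRankOnePair B D) : FReach S A B :=
  (Relation.ReflTransGen.single ⟨hA, hD, h1⟩).tail ⟨hD, hB, r1_symm h2⟩

theorem freach_of_line (hS : IsRootSubgroupSet S) (hA : A ∈ S) (hB : B ∈ linePartners S A)
    (hNA : NI S A) (hNB : NI S B) : FReach S A B := by
  have hBS := line_mem hB
  obtain ⟨C, hC, hrC⟩ := hNA
  obtain ⟨D, hD, hrD⟩ := hNB
  obtain ⟨Q, hQ, -, q1, q2, q3, q4, q5⟩ := line_lemma' hS hA hB hC hrC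
  by_cases e1 : B ≠ Q
  · exact freach_two hA hBS hC hrC (q5 B hBS le_sup_right e1).2
  push Not at e1
  subst e1
  obtain ⟨Q', hQ', -, -, -, -, -, r5⟩ := line_lemma' hS hBS (line_symm hA hB) hD hrD
  by_cases e2 : A ≠ Q'
  · exact freach_two hA hBS hD (r5 A hA le_sup_right e2).2 hrD
  push Not at e2
  subst e2
  obtain ⟨e, he, he1⟩ := exists_ne_one hS q1.mem
  have h1 := (r5 (conjBy A e) (hS.conj_mem A hA e) (by
    have := conjBy_le_sup_commutator (A := A) he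
    rwa [q3, sup_comm] at this) (q2.conj_ne hS ⟨C, hC, hrC⟩ he he1)).2
  have h2 := r1_conj h1 e⁻¹
  have h3 := r1_conj hrD e⁻¹
  rw [conjBy_inv_conjBy] at h2
  rw [q1.cA.conjBy_eq (Subgroup.inv_mem _ he)] at h3
  exact freach_two hA hBS (hS.conj_mem D hD _) h2 h3

theorem freach_conj (hS : IsRootSubgroupSet S) (g : G) :
    ∀ A ∈ S, NI S A → FReach S A (conjBy A g) := by
  induction g using root_induction hS with
  | h1 => intro A _ _; rw [conjBy_one]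
  | hm D hD d hd =>
    intro A hA hN
    rcases tri hS hA hD with h | h | h
    · rw [h.conjBy_eq' hd]
    · have := r1_conj h d
      rw [conjBy_of_mem hd] at this
      exact freach_two hA (hS.conj_mem A hA d) hD h this
    · by_cases hd1 : d = 1
      · rw [hd1, conjBy_one]
      · exact freach_of_line hS hA (h.line_conj hS hA hN hd hd1) hN (hN.conj hS d)
  | hmul x y hx hy =>
    intro A hA hN
    rw [← conjBy_conjBy]
    exact (hy A hA hN).trans (hx _ (hS.conj_mem A hA y) (hN.conj hS y))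

theorem conj_of_freach (h : FReach S A B) : ∃ g, B = conjBy A g := by
  induction h with
  | refl => exact ⟨1, by simp⟩
  | tail _ h ih =>
    obtain ⟨g, rfl⟩ := ih
    obtain ⟨x, -, e⟩ := r1_exists_swap h.2.2
    exact ⟨x * g, by rw [← e, conjBy_conjBy]⟩

theorem ni_of_freach (h : FReach S A B) (hne : B ≠ A) : NI S A := by
  rcases h.cases_head with e | ⟨C, h1, -⟩
  · exact absurd e.symm hne
  · exact ⟨C, h1.2.1, h1.2.2⟩

theorem ni_all_of_class (hS : IsRootSubgroupClass S) (hA : A ∈ S) (hN : NI S A) :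
    ∀ B ∈ S, NI S B := by
  intro B hB
  obtain ⟨g, rfl⟩ := hS.2.2 A hA B hB
  exact hN.conj hS.1 g

theorem connected_of_class (hS : IsRootSubgroupClass S) (hA : A ∈ S) (hN : NI S A) :
    IsConnectedFamily (FAdj S) S := by
  intro B hB C hC
  obtain ⟨g, rfl⟩ := hS.2.2 B hB C hC
  exact freach_conj hS.1 g B hB (ni_all_of_class hS hA hN B hB)

theorem class_of_connected (hS : IsRootSubgroupSet S) (hA : A ∈ S)
    (h : IsConnectedFamily (FAdj S) S) : IsRootSubgroupClass S :=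
  ⟨hS, ⟨A, hA⟩, fun B hB C hC => conj_of_freach (h B hB C hC)⟩

theorem ni_of_connected (h2 : ∃ A ∈ S, ∃ B ∈ S, A ≠ B)
    (h : IsConnectedFamily (FAdj S) S) : ∀ A ∈ S, NI S A := by
  obtain ⟨B, hB, C, hC, hne⟩ := h2
  intro A hA
  by_cases e : B = A
  · exact ni_of_freach (h A hA C hC) (e ▸ hne.symm)
  · exact ni_of_freach (h A hA B hB) e

theorem exists_line_of_psi (hS : IsRootSubgroupClass S) (hN : ∀ A ∈ S, NI S A) {P Q : Subgroup G}
    (hP : P ∈ S) (h : Psi S P Q) (hA : A ∈ S) : ∃ B, B ∈ linePartners S A := by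
  obtain ⟨g, rfl⟩ := hS.2.2 P hP A hA
  exact ⟨_, line_conj hS.1 (h.line hS.1 hP (hN P hP)) g⟩

theorem exists_line_psi_of_line (hS : IsRootSubgroupSet S) (hA : A ∈ S) (hC : C ∈ linePartners S A)
    (hB : B ∈ S) (hr : IsRankOnePair A B) :
    ∃ Q ∈ linePartners S A, Psi S Q B ∧ Psi S A ⁅Q, B⁆ ∧ ⁅A, ⁅Q, B⁆⁆ = Q := by
  obtain ⟨Q, hQ, h1, h2, h3, -⟩ := line_lemma hS hA hC hB hr
  have := h2.line hS hA ⟨B, hB, hr⟩
  rw [h3] at this
  exact ⟨Q, this, h1, h2, h3⟩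

/-- a rank one pair acting on a natural module is special -/
theorem special_of_module (hS : IsRootSubgroupSet S) (hA : A ∈ S) (hB : B ∈ S)
    (hr : IsRankOnePair A B)
    {Q : Subgroup G} (hAQ : Comm A Q) (h1 : Psi S Q B) (h2 : Psi S A ⁅Q, B⁆)
    (h3 : ⁅A, ⁅Q, B⁆⁆ = Q) : IsSpecialRankOnePair A B := by
  refine special_of_inv hr fun a b p => ⟨A.inv_mem p.1, B.inv_mem p.2.1, ?_⟩
  by_contra hne
  obtain ⟨e, he, he1⟩ := exists_ne_one hS h1.mem
  -- `a e a⁻¹` centralizes `a B a⁻¹ = b A b⁻¹`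
  have c1 : ∀ x ∈ A, (b⁻¹ * (a * e * a⁻¹) * b) * x = x * (b⁻¹ * (a * e * a⁻¹) * b) := by
    have := ((h1.cB.conj a).mono le_rfl p.2.2.le).conj b⁻¹
    rw [conjBy_inv_conjBy] at this
    simpa using this _ (conj_mem_conjBy (conj_mem_conjBy he a) b⁻¹)
  have hq : a * e * a⁻¹ * e⁻¹ ∈ Q := h3 ▸ comm_mem p.1 he
  set q := a * e * a⁻¹ * e⁻¹ with hqdef
  have he' : b⁻¹ * q * b⁻¹⁻¹ * q⁻¹ ∈ ⁅Q, B⁆ := comm_mem' hq (B.inv_mem p.2.1)
  set e' := b⁻¹ * q * b⁻¹⁻¹ * q⁻¹ with he'def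
  have hbe := h1.cB e he b p.2.1
  have hqe := h1.cA e he q hq
  have e1 : b⁻¹ * (a * e * a⁻¹) * b = e' * e * q := by
    calc b⁻¹ * (a * e * a⁻¹) * b = b⁻¹ * q * (e * b) := by rw [hqdef]; group
      _ = e' * (q * e) := by rw [hbe, he'def]; group
      _ = _ := by rw [← hqe]; group
  -- `z = e' e` centralizes both `A` and `B`
  have zA : ∀ x ∈ A, e' * e * x = x * (e' * e) := by
    intro x hx
    have := c1 x hx
    rw [e1] at this
    have haq := hAQ x hx q hq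
    clear_value q
    apply mul_right_cancel (b := q)
    calc e' * e * x * q = e' * e * q * x := by rw [mul_assoc, haq, ← mul_assoc]
      _ = _ := by rw [this]; group
  have zB : ∀ x ∈ B, e' * e * x = x * (e' * e) := h1.cB _ (Subgroup.mul_mem _ he' he)
  have zX : ∀ x ∈ A ⊔ B, e' * e * x = x * (e' * e) := by
    have : A ⊔ B ≤ Subgroup.centralizer {e' * e} :=
      sup_le (fun x hx => Subgroup.mem_centralizer_singleton_iff.2 (zA x hx).symm)
        (fun x hx => Subgroup.mem_centralizer_singleton_iff.2 (zB x hx).symm)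
    exact fun x hx => (Subgroup.mem_centralizer_singleton_iff.1 (this hx)).symm
  have hAX : conjBy A b⁻¹ ∈ unipotentSubgroups A B :=
    unip_conj_mem left_mem_unip (Subgroup.mem_sup_right (B.inv_mem p.2.1))
  have hBX : conjBy B a⁻¹ ∈ unipotentSubgroups A B :=
    unip_conj_mem (right_mem_unip hr) (Subgroup.mem_sup_left (A.inv_mem p.1))
  have e2 : a⁻¹ * e⁻¹ * a⁻¹⁻¹ = (e' * e)⁻¹ * (b⁻¹ * q * b⁻¹⁻¹) := by
    have haq := hAQ a p.1 q hq
    calc a⁻¹ * e⁻¹ * a⁻¹⁻¹ = e⁻¹ * (e * a⁻¹ * e⁻¹ * a) := by group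
      _ = e⁻¹ * (a⁻¹ * (q * a)) := by rw [hqdef]; group
      _ = _ := by rw [← haq, he'def]; group
  have : conjBy A b⁻¹ ⊔ conjBy B a⁻¹ ≤ Subgroup.centralizer {a⁻¹ * e⁻¹ * a⁻¹⁻¹} := by
    refine sup_le (fun x hx => ?_) (fun x hx => ?_) <;> rw [Subgroup.mem_centralizer_singleton_iff]
    · have k1 : Commute x (e' * e) := (zX x (unip_le hAX hx)).symm
      have k2 : Commute x (b⁻¹ * q * b⁻¹⁻¹) := hAQ.conj b⁻¹ x hx _ (conj_mem_conjBy hq _)
      rw [e2]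
      exact (k1.inv_right.mul_right k2).eq
    · exact (h1.cB.conj a⁻¹ _ (conj_mem_conjBy (Subgroup.inv_mem _ he) _) x hx).symm
  rw [sup_eq_of_unip hr hAX hBX hne] at this
  have k := Subgroup.mem_centralizer_singleton_iff.1 (this (Subgroup.mem_sup_left p.1))
  have k' : a * e = e * a := by
    have : a * e⁻¹ = e⁻¹ * a := by
      calc a * e⁻¹ = a * (a * (a⁻¹ * e⁻¹ * a⁻¹⁻¹)) * a⁻¹ := by group
        _ = _ := by rw [k]; group
    calc a * e = e * (e⁻¹ * a) * e := by group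
      _ = _ := by rw [← this]; group
  exact he1 (h2.inj hS hA ⟨B, hB, hr⟩ p.1 (p.ne_one hr) he k')

end Cfsg.Agent.Lib.Root
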