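import Cfsg.Agent.Lib.Root.Sub2

set_option autoImplicit false

/-! Abstract root subgroups: the natural module, containment of partner sets. -/

namespace Cfsg.Agent.Lib.Root

open Cfsg

variable {G : Type*} [Group G] {S : Set (Subgroup G)} {A B C D : Subgroup G}

theorem comm_commutator_of_forall {X : Subgroup G}
    (h : ∀ a ∈ A, ∀ b ∈ B, ∀ x ∈ X, (a * b * a⁻¹ * b⁻¹) * x = x * (a * b * a⁻¹ * b⁻¹)) :
    Comm ⁅A, B⁆ X := by
  rw [comm_iff_le_centralizer, Subgroup.commutator_le]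
  intro a ha b hb
  rw [Subgroup.mem_centralizer_iff]
  exact fun x hx => (h a ha b hb x hx).symm

theorem r1_of_double_psi (hS : IsRootSubgroupSet S) (hB : B ∈ S) (hD : D ∈ S)
    (h1 : Psi S A B) (h2 : Psi S D ⁅A, B⁆) (h3 : ⁅D, ⁅A, B⁆⁆ = A) : IsRankOnePair B D := by
  have hAD : Comm A D := h3 ▸ h2.cA
  rcases tri hS hD hB with h | h | h
  · exact absurd (comm_commutator hAD.symm h) (h2.not_comm hS)
  · exact r1_symm h
  exfalso
  obtain ⟨b, hb, hb1⟩ := exists_ne_one hS hB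
  have k1 : Comm (conjBy D b) D := h.comm_conj (self_comm hS hD) hb
  have k2 : Comm (conjBy A b) (conjBy D b) := hAD.conj b
  have k3 : Comm A (conjBy D b) := by
    rw [← h3]
    refine comm_commutator_of_forall fun d hd c hc x hx => ?_
    obtain ⟨a, ha, rfl⟩ := h1.surjR b hb hb1 c hc
    have c1 : Commute d x := (k1 x hx d hd).symm
    have c2 : Commute (b * a⁻¹ * b⁻¹) x := k2 _ (conj_mem_conjBy (A.inv_mem ha) b) x hx
    have c3 := hAD a ha d hd
    have e : d * (a * b * a⁻¹ * b⁻¹) * d⁻¹ * (a * b * a⁻¹ * b⁻¹)⁻¹ =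
        a * (d * (b * a⁻¹ * b⁻¹) * d⁻¹ * (b * a⁻¹ * b⁻¹)⁻¹) * a⁻¹ := by
      calc _ = (d * a) * (b * a⁻¹ * b⁻¹) * d⁻¹ * (b * a⁻¹ * b⁻¹)⁻¹ * a⁻¹ := by group
        _ = _ := by rw [← c3]; group
    have hm : d * (a * b * a⁻¹ * b⁻¹) * d⁻¹ * (a * b * a⁻¹ * b⁻¹)⁻¹ ∈ A := by
      have := comm_mem hd hc
      rwa [h3] at this
    have hAA : Comm A A := by
      have := self_comm hS h2.mem
      rwa [h3] at this
    have e2 : d * (a * b * a⁻¹ * b⁻¹) * d⁻¹ * (a * b * a⁻¹ * b⁻¹)⁻¹ =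
        d * (b * a⁻¹ * b⁻¹) * d⁻¹ * (b * a⁻¹ * b⁻¹)⁻¹ := by
      have := hAA _ hm a ha
      rw [e] at this ⊢
      calc _ = a⁻¹ * (a * (a * (d * (b * a⁻¹ * b⁻¹) * d⁻¹ * (b * a⁻¹ * b⁻¹)⁻¹) * a⁻¹)) := by group
        _ = _ := by rw [← this]; group
    rw [e2]
    exact (((c1.mul_left c2).mul_left c1.inv_left).mul_left c2.inv_left).eq
  have k4 : Comm ⁅A, B⁆ (conjBy D b) :=
    (k3.sup_left k2).mono (le_sup_right.trans (h1.sup_conj hb hb1).ge) le_rfl
  have k5 := k4.conj b⁻¹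
  rw [conjBy_inv_conjBy, h1.cB.conjBy_eq' (B.inv_mem hb)] at k5
  exact h2.not_comm hS k5.symm

theorem monoid_trick (R : Subgroup G → Subgroup G → Prop)
    (htr : ∀ U V W, R U V → R V W → R U W)
    (hcj : ∀ U V g, R U V → R (conjBy U g) (conjBy V g)) (hAC : Comm A C)
    (hA : IsRankOnePair A D) (hC : IsRankOnePair C D)
    (irr : ∀ c ∈ C, R D (conjBy D c) → c = 1) (h : R A C) : R C A := by
  have key : ∀ a ∈ A, a ≠ 1 → ∃ d, ∃ c ∈ C, conjBy A d = conjBy D a ∧ conjBy C d = conjBy D c ∧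
      R D (conjBy D (a⁻¹ * c)) := by
    intro a ha ha1
    obtain ⟨d, hd, hd1, e1⟩ := r1_exists hA ha ha1
    obtain ⟨c, hc, -, e2⟩ := r1_exists' hC hd hd1
    refine ⟨d, c, hc, e1, e2, ?_⟩
    have := hcj _ _ a⁻¹ (hcj _ _ d h)
    rwa [e1, e2, conjBy_inv_conjBy, conjBy_conjBy] at this
  obtain ⟨a, ha, ha1⟩ := exists_ne_one_of_ne_bot (r1_ne_bot hA)
  obtain ⟨d, c, hc, e1, e2, r1⟩ := key a ha ha1
  obtain ⟨d', c', hc', -, -, r2⟩ := key a⁻¹ (A.inv_mem ha) (inv_ne_one.2 ha1)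
  have r3 := hcj _ _ (a⁻¹ * c) r2
  have e3 : a⁻¹ * c * (a⁻¹⁻¹ * c') = c * c' := by
    calc _ = a⁻¹ * (c * a) * c' := by group
      _ = _ := by rw [← hAC a ha c hc]; group
  rw [conjBy_conjBy, e3] at r3
  have e4 := irr _ (C.mul_mem hc hc') (htr _ _ _ r1 r3)
  rw [e4, conjBy_one] at r3
  have r4 := hcj _ _ d⁻¹ (hcj _ _ a r3)
  rwa [conjBy_conjBy D a, mul_inv_cancel_left, ← e1, ← e2, conjBy_inv_conjBy,
    conjBy_inv_conjBy] at r4

/-- `CSub S U V`: every member of `S` commuting with `U` commutes with `V`. -/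
def CSub (S : Set (Subgroup G)) (U V : Subgroup G) : Prop := ∀ X ∈ S, Comm X U → Comm X V

/-- `OSub S U V`: every member of `S` opposite to `U` is opposite to `V`. -/
def OSub (S : Set (Subgroup G)) (U V : Subgroup G) : Prop :=
  ∀ X ∈ S, IsRankOnePair U X → IsRankOnePair V X

theorem CSub.conj (hS : IsRootSubgroupSet S) (h : CSub S A B) (g : G) :
    CSub S (conjBy A g) (conjBy B g) := by
  intro X hX hc
  have h1 := hc.conj g⁻¹
  rw [conjBy_inv_conjBy] at h1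
  have := (h _ (hS.conj_mem X hX g⁻¹) h1).conj g
  rwa [conjBy_conjBy_inv] at this

theorem OSub.conj (hS : IsRootSubgroupSet S) (h : OSub S A B) (g : G) :
    OSub S (conjBy A g) (conjBy B g) := by
  intro X hX hc
  have h1 := r1_conj hc g⁻¹
  rw [conjBy_inv_conjBy] at h1
  have := r1_conj (h _ (hS.conj_mem X hX g⁻¹) h1) g
  rwa [conjBy_conjBy_inv] at this

theorem csub_iff : CSub S A B ↔ centralizingMembers S A ⊆ centralizingMembers S B :=
  ⟨fun h X hX => ⟨hX.1, comm_iff_le_centralizer.1 (h X hX.1 (comm_iff_le_centralizer.2 hX.2))⟩,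
    fun h X hX hc => comm_iff_le_centralizer.2 (h ⟨hX, comm_iff_le_centralizer.1 hc⟩).2⟩

theorem osub_iff : OSub S A B ↔ rankOnePartners S A ⊆ rankOnePartners S B :=
  ⟨fun h X hX => ⟨hX.1, h X hX.1 hX.2⟩, fun h _ hX hc => (h ⟨hX, hc⟩).2⟩

theorem CSub.osub (hS : IsRootSubgroupSet S) (hA : A ∈ S) (hC : C ∈ S) (h : CSub S A C) :
    OSub S C A := by
  intro D hD hr
  rcases tri hS hA hD with h1 | h1 | h1
  · exact absurd (h D hD h1.symm).symm (r1_not_comm hr)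
  · exact h1
  exfalso
  obtain ⟨d, hd, hd1⟩ := exists_ne_one hS hD
  have h2 := h.conj hS d A hA (h1.comm_conj (self_comm hS hA) hd).symm
  exact r1_not_comm (r1_right_conj (r1_symm hr) hd hd1) (h _ (hS.conj_mem C hC d) h2.symm).symm

theorem CSub.symm (hS : IsRootSubgroupSet S) (hA : A ∈ S) (hC : C ∈ S) (hN : NI S C)
    (h : CSub S A C) : CSub S C A := by
  obtain ⟨D, hD, hr⟩ := hN
  refine monoid_trick (CSub S) (fun U V W h1 h2 X hX hc => h2 X hX (h1 X hX hc))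
    (fun U V g h => h.conj hS g) (h A hA (self_comm hS hA)) (h.osub hS hA hC D hD hr) hr
    (fun c hc h1 => ?_) h
  by_contra hc1
  exact r1_not_comm (r1_right_conj hr hc hc1) (h1 D hD (self_comm hS hD))

theorem OSub.not_psi (hS : IsRootSubgroupSet S) (hA : A ∈ S) (hC : C ∈ S)
    (hN : ∀ X ∈ S, NI S X) (h : OSub S A C) : ¬ Psi S A C := by
  intro hp
  have key : ∀ B ∈ S, IsRankOnePair A B → ¬ IsRankOnePair ⁅A, C⁆ B := by
    intro B hB hr hr'
    obtain ⟨Q, hQ, hle, q1, -⟩ := line_lemma' hS hC (hp.symm.line hS hC (hN C hC)) hB (h B hB hr)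
    rcases hp.symm.members hS hC (hN C hC) hQ hle with ⟨a, ha, rfl⟩ | e
    · have h1 := r1_conj (h _ (hS.conj_mem B hB a⁻¹) (r1_left_conj hr (A.inv_mem ha))) a
      rw [conjBy_conjBy_inv] at h1
      exact q1.not_r1 (self_comm hS hQ) h1
    · rw [e, Subgroup.commutator_comm] at q1
      exact q1.not_r1 (self_comm hS hp.mem) hr'
  obtain ⟨D, hD, hr⟩ := hN _ hp.mem
  obtain ⟨Q, hQ, hle, -, -, -, -, q5⟩ :=
    line_lemma' hS hp.mem (line_symm hA (hp.line hS hA (hN A hA))) hD hr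
  by_cases e : A = Q
  · obtain ⟨c, hc, hc1⟩ := exists_ne_one hS hC
    have h1 := (q5 _ (hS.conj_mem A hA c) (by rw [sup_comm]; exact conjBy_le_sup_commutator hc)
      (e ▸ hp.conj_ne hS (hN A hA) hc hc1)).2
    have h2 := r1_conj h1 c⁻¹
    have h3 := r1_conj hr c⁻¹
    rw [conjBy_inv_conjBy] at h2
    rw [hp.cB.conjBy_eq' (C.inv_mem hc)] at h3
    exact key _ (hS.conj_mem D hD _) h2 h3
  · exact key D hD (q5 A hA le_sup_right e).2 hr

theorem OSub.comm (hS : IsRootSubgroupSet S) (hA : A ∈ S) (hC : C ∈ S)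
    (hN : ∀ X ∈ S, NI S X) (h : OSub S A C) : Comm A C := by
  rcases tri hS hA hC with h1 | h1 | h1
  · exact h1
  · exact absurd rfl (h C hC h1).ne
  · exact absurd h1 (h.not_psi hS hA hC hN)

theorem OSub.symm (hS : IsRootSubgroupSet S) (hA : A ∈ S) (hC : C ∈ S)
    (hN : ∀ X ∈ S, NI S X) (h : OSub S A C) : OSub S C A := by
  obtain ⟨D, hD, hr⟩ := hN A hA
  refine monoid_trick (OSub S) (fun U V W h1 h2 X hX hc => h2 X hX (h1 X hX hc))
    (fun U V g h => h.conj hS g) (h.comm hS hA hC hN) hr (h D hD hr) (fun c hc h1 => ?_) h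
  by_contra hc1
  exact (h1 _ (hS.conj_mem D hD c) (r1_right_conj (h D hD hr) hc hc1)).ne rfl

end Cfsg.Agent.Lib.Root
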