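import Mathlib

set_option autoImplicit false

/-! # Certified coset enumeration

A certificate is a table of facts `(a, y, b)` meaning `K f(a) γ_y = K f(b)`.  Facts are packed as
`a + 2^20 * (b + 2^20 * y)` in pages of a binary tree.  Letters: `2k` generator `k`, `2k+1` its
inverse; letters `≥ 14` denote the identity. -/

namespace Cfsg.Agent.Lib.Root.TC

/-- pages of facts -/
inductive Tr where
  | leaf : ℕ → Tr
  | node : ℕ → Tr → Tr → Tr

/-- look up entry `i` (48 bits per entry, 64 entries per page) -/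
noncomputable def Tr.get (t : Tr) (i : ℕ) : ℕ :=
  Tr.rec (motive := fun _ => ℕ) (fun p => Nat.mod (Nat.shiftRight p (Nat.mul 48 (Nat.mod i 64))) 281474976710656)
    (fun k _ _ l r => Bool.rec l r (Nat.ble k i)) t

/-- source coset -/
def fa (e : ℕ) : ℕ := Nat.mod e 1048576
/-- target coset -/
def fb (e : ℕ) : ℕ := Nat.mod (Nat.shiftRight e 20) 1048576
/-- letter -/
def fy (e : ℕ) : ℕ := Nat.shiftRight e 40

variable {Γ : Type*} [Group Γ]

/-- value of a letter -/
def lv (γ : List Γ) (y : ℕ) : Γ :=
  if 14 ≤ y then 1 else if y % 2 = 0 then γ.getD (y / 2) 1 else (γ.getD (y / 2) 1)⁻¹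

/-- value of a word -/
def ev (γ : List Γ) (w : List ℕ) : Γ := (w.map (lv γ)).prod

/-- the inverse letter -/
def iv (y : ℕ) : ℕ := Nat.xor y 1

theorem iv_eq (y : ℕ) : iv y = if y % 2 = 0 then y + 1 else y - 1 := by
  have h : iv y = y ^^^ 1 := rfl
  rw [h]
  split_ifs with h1
  · exact Nat.xor_one_of_even (Nat.even_iff.2 h1)
  · exact Nat.xor_one_of_odd (Nat.odd_iff.2 (by omega))

theorem lv_iv (γ : List Γ) (y : ℕ) : lv γ (iv y) = (lv γ y)⁻¹ := by
  rw [iv_eq]
  unfold lv
  by_cases h1 : y % 2 = 0
  · have h2 : (y + 1) / 2 = y / 2 := by omega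
    by_cases h3 : 14 ≤ y
    · simp [h1, h3, show 14 ≤ y + 1 by omega]
    · simp [h1, h3, h2, show ¬ 14 ≤ y + 1 by omega, show ¬ (y + 1) % 2 = 0 by omega]
  · have h2 : (y - 1) / 2 = y / 2 := by omega
    by_cases h3 : 14 ≤ y
    · simp [h1, h3, show 14 ≤ y - 1 by omega]
    · simp [h1, h3, h2, show ¬ 14 ≤ y - 1 by omega, show (y - 1) % 2 = 0 by omega]

theorem ev_nil (γ : List Γ) : ev γ [] = 1 := rfl

theorem ev_cons (γ : List Γ) (y : ℕ) (w : List ℕ) : ev γ (y :: w) = lv γ y * ev γ w := by
  simp [ev]

/-- all rotations of the relators and their inverses, and the trivial relators -/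
def allRots (rels : List (List ℕ)) : List (List ℕ) :=
  [] :: ((List.range 14).map fun y => [y, iv y]) ++
    rels.flatMap fun r => ((List.range r.length).map fun k => r.rotate k) ++
      ((List.range r.length).map fun k => ((r.map iv).reverse).rotate k)

theorem ev_rotate (γ : List Γ) {w : List ℕ} (h : ev γ w = 1) (k : ℕ) : ev γ (w.rotate k) = 1 := by
  unfold ev at h ⊢
  rw [List.map_rotate]
  exact List.prod_rotate_eq_one_of_prod_eq_one h k

theorem ev_reverse (γ : List Γ) (w : List ℕ) : ev γ (w.map iv).reverse = (ev γ w)⁻¹ := by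
  induction w with
  | nil => simp [ev]
  | cons y w ih =>
    rw [ev_cons, mul_inv_rev, ← ih, ← lv_iv]
    simp [ev]

theorem ev_allRots (γ : List Γ) {rels : List (List ℕ)} (h : ∀ r ∈ rels, ev γ r = 1) :
    ∀ w ∈ allRots rels, ev γ w = 1 := by
  intro w hw
  simp only [allRots, List.cons_append, List.mem_cons, List.mem_append, List.mem_map,
    List.mem_flatMap] at hw
  rcases hw with rfl | ⟨y, -, rfl⟩ | ⟨r, hr, ⟨k, -, rfl⟩ | ⟨k, -, rfl⟩⟩
  · rfl
  · simp [ev, lv_iv]
  · exact ev_rotate γ (h r hr) k
  · exact ev_rotate γ (by rw [ev_reverse, h r hr, inv_one]) k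

/-- one move along the fact `e` from coset `c`; `k` is the continuation -/
noncomputable def move (e c : ℕ) (w : List ℕ) (k : ℕ → List ℕ → Bool) : Bool :=
  Bool.rec
    (List.rec false (fun x w' _ =>
      Bool.rec
        (Bool.rec false (k (fa e) w') (and (Nat.beq (fb e) c) (Nat.beq (iv (fy e)) x)))
        (k (fb e) w') (and (Nat.beq (fa e) c) (Nat.beq (fy e) x))) w)
    (Bool.rec (Bool.rec false (k (fa e) w) (Nat.beq (fb e) c)) (k (fb e) w) (Nat.beq (fa e) c))
    (Nat.ble 14 (fy e))

/-- trace the word along the facts `js` (all of index `< i`) from `c` to `a` -/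
noncomputable def trace (t : Tr) (i a : ℕ) (js : List ℕ) : ℕ → List ℕ → Bool :=
  List.rec (fun c w => and (Nat.beq c a) (List.rec true (fun _ _ _ => false) w))
    (fun j _ ih c w => and (Nat.blt j i) (move (t.get j) c w ih)) js

/-- check of fact number `i`: `J = []` definition or subgroup generator, otherwise a loop -/
noncomputable def chk1 (t : Tr) (rots : List (List ℕ)) (sub : List ℕ) (i : ℕ) (J : List ℕ) : Bool :=
  List.rec
    (or (and (Nat.beq (fb (t.get i)) i) (Nat.blt (fa (t.get i)) i))
      (and (and (Nat.beq (fa (t.get i)) 0) (Nat.beq (fb (t.get i)) 0))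
        (sub.contains (fy (t.get i)))))
    (fun r js _ =>
      Bool.rec
        (List.rec false (fun x w _ => and (Nat.beq x (fy (t.get i)))
          (trace t i (fa (t.get i)) js (fb (t.get i)) w)) (rots.getD r []))
        (trace t i (fa (t.get i)) js (fb (t.get i)) (rots.getD r []))
        (Nat.ble 14 (fy (t.get i)))) J

/-- check of the facts `i, i+1, ...` -/
noncomputable def chk (t : Tr) (rots : List (List ℕ)) (sub : List ℕ) (Js : List (List ℕ)) : ℕ → Bool :=
  List.rec (fun _ => true) (fun J _ ih i => and (chk1 t rots sub i J) (ih (Nat.succ i))) Js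

/-- coset representatives -/
noncomputable def rep (γ : List Γ) (t : Tr) (b : ℕ) : Γ :=
  if fa (t.get b) < b then rep γ t (fa (t.get b)) * lv γ (fy (t.get b)) else 1
termination_by b

theorem rep_zero (γ : List Γ) (t : Tr) : rep γ t 0 = 1 := by
  rw [rep]; simp

/-- the meaning of a fact -/
def Holds (γ : List Γ) (K : Subgroup Γ) (t : Tr) (i : ℕ) : Prop :=
  rep γ t (fa (t.get i)) * lv γ (fy (t.get i)) * (rep γ t (fb (t.get i)))⁻¹ ∈ K

/-- fact `i` follows from the previous ones -/
def Just (γ : List Γ) (K : Subgroup Γ) (t : Tr) (i : ℕ) : Prop :=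
  (∀ j < i, Holds γ K t j) → Holds γ K t i

variable {γ : List Γ} {K : Subgroup Γ} {t : Tr}

theorem move_spec {j c : ℕ} {w : List ℕ} {k : ℕ → List ℕ → Bool} {g : Γ} (hj : Holds γ K t j)
    (hk : ∀ c w, k c w = true → rep γ t c * ev γ w * g ∈ K)
    (h : move (t.get j) c w k = true) : rep γ t c * ev γ w * g ∈ K := by
  unfold Holds at hj
  generalize t.get j = e at hj h
  unfold move at h
  cases h1 : Nat.ble 14 (fy e) <;> rw [h1] at h
  · cases w with
    | nil => simp at h
    | cons x w =>
      simp only at h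
      cases h2 : (and (Nat.beq (fa e) c) (Nat.beq (fy e) x)) <;> rw [h2] at h
      · cases h3 : (and (Nat.beq (fb e) c) (Nat.beq (iv (fy e)) x)) <;> rw [h3] at h
        · simp at h
        · simp only [Bool.and_eq_true, Nat.beq_eq] at h3
          obtain ⟨rfl, rfl⟩ := h3
          have := K.mul_mem (K.inv_mem hj) (hk _ _ h)
          rw [ev_cons, lv_iv]
          simpa [mul_assoc] using this
      · simp only [Bool.and_eq_true, Nat.beq_eq] at h2
        obtain ⟨rfl, rfl⟩ := h2
        have := K.mul_mem hj (hk _ _ h)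
        rw [ev_cons]
        simpa [mul_assoc] using this
  · have h0 : lv γ (fy e) = 1 := by simp [lv, Nat.ble_eq.mp h1]
    rw [h0, mul_one] at hj
    cases h2 : Nat.beq (fa e) c <;> rw [h2] at h
    · cases h3 : Nat.beq (fb e) c <;> rw [h3] at h
      · simp at h
      · obtain rfl := Nat.eq_of_beq_eq_true h3
        have := K.mul_mem (K.inv_mem hj) (hk _ _ h)
        simpa [mul_assoc] using this
    · obtain rfl := Nat.eq_of_beq_eq_true h2
      have := K.mul_mem hj (hk _ _ h)
      simpa [mul_assoc] using this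

theorem trace_spec {i a : ℕ} (hi : ∀ j < i, Holds γ K t j) (js : List ℕ) :
    ∀ c w, trace t i a js c w = true → rep γ t c * ev γ w * (rep γ t a)⁻¹ ∈ K := by
  induction js with
  | nil =>
    intro c w h
    cases w with
    | nil =>
      have h' : (Nat.beq c a && true) = true := h
      simp only [Bool.and_true, Nat.beq_eq] at h'
      simp [h', ev_nil]
    | cons x w =>
      have h' : (Nat.beq c a && false) = true := h
      simp at h'
  | cons j js ih =>
    intro c w h
    have h' : (Nat.blt j i && move (t.get j) c w (trace t i a js)) = true := h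
    simp only [Bool.and_eq_true, Nat.blt_eq] at h'
    exact move_spec (hi j h'.1) ih h'.2

theorem chk1_spec {rots : List (List ℕ)} {sub : List ℕ} (hr : ∀ w ∈ rots, ev γ w = 1)
    (hs : ∀ y ∈ sub, lv γ y ∈ K) {i : ℕ} {J : List ℕ} (h : chk1 t rots sub i J = true) :
    Just γ K t i := by
  intro hi
  unfold Holds
  cases J with
  | nil =>
    have h' : (or (and (Nat.beq (fb (t.get i)) i) (Nat.blt (fa (t.get i)) i))
      (and (and (Nat.beq (fa (t.get i)) 0) (Nat.beq (fb (t.get i)) 0))
        (sub.contains (fy (t.get i))))) = true := h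
    simp only [Bool.or_eq_true, Bool.and_eq_true, Nat.beq_eq, Nat.blt_eq, List.contains_iff_mem] at h'
    rcases h' with ⟨h1, h2⟩ | ⟨⟨h1, h2⟩, h3⟩
    · rw [h1, rep.eq_1 γ t i, if_pos h2, mul_inv_cancel]
      exact K.one_mem
    · rw [h1, h2, rep_zero]
      simpa using hs _ h3
  | cons r js =>
    have h1 : ev γ (rots.getD r []) = 1 := by
      rcases lt_or_ge r rots.length with h2 | h2
      · rw [List.getD_eq_getElem _ _ h2]
        exact hr _ (List.getElem_mem _)
      · rw [List.getD_eq_default _ _ h2]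
        rfl
    have h' : (Bool.rec
        (List.rec false (fun x w _ => and (Nat.beq x (fy (t.get i)))
          (trace t i (fa (t.get i)) js (fb (t.get i)) w)) (rots.getD r []))
        (trace t i (fa (t.get i)) js (fb (t.get i)) (rots.getD r []))
        (Nat.ble 14 (fy (t.get i))) : Bool) = true := h
    generalize rots.getD r [] = w at h1 h'
    cases h2 : Nat.ble 14 (fy (t.get i)) <;> rw [h2] at h'
    · cases w with
      | nil => simp at h'
      | cons x w =>
        simp only [Bool.and_eq_true, Nat.beq_eq] at h'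
        obtain ⟨rfl, h3⟩ := h'
        have h4 := K.inv_mem (trace_spec hi js _ _ h3)
        rw [ev_cons] at h1
        rw [eq_inv_of_mul_eq_one_left h1]
        simpa [mul_assoc] using h4
    · have h0 : lv γ (fy (t.get i)) = 1 := by simp [lv, Nat.ble_eq.mp h2]
      have h4 := K.inv_mem (trace_spec hi js _ _ h')
      rw [h0]
      simpa [mul_assoc, h1] using h4

theorem chk_spec {rots : List (List ℕ)} {sub : List ℕ} (hr : ∀ w ∈ rots, ev γ w = 1)
    (hs : ∀ y ∈ sub, lv γ y ∈ K) (Js : List (List ℕ)) : ∀ {i : ℕ}, chk t rots sub Js i = true →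
    (∀ j < i, Holds γ K t j) → ∀ j < i + Js.length, Holds γ K t j := by
  induction Js with
  | nil => intro i _ h; simpa using h
  | cons J Js ih =>
    intro i h hi
    have h' : (chk1 t rots sub i J && chk t rots sub Js (i + 1)) = true := h
    simp only [Bool.and_eq_true] at h'
    have h1 := chk1_spec hr hs h'.1 hi
    have := ih h'.2 (fun j hj => (Nat.lt_succ_iff_lt_or_eq.1 hj).elim (hi j) fun e => e ▸ h1)
    simpa [add_assoc, add_comm 1] using this

/-- The final part of the table: cosets `B, ..., B+n-1` are permuted by the `g` generators, the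
facts being numbered from `M` on; fact `B` says that `B` is the trivial coset. -/
noncomputable def fin (t : Tr) (g B n M : ℕ) : Bool :=
  (List.range n).all (fun c => (List.range g).all fun k =>
    Nat.beq (fa (t.get (M + g * c + k))) (B + c) && Nat.beq (fy (t.get (M + g * c + k))) (2 * k) &&
      Nat.ble B (fb (t.get (M + g * c + k))) && Nat.blt (fb (t.get (M + g * c + k))) (B + n)) &&
  Nat.beq (fa (t.get B)) 0 && Nat.beq (fb (t.get B)) B && Nat.ble 14 (fy (t.get B)) &&
    Nat.blt B M && Nat.blt 0 n && Nat.ble g 7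

theorem fin_spec [Finite Γ] {B n M : ℕ} (h : fin t γ.length B n M = true)
    (hi : ∀ j < M + γ.length * n, Holds γ K t j) :
    Nat.card (Subgroup.closure {x | x ∈ γ}) ≤ n * Nat.card K := by
  simp only [fin, Bool.and_eq_true, List.all_eq_true, List.mem_range, Nat.beq_eq, Nat.ble_eq,
    Nat.blt_eq] at h
  obtain ⟨⟨⟨⟨⟨⟨h1, h2⟩, h3⟩, h4⟩, h5⟩, h6⟩, h7⟩ := h
  have key : ∀ g ∈ Subgroup.closure {x | x ∈ γ}, ∃ c < n, g * (rep γ t (B + c))⁻¹ ∈ K := by
    intro g hg
    rw [← Subgroup.mem_toSubmonoid, Subgroup.closure_toSubmonoid_of_finite] at hg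
    induction hg using Submonoid.closure_induction_right with
    | one =>
      have := hi B (by omega)
      unfold Holds at this
      rw [h2, h3, rep_zero] at this
      exact ⟨0, h6, by simpa [lv, h4] using this⟩
    | mul_right x hx y hy ih =>
      obtain ⟨c, hc, ih⟩ := ih
      obtain ⟨k, hk, rfl⟩ := List.getElem_of_mem hy
      obtain ⟨⟨⟨h8, h9⟩, h10⟩, h11⟩ := h1 c hc k hk
      have := hi (M + γ.length * c + k) (by nlinarith)
      unfold Holds at this
      rw [h8, h9] at this
      refine ⟨fb (t.get (M + γ.length * c + k)) - B, by omega, ?_⟩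
      rw [Nat.add_sub_cancel' h10]
      have h12 : lv γ (2 * k) = γ[k] := by
        simp [lv, show ¬ 14 ≤ 2 * k by omega, hk]
      rw [h12] at this
      simpa [mul_assoc] using K.mul_mem ih this
  choose c hc hc' using key
  let φ : Subgroup.closure {x | x ∈ γ} → Fin n × K := fun g => (⟨c g g.2, hc g g.2⟩, ⟨_, hc' g g.2⟩)
  have hφ : Function.Injective φ := by
    intro g g' e
    have e1 : c g g.2 = c g' g'.2 := congrArg (fun x => (x.1 : ℕ)) e
    have e2 : (g : Γ) * (rep γ t (B + c g g.2))⁻¹ = g' * (rep γ t (B + c g' g'.2))⁻¹ :=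
      congrArg (fun x => (x.2 : Γ)) e
    rw [e1] at e2
    exact Subtype.ext (mul_right_cancel e2)
  simpa using Nat.card_le_card_of_injective φ hφ

/-- digits in base `2^20`, shifted by one -/
noncomputable def dec (s : ℕ) : List ℕ :=
  Nat.rec (motive := fun _ => ℕ → List ℕ) (fun _ => [])
    (fun _ ih s => Bool.rec (Nat.pred (Nat.mod s 1048576) :: ih (Nat.shiftRight s 20)) []
      (Nat.beq s 0)) 100 s

/-- check of a chunk of packed justifications for the facts `i, ..., i' - 1` -/
noncomputable def chunk (t : Tr) (rots : List (List ℕ)) (sub : List ℕ) (Js : List ℕ) (i i' : ℕ) :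
    Bool :=
  and (chk t rots (14 :: sub) (Js.map dec) i) (Nat.beq (i + Js.length) i')

theorem chunk_spec {rels rots : List (List ℕ)} {sub : List ℕ} (hr : ∀ w ∈ rels, ev γ w = 1)
    (hrots : (rots.all fun w => (allRots rels).contains w) = true)
    (hs : ∀ y ∈ sub, lv γ y ∈ K) {Js : List ℕ} {i i' : ℕ} (h : chunk t rots sub Js i i' = true)
    (hi : ∀ j < i, Holds γ K t j) : ∀ j < i', Holds γ K t j := by
  simp only [chunk, Bool.and_eq_true, Nat.beq_eq] at h
  simp only [List.all_eq_true, List.contains_iff_mem] at hrots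
  have := chk_spec (fun w hw => ev_allRots γ hr w (hrots w hw)) (sub := 14 :: sub) (by
    intro y hy
    rcases List.mem_cons.1 hy with rfl | hy
    · simp [lv]
    · exact hs y hy) _ h.1 hi
  rwa [List.length_map, h.2] at this

theorem holds_zero : ∀ j < 0, Holds γ K t j := fun _ h => absurd h (Nat.not_lt_zero _)

end Cfsg.Agent.Lib.Root.TC
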