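import Cfsg.Agent.Lib.Root.RankOne

set_option autoImplicit false

/-! Unipotent linear groups. -/

namespace Cfsg.Agent.Lib.Root

open Cfsg

variable {k : Type*} [Field k] {M : Type*} [AddCommGroup M] [Module k M]

/-- abbreviation for the general linear group -/
abbrev GLM (k : Type*) [Field k] (M : Type*) [AddCommGroup M] [Module k M] :=
  LinearMap.GeneralLinearGroup k M

theorem le_normalizer_of_conj_le {G : Type*} [Group G] {Z Y : Subgroup G}
    (h : ∀ g ∈ Z, conjBy Y g ≤ Y) : Z ≤ Subgroup.normalizer (Y : Set G) := by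
  intro g hg
  refine mem_normalizer_iff_conjBy.2 (le_antisymm (h g hg) ?_)
  have := conjBy_mono (h g⁻¹ (Z.inv_mem hg)) g
  rwa [conjBy_conjBy_inv] at this

/-- the series `M, [M, H], [M, H, H], …` -/
noncomputable def ser (H : Subgroup (GLM k M)) : ℕ → Submodule k M
  | 0 => ⊤
  | n + 1 => ⨆ g ∈ H, (ser H n).map ((g : Module.End k M) - 1)

variable {H K N : Subgroup (GLM k M)}

theorem ser_succ_le {n : ℕ} {V : Submodule k M} :
    ser H (n + 1) ≤ V ↔ ∀ g ∈ H, ∀ m ∈ ser H n, ((g : Module.End k M) - 1) m ∈ V := by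
  simp only [ser, iSup_le_iff, Submodule.map_le_iff_le_comap]
  rfl

theorem mem_ser_succ {n : ℕ} {g : GLM k M} (hg : g ∈ H) {m : M} (hm : m ∈ ser H n) :
    ((g : Module.End k M) - 1) m ∈ ser H (n + 1) := ser_succ_le.1 le_rfl g hg m hm

theorem ser_anti : Antitone (ser H) := by
  refine antitone_nat_of_succ_le fun n => ?_
  induction n with
  | zero => exact le_top
  | succ n ih => exact ser_succ_le.2 fun g hg m hm => mem_ser_succ hg (ih hm)

theorem unip_def : IsUnipotentOn H ↔ ∃ n : ℕ, ∀ l : List (GLM k M), (∀ g ∈ l, g ∈ H) →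
    l.length = n → (l.map fun g : GLM k M => (g : M →ₗ[k] M) - 1).prod = 0 := by
  unfold IsUnipotentOn
  simp only [List.pure_def, List.bind_eq_flatMap, ← List.map_eq_flatMap, List.map_map]
  rfl

theorem unip_iff : IsUnipotentOn H ↔ ∃ n, ser H n = ⊥ := by
  rw [unip_def]
  refine exists_congr fun n => ⟨fun h => ?_, fun h l hl hn => ?_⟩
  · have key : ∀ n, ∀ P : Module.End k M, (∀ l : List (GLM k M), (∀ g ∈ l, g ∈ H) → l.length = n →
        P * (l.map fun g : GLM k M => (g : M →ₗ[k] M) - 1).prod = 0) → ser H n ≤ LinearMap.ker P := by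
      intro n
      induction n with
      | zero =>
        intro P hP
        have := hP [] (by simp) rfl
        simp only [List.map_nil, List.prod_nil, mul_one] at this
        simp [this]
      | succ n ih =>
        intro P hP
        refine ser_succ_le.2 fun g hg m hm => ih (P * ((g : Module.End k M) - 1)) (fun l hl hn => ?_) hm
        have := hP (g :: l) (by simpa [hg] using hl) (by simp [hn])
        rwa [List.map_cons, List.prod_cons, ← mul_assoc] at this
    have := key n 1 fun l hl hn => by rw [one_mul, h l hl hn]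
    rw [eq_bot_iff]
    intro m hm
    simpa using this hm
  · have key : ∀ l : List (GLM k M), (∀ g ∈ l, g ∈ H) → ∀ m,
        (l.map fun g : GLM k M => (g : M →ₗ[k] M) - 1).prod m ∈ ser H l.length := by
      intro l
      induction l with
      | nil => intro _ m; trivial
      | cons g l ih =>
        intro hl m
        rw [List.map_cons, List.prod_cons]
        exact mem_ser_succ (hl g (by simp)) (ih (fun g hg => hl g (by simp [hg])) m)
    ext m
    have := key l hl m
    rwa [hn, h] at this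

theorem unip_mono (h : IsUnipotentOn K) (hle : H ≤ K) : IsUnipotentOn H := by
  obtain ⟨n, hn⟩ := h
  exact ⟨n, fun l hl => hn l fun g hg => hle (hl g hg)⟩

theorem ser_invariant {g : GLM k M} (hg : conjBy H g ≤ H) :
    ∀ n, ∀ m ∈ ser H n, (g : Module.End k M) m ∈ ser H n := by
  intro n
  induction n with
  | zero => intro _ _; trivial
  | succ n ih =>
    refine ser_succ_le (V := (ser H (n + 1)).comap (g : Module.End k M)).2 fun h hh m hm => ?_
    have := mem_ser_succ (hg (conj_mem_conjBy hh g)) (ih m hm)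
    rw [Submodule.mem_comap]
    convert this using 1
    rw [← Module.End.mul_apply, ← Module.End.mul_apply]
    congr 1
    simp [mul_sub, sub_mul, mul_assoc]

theorem unip_sup_of_norm (hN : IsUnipotentOn N) (hK : IsUnipotentOn K)
    (h : ∀ g ∈ K, conjBy N g = N) : IsUnipotentOn (N ⊔ K) := by
  obtain ⟨n, hn⟩ := unip_iff.1 hN
  obtain ⟨m, hm⟩ := unip_iff.1 hK
  have inv : ∀ g ∈ K, ∀ i, ∀ v ∈ ser N i, (g : Module.End k M) v ∈ ser N i :=
    fun g hg => ser_invariant (h g hg).le
  have inv' : ∀ g ∈ K, ∀ i, ∀ v ∈ ser N i, ((g : Module.End k M) - 1) v ∈ ser N i :=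
    fun g hg i v hv => (ser N i).sub_mem (inv g hg i v hv) hv
  have k1 : ∀ a i, ser (N ⊔ K) a ≤ ser N i → ∀ j,
      ser (N ⊔ K) (a + j) ≤ ser N (i + 1) ⊔ (ser N i ⊓ ser K j) := by
    intro a i ha j
    induction j with
    | zero => exact le_sup_of_le_right (le_inf ha le_top)
    | succ j ih =>
      refine ser_succ_le.2 fun g hg v hv => ?_
      obtain ⟨x, hx, y, hy, rfl⟩ := (mem_sup_of_norm h).1 hg
      obtain ⟨v1, h1, v2, h2, rfl⟩ := Submodule.mem_sup.1 (ih hv)
      have e : ((x * y : GLM k M) : Module.End k M) - 1 =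
          ((x : Module.End k M) - 1) * y + ((y : Module.End k M) - 1) := by
        simp [sub_mul]
      rw [e, LinearMap.add_apply, Module.End.mul_apply, map_add ((y : Module.End k M) - 1)]
      refine Submodule.add_mem _ (Submodule.mem_sup_left (mem_ser_succ hx (inv y hy i _ ?_)))
        (Submodule.add_mem _ (Submodule.mem_sup_left (inv' y hy _ _ h1))
          (Submodule.mem_sup_right ⟨inv' y hy _ _ h2.1, mem_ser_succ hy h2.2⟩))
      exact (ser N i).add_mem (ser_anti (Nat.le_succ i) h1) h2.1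
  have k2 : ∀ i, ser (N ⊔ K) (i * m) ≤ ser N i := by
    intro i
    induction i with
    | zero => exact le_top
    | succ i ih =>
      have := k1 _ i ih m
      rwa [hm, inf_bot_eq, sup_bot_eq, ← Nat.succ_mul] at this
  exact unip_iff.2 ⟨n * m, eq_bot_iff.2 (hn ▸ k2 n)⟩

/-- `r` lowers the filtration `F` by `j` steps -/
def Low (F : ℕ → Submodule k M) (j : ℕ) (r : Module.End k M) : Prop :=
  ∀ i, ∀ m ∈ F i, r m ∈ F (i + j)

variable {F : ℕ → Submodule k M} {a b : ℕ} {r s : Module.End k M}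

theorem Low.mul (h1 : Low F a r) (h2 : Low F b s) : Low F (a + b) (r * s) := fun i m hm => by
  have := h1 _ _ (h2 i m hm)
  rwa [add_assoc, add_comm b] at this

theorem Low.add (h1 : Low F a r) (h2 : Low F a s) : Low F a (r + s) := fun i m hm =>
  (F _).add_mem (h1 i m hm) (h2 i m hm)

theorem Low.sub (h1 : Low F a r) (h2 : Low F a s) : Low F a (r - s) := fun i m hm =>
  (F _).sub_mem (h1 i m hm) (h2 i m hm)

theorem Low.smul (h1 : Low F a r) (c : k) : Low F a (c • r) := fun i m hm =>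
  (F _).smul_mem c (h1 i m hm)

theorem Low.mono (hF : Antitone F) (h1 : Low F a r) (h : b ≤ a) : Low F b r := fun i m hm =>
  hF (Nat.add_le_add_left h i) (h1 i m hm)

theorem low_one : Low F 0 1 := fun _ _ hm => hm

theorem Low.zero_of_sub (hF : Antitone F) (h1 : Low F a (r - 1)) : Low F 0 r := by
  simpa using (h1.mono hF (Nat.zero_le _)).add low_one

/-- the group of elements acting on the filtration `F` as `1 +` (degree `j`) -/
def stabF (F : ℕ → Submodule k M) (hF : Antitone F) (j : ℕ) : Subgroup (GLM k M) where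
  carrier := {g | Low F j ((g : Module.End k M) - 1) ∧ Low F j (((g⁻¹ : GLM k M) : Module.End k M) - 1)}
  one_mem' := by
    constructor <;> intro i m _ <;> simp
  mul_mem' := by
    have key : ∀ g h : GLM k M, Low F j ((g : Module.End k M) - 1) →
        Low F j ((h : Module.End k M) - 1) → Low F j (((g * h : GLM k M) : Module.End k M) - 1) := by
      intro g h h1 h2
      have := (h1.mul (h2.zero_of_sub hF)).add h2
      simpa [sub_mul] using this
    intro g h hg hh
    exact ⟨key g h hg.1 hh.1, by rw [mul_inv_rev]; exact key _ _ hh.2 hg.2⟩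
  inv_mem' := fun {g} hg => ⟨hg.2, by simpa using hg.1⟩

theorem le_stabF {hF : Antitone F} (h : ∀ g ∈ H, Low F a ((g : Module.End k M) - 1)) :
    H ≤ stabF F hF a := fun g hg => ⟨h g hg, h _ (H.inv_mem hg)⟩

theorem stabF_comm {hF : Antitone F} {g h : GLM k M} (hg : g ∈ stabF F hF a)
    (hh : h ∈ stabF F hF b) : g * h * g⁻¹ * h⁻¹ ∈ stabF F hF (a + b) := by
  have key : ∀ {a b : ℕ} {g h : GLM k M}, g ∈ stabF F hF a → h ∈ stabF F hF b →
      Low F (a + b) (((g * h * g⁻¹ * h⁻¹ : GLM k M) : Module.End k M) - 1) := by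
    intro a b g h hg hh
    have h1 := hh.1.mul hg.1
    rw [add_comm] at h1
    have := (((hg.1.mul hh.1).sub h1).mul (hg.2.zero_of_sub hF)).mul (hh.2.zero_of_sub hF)
    have e : ((g : Module.End k M) - 1) * ((h : Module.End k M) - 1) -
        ((h : Module.End k M) - 1) * ((g : Module.End k M) - 1) = g * h - h * g := by noncomm_ring
    rw [e] at this
    simpa [sub_mul, mul_assoc] using this
  refine ⟨key hg hh, ?_⟩
  have := key hh hg
  rw [add_comm] at this
  convert this using 3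
  group

theorem unip_stabF (hF : Antitone F) {n : ℕ} (hn : F n = ⊥) (h0 : F 0 = ⊤) :
    IsUnipotentOn (stabF F hF 1) := by
  have : ∀ i, ser (stabF F hF 1) i ≤ F i := by
    intro i
    induction i with
    | zero => rw [h0]; exact le_top
    | succ i ih => exact ser_succ_le.2 fun g hg m hm => hg.1 i m (ih hm)
  exact unip_iff.2 ⟨n, eq_bot_iff.2 (hn ▸ this n)⟩

theorem le_stabF_ser : H ≤ stabF (ser H) ser_anti 1 :=
  le_stabF fun _ hg _ _ hm => mem_ser_succ hg hm

/-- the non-unital algebra generated by the `g - 1` -/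
noncomputable def augAlg (H : Subgroup (GLM k M)) : Submodule k (Module.End k M) :=
  (NonUnitalAlgebra.adjoin k ((fun g : GLM k M => (g : Module.End k M) - 1) '' H)).toSubmodule

theorem augAlg_mono (h : H ≤ K) : augAlg H ≤ augAlg K :=
  fun _ hx => NonUnitalAlgebra.adjoin_mono (Set.image_mono h) hx

theorem mem_augAlg {g : GLM k M} (hg : g ∈ H) : (g : Module.End k M) - 1 ∈ augAlg H :=
  NonUnitalAlgebra.subset_adjoin k ⟨g, hg, rfl⟩

theorem augAlg_mul (h1 : r ∈ augAlg H) (h2 : s ∈ augAlg H) : r * s ∈ augAlg H :=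
  mul_mem (S := NonUnitalSubalgebra k (Module.End k M)) h1 h2

theorem low_of_mem_augAlg (h : r ∈ augAlg H) : Low (ser H) 1 r := by
  change r ∈ NonUnitalAlgebra.adjoin k _ at h
  induction h using NonUnitalAlgebra.adjoin_induction with
  | mem x hx =>
    obtain ⟨g, hg, rfl⟩ := hx
    exact (le_stabF_ser hg).1
  | add x y _ _ h1 h2 => exact h1.add h2
  | zero => intro i m _; simp
  | mul x y _ _ h1 h2 => exact (h1.mul h2).mono ser_anti (by omega)
  | smul c x _ h1 => exact h1.smul c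

theorem unip_of_pairwise [FiniteDimensional k M] {G : Subgroup (GLM k M)}
    {W : Set (Subgroup (GLM k M))} (hWG : ∀ A ∈ W, A ≤ G)
    (hWW : ∀ A ∈ W, ∀ B ∈ W, IsUnipotentOn (A ⊔ B))
    (hWconj : ∀ A ∈ W, ∀ g ∈ G, conjBy A g ∈ W) : IsUnipotentOn (⨆ A ∈ W, A) := by
  rw [← sSup_eq_iSup]
  let sat : Set (Subgroup (GLM k M)) → Set (Subgroup (GLM k M)) := fun T =>
    {A | A ∈ W ∧ ∀ g ∈ A, (g : Module.End k M) - 1 ∈ augAlg (sSup T)}
  let sh : Set (Subgroup (GLM k M)) → Set (Subgroup (GLM k M)) := fun T =>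
    {A | A ∈ W ∧ A ≤ stabF (ser (sSup T)) ser_anti 1}
  have sh_le : ∀ T, sSup (sh T) ≤ stabF (ser (sSup T)) ser_anti 1 := fun T => sSup_le fun A hA => hA.2
  have sh_unip : ∀ T, IsUnipotentOn (sSup T) → IsUnipotentOn (sSup (sh T)) := by
    intro T hT
    obtain ⟨n, hn⟩ := unip_iff.1 hT
    exact unip_mono (unip_stabF ser_anti hn rfl) (sh_le T)
  have sub_sh : ∀ T ⊆ W, T ⊆ sh T := fun T hT A hA => ⟨hT hA, (le_sSup hA).trans le_stabF_ser⟩
  have sub_sat : ∀ T ⊆ W, T ⊆ sat T := fun T hT A hA =>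
    ⟨hT hA, fun g hg => mem_augAlg (le_sSup hA hg)⟩
  have sat_sh : ∀ T S, T ⊆ S → sat T ⊆ sh S := fun T S h A hA =>
    ⟨hA.1, le_stabF fun g hg => low_of_mem_augAlg (augAlg_mono (sSup_le_sSup h) (hA.2 g hg))⟩
  have sat_sat : ∀ T, ∀ A ∈ W, A ≤ sSup (sat T) → A ∈ sat T := by
    intro T A hA hle
    refine ⟨hA, fun g hg => ?_⟩
    have hg := hle hg
    rw [sSup_eq_iSup'] at hg
    refine Subgroup.iSup_induction _ 
      (C := fun g : GLM k M => (g : Module.End k M) - 1 ∈ augAlg (sSup T)) hg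
      (fun B x hx => B.2.2 x hx) (by simp) fun x y h1 h2 => ?_
    have := Submodule.add_mem _ (Submodule.add_mem _ (augAlg_mul h1 h2) h1) h2
    convert this using 1
    simp [sub_mul, mul_sub]
  have lt_aug : ∀ T ⊆ W, ∀ A ∈ W, A ∉ sat T → ∀ T', T ⊆ T' → A ∈ T' →
      augAlg (sSup T) < augAlg (sSup T') := by
    intro T _ A hA hn T' h1 h2
    refine lt_of_le_of_ne (augAlg_mono (sSup_le_sSup h1)) fun e => hn ⟨hA, fun g hg => ?_⟩
    rw [e]
    exact mem_augAlg (le_sSup h2 hg)
  have norm : ∀ T S, T ⊆ S → IsUnipotentOn (sSup S) → ¬ sh S ⊆ sat T →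
      ∃ A ∈ sh S, A ∉ sat T ∧ ∀ g ∈ A, conjBy (sSup (sat T)) g = sSup (sat T) := by
    intro T S hTS hS hn
    obtain ⟨n, hn0⟩ := unip_iff.1 hS
    set V := sSup (sat T) with hV
    let Z : ℕ → Subgroup (GLM k M) := fun j => G ⊓ stabF (ser (sSup S)) ser_anti (j + 1)
    have hVZ : V ≤ Z 0 := sSup_le fun A hA => le_inf (hWG A hA.1) (sat_sh T S hTS hA).2
    have hZ0 : ∀ j, Z j ≤ Z 0 := fun j g hg =>
      ⟨hg.1, hg.2.1.mono ser_anti (by omega), hg.2.2.mono ser_anti (by omega)⟩
    have hP : ∃ j, ∀ A ∈ W, A ≤ V ⊔ Z j → A ∈ sat T := by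
      refine ⟨n, fun A hA hle => sat_sat T A hA ?_⟩
      have : Z n = ⊥ := by
        rw [eq_bot_iff]
        intro g hg
        rw [Subgroup.mem_bot]
        ext m
        have := ser_anti (show n ≤ 0 + (n + 1) by omega) (hg.2.1 0 m trivial)
        rw [hn0, Submodule.mem_bot] at this
        simpa [sub_eq_zero] using this
      rwa [this, sup_bot_eq] at hle
    classical
    have h0 : Nat.find hP ≠ 0 := by
      intro e
      have := Nat.find_spec hP
      rw [e] at this
      exact hn fun A hA => this A hA.1 (le_sup_of_le_right (le_inf (hWG A hA.1) hA.2))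
    obtain ⟨j, hj⟩ := Nat.exists_eq_succ_of_ne_zero h0
    have h1 := Nat.find_spec hP
    have h2 := Nat.find_min hP (show j < Nat.find hP by omega)
    rw [hj] at h1
    push Not at h2
    obtain ⟨A, hA, hle, hA'⟩ := h2
    have hle0 : A ≤ Z 0 := hle.trans (sup_le hVZ (hZ0 j))
    refine ⟨A, ⟨hA, hle0.trans inf_le_right⟩, hA', fun g hg => mem_normalizer_iff_conjBy.1 ?_⟩
    have h3 : V ⊔ Z j ≤ Subgroup.normalizer ((V ⊔ Z (j + 1) : Subgroup (GLM k M)) : Set (GLM k M)) := by
      refine sup_le (le_sup_left.trans Subgroup.le_normalizer) (le_normalizer_of_conj_le ?_)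
      intro z hz
      have key : ∀ v ∈ V ⊔ Z (j + 1), v ∈ Z 0 → z * v * z⁻¹ ∈ V ⊔ Z (j + 1) := by
        intro v hv hv0
        have : z * v * z⁻¹ = (z * v * z⁻¹ * v⁻¹) * v := by group
        rw [this]
        refine Subgroup.mul_mem _ (Subgroup.mem_sup_right ⟨?_, stabF_comm hz.2 hv0.2⟩) hv
        exact G.mul_mem (G.mul_mem (G.mul_mem hz.1 hv0.1) (G.inv_mem hz.1)) (G.inv_mem hv0.1)
      intro x hx
      obtain ⟨v, hv, rfl⟩ := mem_conjBy'.1 hx
      exact key v hv (sup_le hVZ (hZ0 _) hv)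
    refine le_normalizer_of_conj_le (Z := A) (fun g hg => ?_) hg
    rw [hV, sSup_eq_iSup, conjBy_iSup₂]
    refine iSup₂_le fun B hB => le_iSup₂_of_le (conjBy B g) (h1 _ (hWconj B hB.1 g (hWG A hA hg)) ?_) le_rfl
    rw [← mem_normalizer_iff_conjBy.1 (h3 (hle hg))]
    exact conjBy_mono (le_sup_of_le_left (le_sSup hB)) g
  have main : ∀ J : Submodule k (Module.End k M), ∀ T ⊆ W, augAlg (sSup T) = J →
      ∀ S₁ ⊆ W, ∀ S₂ ⊆ W, T ⊆ S₁ → T ⊆ S₂ → IsUnipotentOn (sSup S₁) → IsUnipotentOn (sSup S₂) →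
      IsUnipotentOn (sSup (S₁ ∪ S₂)) := by
    intro J
    induction J using WellFoundedGT.induction with
    | ind J ih =>
    rintro T hT rfl S₁ h1 S₂ h2 t1 t2 u1 u2
    by_cases c1 : sh S₁ ⊆ sat T
    · refine unip_mono (sh_unip _ u2) (sSup_le_sSup (Set.union_subset ?_ (sub_sh _ h2)))
      exact ((sub_sh _ h1).trans c1).trans (sat_sh _ _ t2)
    by_cases c2 : sh S₂ ⊆ sat T
    · refine unip_mono (sh_unip _ u1) (sSup_le_sSup (Set.union_subset (sub_sh _ h1) ?_))
      exact ((sub_sh _ h2).trans c2).trans (sat_sh _ _ t1)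
    obtain ⟨A₁, a1, a2, a3⟩ := norm T S₁ t1 u1 c1
    obtain ⟨A₂, b1, b2, b3⟩ := norm T S₂ t2 u2 c2
    have hsat : sat T ⊆ W := fun A hA => hA.1
    have hsh : ∀ S, sh S ⊆ W := fun S A hA => hA.1
    have u3 : IsUnipotentOn (sSup (sat T ∪ {A₁, A₂})) := by
      rw [sSup_union, sSup_pair]
      refine unip_sup_of_norm (unip_mono (sh_unip _ u1) (sSup_le_sSup (sat_sh _ _ t1)))
        (hWW _ a1.1 _ b1.1) fun g hg => mem_normalizer_iff_conjBy.1 ?_
      exact (sup_le (fun g hg => mem_normalizer_iff_conjBy.2 (a3 g hg))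
        (fun g hg => mem_normalizer_iff_conjBy.2 (b3 g hg)) : A₁ ⊔ A₂ ≤ _) hg
    have w3 : sat T ∪ {A₁, A₂} ⊆ W := by
      rintro A (hA | rfl | rfl)
      exacts [hA.1, a1.1, b1.1]
    have u4 := ih _ (lt_aug T hT A₁ a1.1 a2 (insert A₁ T) (Set.subset_insert _ _) (Set.mem_insert _ _))
      _ (Set.insert_subset a1.1 hT) rfl _ (hsh S₁) _ w3
      (Set.insert_subset a1 ((sub_sat T hT).trans (sat_sh _ _ t1)))
      (Set.insert_subset (Or.inr (by simp)) ((sub_sat T hT).trans Set.subset_union_left))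
      (sh_unip _ u1) u3
    have u5 := ih _ (lt_aug T hT A₂ b1.1 b2 (insert A₂ T) (Set.subset_insert _ _) (Set.mem_insert _ _))
      _ (Set.insert_subset b1.1 hT) rfl _ (Set.union_subset (hsh S₁) w3) _ (hsh S₂)
      (Set.insert_subset (Or.inr (Or.inr (by simp)))
        (((sub_sat T hT).trans (sat_sh _ _ t1)).trans Set.subset_union_left))
      (Set.insert_subset b1 ((sub_sat T hT).trans (sat_sh _ _ t2))) u4 (sh_unip _ u2)
    refine unip_mono u5 (sSup_le_sSup (Set.union_subset_union ?_ (sub_sh _ h2)))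
    exact (sub_sh _ h1).trans Set.subset_union_left
  have fin : ∀ J : Submodule k (Module.End k M), ∀ T ⊆ W, augAlg (sSup T) = J →
      IsUnipotentOn (sSup T) → IsUnipotentOn (sSup W) := by
    intro J
    induction J using WellFoundedGT.induction with
    | ind J ih =>
    rintro T hT rfl u
    by_cases c : W ⊆ sat T
    · exact unip_mono (sh_unip _ u) (sSup_le_sSup (c.trans (sat_sh _ _ le_rfl)))
    obtain ⟨A, hA, hn⟩ := Set.not_subset.1 c
    refine ih _ (lt_aug T hT A hA hn (T ∪ {A}) Set.subset_union_left (Or.inr rfl)) _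
      (Set.union_subset hT (by simpa using hA)) rfl ?_
    refine main _ ∅ (Set.empty_subset _) rfl T hT {A} (by simpa using hA) (Set.empty_subset _)
      (Set.empty_subset _) u ?_
    simpa using hWW A hA A hA
  refine fin _ ∅ (Set.empty_subset _) rfl (unip_def.2 ⟨1, fun l hl hn => ?_⟩)
  obtain ⟨g, rfl⟩ := List.length_eq_one_iff.1 hn
  have := hl g (by simp)
  rw [sSup_empty, Subgroup.mem_bot] at this
  simp [this]

theorem conjBy_iSup_eq {Γ : Type*} [Group Γ] {G : Subgroup Γ} {W : Set (Subgroup Γ)}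
    (hWconj : ∀ A ∈ W, ∀ g ∈ G, conjBy A g ∈ W) :
    ∀ g ∈ G, conjBy (⨆ A ∈ W, A) g = ⨆ A ∈ W, A := by
  intro g hg
  refine mem_normalizer_iff_conjBy.1 (le_normalizer_of_conj_le (fun g hg => ?_) hg)
  rw [conjBy_iSup₂]
  exact iSup₂_le fun A hA => le_iSup₂_of_le _ (hWconj A hA g hg) le_rfl

/-- `G` has no non-trivial unipotent normal subgroup -/
def NoUnip (G : Subgroup (GLM k M)) : Prop :=
  ∀ V ≤ G, (∀ g ∈ G, conjBy V g = V) → IsUnipotentOn V → V = ⊥

theorem noUnip_of_irred {G : Subgroup (GLM k M)} (h : IsIrreducibleFor G) : NoUnip G := by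
  intro V _ hV hu
  obtain ⟨n, hn⟩ := unip_iff.1 hu
  rcases h.2 (ser V 1) (fun g hg => ser_invariant (hV g hg).le 1) with e | e
  · rw [eq_bot_iff]
    intro g hg
    rw [Subgroup.mem_bot]
    ext m
    have := mem_ser_succ (n := 0) hg (m := m) trivial
    rw [e, Submodule.mem_bot] at this
    simpa [sub_eq_zero] using this
  · exfalso
    have : ∀ n, ser V n = ⊤ := by
      intro n
      induction n with
      | zero => rfl
      | succ n ih => rw [ser, ih]; exact e
    obtain ⟨m, hm⟩ := h.1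
    rw [this] at hn
    exact hm (by rw [← Submodule.mem_bot k, ← hn]; trivial)

end Cfsg.Agent.Lib.Root
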